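import Cfsg.Agent.PushUp62.Main

/-!
Further consequences of pushing up for primes other than three.
-/

set_option autoImplicit false
set_option linter.unusedSectionVars false
set_option linter.unusedVariables false
set_option linter.style.haveILetI false

namespace Cfsg.Agent.PushUp62

open scoped MatrixGroups commutatorElement
open Cfsg.Agent.LocalEven61 (pslMap PUSetup)

namespace Amb

variable {H : Type*} [Group H] [Finite H] {F : Type} [Field F] [Fintype F] {p : ℕ} [Fact p.Prime]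
  [CharP F p] (A : Amb H F p)

/-- An automorphism of `S` moving `V` out of `Q` fixes `[Q, Q]`, and `[S, S] = [S, V]` if `Q` is abelian. -/
theorem of_moved {a : H} (ha : a ∈ Subgroup.normalizer (A.S : Set H))
    (hmv : ¬ cj a A.V ≤ A.Q) :
    cj a ⁅A.Q, A.Q⁆ = ⁅A.Q, A.Q⁆ ∧ (⁅A.Q, A.Q⁆ = ⊥ → ⁅A.S, A.S⁆ ≤ ⁅A.S, A.V⁆) := by
  have h11 : A.Inc 1 1 := ⟨1, by simp, by simp⟩
  have ha1 : A.Inc a 1 := ⟨a, by simp, by simpa using ha⟩
  let P : A.Path 1 := ⟨fun i => if i = 0 then a else 1, fun _ => 1,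
    fun i hi => by obtain rfl : i = 0 := (by omega); simpa using ha1,
    fun i hi => by obtain rfl : i = 0 := (by omega); simpa using h11⟩
  have hs : A.Short 1 := fun d hd P => by
    obtain rfl : d = 0 := by omega
    exact A.Vv_le_Qv _
  have hS1 : A.Se 1 = A.S := cj_one _
  have hQ1 : A.Qv 1 = A.Q := cj_one _
  have hV1 : A.Vv 1 = A.V := cj_one _
  have hc : A.Crit P := by
    show ¬ A.Vv a ≤ A.Qv 1
    rwa [hQ1]
  have hW : A.Vv a ≤ A.S := hS1 ▸ A.Vv_le_Se ha1
  have hQa : A.Qv a ≤ A.S := hS1 ▸ A.Qv_le_Se ha1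
  have hdec1 : ∀ q ∈ A.Q, ∃ v ∈ A.V, ∃ d ∈ A.Q ⊓ A.Qv a, q = v * d := fun q hq => by
    obtain ⟨w, hw, r, hr, e⟩ := A.decomp_first hs P hc (s := q) (by
      show q ∈ A.Se 1
      rw [hS1]; exact A.Q_le hq)
    change w ∈ A.Vv 1 at hw
    change r ∈ A.Qv a at hr
    rw [hV1] at hw
    refine ⟨w, hw, r, ⟨?_, hr⟩, e⟩
    rw [show r = w⁻¹ * q by rw [e]; group]
    exact A.Q.mul_mem (A.Q.inv_mem (A.V_le hw)) hq
  have hdec2 : ∀ q ∈ A.Qv a, ∃ v ∈ A.Vv a, ∃ d ∈ A.Q ⊓ A.Qv a, q = v * d := fun q hq => by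
    obtain ⟨w, hw, r, hr, e⟩ := A.decomp hs P hc (s := q) (by
      show q ∈ A.Se 1
      rw [hS1]; exact hQa hq)
    change w ∈ A.Vv a at hw
    change r ∈ A.Qv 1 at hr
    rw [hQ1] at hr
    refine ⟨w, hw, r, ⟨hr, ?_⟩, e⟩
    rw [show r = w⁻¹ * q by rw [e]; group]
    exact (A.Qv a).mul_mem ((A.Qv a).inv_mem (A.Vv_le_Qv a hw)) hq
  have key : ∀ (X W : Subgroup H), (∀ x ∈ X, ∀ w ∈ W, x * w = w * x) → A.Q ⊓ A.Qv a ≤ X → W ≤ X →
      (∀ q ∈ X, ∃ v ∈ W, ∃ d ∈ A.Q ⊓ A.Qv a, q = v * d) →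
      ⁅X, X⁆ = ⁅A.Q ⊓ A.Qv a, A.Q ⊓ A.Qv a⁆ := by
    intro X W hcomm hD hWX hdec
    refine le_antisymm (Subgroup.commutator_le.2 fun x hx y hy => ?_) (Subgroup.commutator_mono hD hD)
    obtain ⟨v, hv, d, hd, rfl⟩ := hdec x hx
    obtain ⟨v', hv', d', hd', rfl⟩ := hdec y hy
    have e1 : ⁅v * d, v' * d'⁆ = ⁅d, v' * d'⁆ := by
      have h1 : Commute v (⁅d, v' * d'⁆) :=
        (show Commute ⁅d, v' * d'⁆ v from hcomm _ (X.mul_mem (X.mul_mem (X.mul_mem (hD hd) hy)
          (X.inv_mem (hD hd))) (X.inv_mem hy)) v hv).symm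
      rw [commutator_mul_left, commutatorElement_eq_one_iff_mul_comm.2 (hcomm _ hy v hv).symm, mul_one,
        h1.eq, mul_inv_cancel_right]
    have e2 : ⁅d, v' * d'⁆ = ⁅d, d'⁆ := by
      have h1 : Commute v' ⁅d, d'⁆ :=
        (show Commute ⁅d, d'⁆ v' from hcomm _ (X.mul_mem (X.mul_mem (X.mul_mem (hD hd) (hD hd'))
          (X.inv_mem (hD hd))) (X.inv_mem (hD hd'))) v' hv').symm
      rw [commutator_mul_right, commutatorElement_eq_one_iff_mul_comm.2 (hcomm _ (hD hd) v' hv'),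
        one_mul, h1.eq, mul_inv_cancel_right]
    rw [e1, e2]
    exact Subgroup.commutator_mem_commutator hd hd'
  refine ⟨?_, fun hab => ?_⟩
  · rw [cj_commutator, key A.Q A.V (fun x hx w hw => A.V_Q x hx w hw) inf_le_left A.V_le hdec1]
    exact key (A.Qv a) (A.Vv a) (fun x hx w hw => A.V_Q_v hx hw) inf_le_right (A.Vv_le_Qv a) hdec2
  · set D := A.Q ⊓ A.Qv a
    have hDS : D ≤ A.S := inf_le_left.trans A.Q_le
    have hgen : A.S = A.Vv a ⊔ A.V ⊔ D := le_antisymm
      (fun s hs' => by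
        obtain ⟨w, hw, r, hr, rfl⟩ := A.decomp hs P hc (s := s) (by
          show s ∈ A.Se 1
          rw [hS1]; exact hs')
        change w ∈ A.Vv a at hw
        change r ∈ A.Qv 1 at hr
        rw [hQ1] at hr
        obtain ⟨v, hv, d, hd, rfl⟩ := hdec1 r hr
        rw [← mul_assoc]
        exact Subgroup.mul_mem_sup (Subgroup.mul_mem_sup hw hv) hd)
      (sup_le (sup_le hW A.V_le_S) hDS)
    have hn : A.S ≤ Subgroup.normalizer ((⁅A.S, A.V⁆ : Subgroup H) : Set H) := fun s hs' =>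
      mem_normalizer_of_cj_eq (by
        rw [cj_commutator, cj_eq_of_mem_normalizer (Subgroup.le_normalizer hs'),
          cj_eq_of_mem_normalizer (A.normV (A.S_le hs'))])
    conv_lhs => rw [hgen]
    refine comm_sup_self (hW.trans hn) (A.V_le_S.trans hn) (hDS.trans hn) ?_ ?_ ?_ ?_ ?_ ?_
    · intro x hx y hy
      rw [commutatorElement_eq_one_iff_mul_comm.2 (A.Vv_comm hx hy)]; exact one_mem _
    · intro x hx y hy
      rw [commutatorElement_eq_one_iff_mul_comm.2 (A.V_comm hx hy)]; exact one_mem _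
    · intro x hx y hy
      have h1 := Subgroup.commutator_mem_commutator hx.1 hy.1
      rw [hab] at h1
      rw [Subgroup.mem_bot.1 h1]; exact one_mem _
    · exact fun x hx y hy => Subgroup.commutator_mem_commutator (hW hx) hy
    · intro x hx y hy
      rw [commutatorElement_eq_one_iff_mul_comm.2 (A.V_Q_v hy.2 hx).symm]; exact one_mem _
    · intro x hx y hy
      rw [commutatorElement_eq_one_iff_mul_comm.2 (A.V_Q y hy.1 x hx).symm]; exact one_mem _

end Amb

variable {G : Type*} [Group G] [Finite G] {p : ℕ} [Fact p.Prime] {F : Type} [Field F] [Fintype F]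
  [CharP F p] {n : ℕ} {S : Sylow p G} {K : Subgroup G} [K.Normal]

/-- What pushing up gives when the critical distance is one. -/
structure DistOne (S : Sylow p G) (ρ : G →* SL(2, F)) (C V : Subgroup G) (D : NatFactor ρ V C) :
    Prop where
  ker : ρ.ker = Cfsg.pCore p G
  cent : ⁅C, (⊤ : Subgroup G)⁆ = ⊥
  V_le : V ≤ Cfsg.pCore p G
  comm_le : ⁅Cfsg.pCore p G, (⊤ : Subgroup G)⁆ ≤ ⁅(S : Subgroup G), (S : Subgroup G)⁆ ⊔ V
  exp : p ≠ 2 → ∀ s ∈ (S : Subgroup G), s ^ p = 1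
  normal_of : ∀ T : Subgroup G, V ≤ T → T ≤ Cfsg.pCore p G →
    (S : Subgroup G) ≤ Subgroup.normalizer (T : Set G) → T.Normal
  moved : ∀ σ : ↥(S : Subgroup G) ≃* ↥(S : Subgroup G),
    (∃ v : ↥(S : Subgroup G), (v : G) ∈ V ∧ ((σ v : ↥(S : Subgroup G)) : G) ∉ Cfsg.pCore p G) →
    (∀ x : ↥(S : Subgroup G), (x : G) ∈ ⁅Cfsg.pCore p G, Cfsg.pCore p G⁆ →
      ((σ x : ↥(S : Subgroup G)) : G) ∈ ⁅Cfsg.pCore p G, Cfsg.pCore p G⁆) ∧
    (⁅Cfsg.pCore p G, Cfsg.pCore p G⁆ = ⊥ →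
      ⁅(S : Subgroup G), (S : Subgroup G)⁆ ≤ ⁅(S : Subgroup G), V⁆)

set_option maxHeartbeats 1000000 in
theorem pushing_up_one (h : PUSetup S K F n)
    (hd : ∀ T : Subgroup ↥(S : Subgroup G), T ≠ ⊥ → T.Characteristic →
      ¬ (T.map (S : Subgroup G).subtype).Normal) (hp3 : p ≠ 3) :
    ∃ (ρ : G →* SL(2, F)) (C V : Subgroup G) (D : NatFactor ρ V C),
      Function.Surjective ρ ∧ DistOne S ρ C V D := by
  classical
  obtain ⟨A, hG, hS, hQ⟩ := exists_amb h hd
  set ι := regHom G with hιdef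
  have hι : Function.Injective ι := regHom_injective G
  have hmemG : ∀ g, ι g ∈ A.G := fun g => hG.symm ▸ ⟨g, trivial, rfl⟩
  let e : G →* ↥A.G := ι.codRestrict A.G hmemG
  have he : Function.Surjective e := fun ⟨x, hx⟩ => by
    rw [hG] at hx
    obtain ⟨g, -, rfl⟩ := hx
    exact ⟨g, rfl⟩
  have hmem : ∀ (T : Subgroup G) g, ι g ∈ T.map ι ↔ g ∈ T := fun T g => Subgroup.mem_map_iff_mem hι
  let ρ := A.nat.rep.comp e
  have hρ : Function.Surjective ρ := A.nat.surj.comp he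
  have hsurj : ∀ x ∈ A.G, ∃ a, ι a = x := fun x hx => by
    rw [hG] at hx
    obtain ⟨a, -, rfl⟩ := hx
    exact ⟨a, rfl⟩
  have hnorm : ∀ {T : Subgroup (Equiv.Perm G)}, A.G ≤ Subgroup.normalizer (T : Set (Equiv.Perm G)) →
      (T.comap ι).Normal := fun hT => ⟨fun x hx g => by
    rw [Subgroup.mem_comap, map_mul, map_mul, map_inv]
    exact conj_mem_of_le_normalizer' hT (hmemG g) hx⟩
  have hmc : ∀ {T : Subgroup (Equiv.Perm G)}, T ≤ A.G → (T.comap ι).map ι = T := fun {T} hT =>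
    le_antisymm (Subgroup.map_comap_le _ _) fun x hx => by
      obtain ⟨a, rfl⟩ := hsurj x (hT hx)
      exact ⟨a, hx, rfl⟩
  let D : NatFactor ρ (A.V.comap ι) (A.C.comap ι) :=
    { normX := hnorm A.normV
      normY := hnorm A.G_le_normalizer_C
      le := Subgroup.comap_mono (A.C_le.trans A.Om_le)
      crd := fun x => A.nat.crd (ι x)
      crd_mul := fun {x y} hx hy => by
        rw [map_mul]; exact A.nat.crd_mul hx hy
      crd_surj := fun u => by
        obtain ⟨x, hx, hxu⟩ := A.nat.crd_surj u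
        obtain ⟨a, rfl⟩ := hsurj x (A.V_le_G hx)
        exact ⟨a, hx, hxu⟩
      crd_eq_zero := fun {x} hx => A.nat.crd_eq_zero hx
      crd_conj := fun g {x} hx => by
        rw [map_mul, map_mul, map_inv]
        exact A.nat.crd_conj (e g) hx
      eq_or_eq := fun Z hZ h1 h2 => by
        have hZn : A.G ≤ Subgroup.normalizer (Z.map ι : Set (Equiv.Perm G)) := by
          rw [hG]
          refine le_trans ?_ (Subgroup.le_normalizer_map ι)
          rw [Subgroup.normalizer_eq_top]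
        have hYZ : A.C ≤ Z.map ι := fun y hy => by
          obtain ⟨a, rfl⟩ := hsurj y (A.V_le_G (A.Om_le (A.C_le hy)))
          exact ⟨a, h1 hy, rfl⟩
        rcases A.nat.eq_or_eq hYZ (Subgroup.map_le_iff_le_comap.2 h2) hZn with h3 | h3
        · left; rw [← h3, Subgroup.comap_map_eq_self_of_injective hι]
        · right; rw [← h3, Subgroup.comap_map_eq_self_of_injective hι] }
  have hSmem : ∀ s ∈ (S : Subgroup G), ι s ∈ A.S := fun s hs => hS.symm ▸ ⟨s, hs, rfl⟩
  have hSV : ⁅A.S, A.V⁆ = (⁅(S : Subgroup G), A.V.comap ι⁆ : Subgroup G).map ι := by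
    rw [Subgroup.map_commutator, hS, hmc A.V_le_G]
  have hQQ : ⁅A.Q, A.Q⁆ = (⁅Cfsg.pCore p G, Cfsg.pCore p G⁆ : Subgroup G).map ι := by
    rw [Subgroup.map_commutator, hQ]
  obtain ⟨m, hsm, P, hc⟩ := A.exists_crit
  match m, hsm, P, hc with
  | 1, hsm, P, hc => exact absurd (A.case_two hsm P hc).p_eq hp3
  | k + 2, hsm, P, hc => exact absurd (A.no_long hsm P hc) id
  | 0, hsm, P, hc =>
    have cI := A.case_one hsm P hc
    obtain ⟨t, ht, htQ, htV⟩ := cI.central
    have hker : ∀ g : ↥A.G, A.nat.rep g = 1 ↔ (g : Equiv.Perm G) ∈ A.Q := by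
      refine A.eq_Q_of_kernel A.nat fun k hk m hm hcop => ?_
      have hVk : ∀ v ∈ A.V, (k : Equiv.Perm G) * v = v * k := fun v hv =>
        commute_of_stabilizes (A.S_pgroup.to_le (A.C_le.trans A.Om_le_S))
          (fun b hb => A.centC _ k.2 b hb) hm hcop
          ((A.nat.comm_mem_Y_iff A.normV k hv).2 (by rw [hk]; simp))
      have hQk : ∀ q ∈ A.Q, (k : Equiv.Perm G) * q = q * k := fun q hq =>
        commute_of_stabilizes (A.S_pgroup.to_le A.V_le_S) hVk hm hcop
          (A.mem_of_coprime A.normV ht htQ htV k.2 hm hcop q hq)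
      obtain ⟨i, hi⟩ := A.S_pgroup ⟨k, A.Q_le (A.charP_cond k k.2 hQk)⟩
      have h2 := pow_gcd_eq_one.2
        ⟨hm, show (k : Equiv.Perm G) ^ p ^ i = 1 by simpa using congrArg Subtype.val hi⟩
      rw [(Nat.Coprime.pow_right i hcop).gcd_eq_one, pow_one] at h2
      exact Subtype.ext h2
    refine ⟨ρ, A.C.comap ι, A.V.comap ι, D, hρ,
      { ker := ?_, cent := ?_, V_le := ?_, comm_le := ?_, exp := ?_, normal_of := ?_, moved := ?_ }⟩
    · ext g
      rw [MonoidHom.mem_ker]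
      exact (hker (e g)).trans (by rw [hQ]; exact hmem _ g)
    · exact le_bot_iff.1
        (Subgroup.commutator_le.2 fun c hc g _ => Subgroup.mem_bot.2 (hι (by
          rw [map_commutatorElement, map_one, commutatorElement_eq_one_iff_mul_comm]
          exact (A.centC _ (hmemG g) _ hc).symm)))
    · exact fun x hx => (hmem _ x).1 (hQ ▸ A.V_le hx)
    · intro x hx
      have h1 := A.iter_le A.normV A.V_le ht htQ htV 0 (show ι x ∈ ⁅A.Q, A.G⁆ by
        rw [hQ, hG, ← Subgroup.map_commutator]; exact ⟨x, hx, rfl⟩)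
      rw [show A.S.lowerCentralSeries (0 + 1) = (⁅(S : Subgroup G), (S : Subgroup G)⁆ : Subgroup G).map ι by
          rw [Subgroup.lowerCentralSeries_succ, Subgroup.lowerCentralSeries_zero, hS, Subgroup.map_commutator],
        ← hmc A.V_le_G, ← Subgroup.map_sup, hmem] at h1
      exact h1
    · intro hp s hs
      exact hι (by rw [map_pow, cI.exp_odd hp _ (hSmem s hs), map_one])
    · intro T hVT hTQ hST
      have hn := A.normalized_of_centralized (x := (1 : Equiv.Perm G)) (e := 1) (X := A.Q) (Y := A.V)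
        (T := T.map ι) ⟨1, by simp, by simp⟩
        (by rw [show A.Gv 1 = A.G from cj_one _]; exact A.normQ)
        (by rw [show A.Gv 1 = A.G from cj_one _]; exact A.normV)
        (t := t) (by rwa [show A.Se 1 = A.S from cj_one _]) (by rwa [show A.Qv 1 = A.Q from cj_one _])
        htV (hQ ▸ Subgroup.map_mono hTQ) (hmc A.V_le_G ▸ Subgroup.map_mono hVT)
        (by
          rw [show A.Se 1 = A.S from cj_one _, hS]
          exact (Subgroup.map_mono hST).trans (Subgroup.le_normalizer_map ι))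
      rw [show A.Gv 1 = A.G from cj_one _] at hn
      have := hnorm hn
      rwa [Subgroup.comap_map_eq_self_of_injective hι] at this
    · intro σ hσ
      obtain ⟨a, ha, haσ⟩ := exists_normalizer_extension (S : Subgroup G) σ
      rw [← hS] at ha
      obtain ⟨v, hv, hvQ⟩ := hσ
      have hmv : ¬ cj a A.V ≤ A.Q := fun hle => hvQ ((hmem _ _).1 (by
        rw [← hQ, ← haσ]
        exact hle (conj_mem_cj hv)))
      obtain ⟨h1, h2⟩ := A.of_moved ha hmv
      refine ⟨fun x hx => (hmem _ _).1 ?_, fun hab => ?_⟩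
      · rw [← hQQ, ← haσ, ← h1]
        exact conj_mem_cj (hQQ ▸ ⟨_, hx, rfl⟩)
      · refine (Subgroup.map_le_map_iff_of_injective hι).1 ?_
        rw [← hSV, Subgroup.map_commutator, ← hS]
        exact h2 (by rw [hQQ, hab, Subgroup.map_bot])

end Cfsg.Agent.PushUp62
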