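import Cfsg.Agent.PushUp62.NoLong
import Cfsg.Prelude.Def_PLocal

/-!
Tools shared by the two cases of rank-one pushing up.
-/

set_option autoImplicit false
set_option linter.unusedSectionVars false
set_option linter.unusedVariables false
set_option linter.style.haveILetI false

namespace Cfsg.Agent.PushUp62

open scoped commutatorElement

variable {H : Type*} [Group H]

/-- The elements commuting with `t` modulo `Y`. -/
def centElt (t : H) (Y : Subgroup H) : Subgroup H where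
  carrier := {g | g ∈ Subgroup.normalizer (Y : Set H) ∧ ⁅g, t⁆ ∈ Y}
  one_mem' := ⟨one_mem _, by rw [commutatorElement_one_left]; exact Y.one_mem⟩
  mul_mem' := fun {a b} ha hb => ⟨mul_mem ha.1 hb.1, by
    rw [commutator_mul_left]
    exact Y.mul_mem (((Subgroup.mem_normalizer_iff.1 ha.1) _).1 hb.2) ha.2⟩
  inv_mem' := fun {a} ha => ⟨inv_mem ha.1, by
    have h := ((Subgroup.mem_normalizer_iff.1 (inv_mem ha.1)) _).1 (Y.inv_mem ha.2)
    rw [inv_inv, commutatorElement_inv] at h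
    convert h using 1
    simp only [commutatorElement_def]; group⟩

/-- `(ab)ⁿ` when `[b, a]` is central. -/
theorem mul_pow_central (a b : H) (ha : Commute ⁅b, a⁆ a) (hb : Commute ⁅b, a⁆ b) (n : ℕ) :
    (a * b) ^ n = a ^ n * b ^ n * ⁅b, a⁆ ^ n.choose 2 := by
  have hba : b * a = a * b * ⁅b, a⁆ := by
    rw [← (ha.mul_right hb).eq, commutatorElement_def]; group
  have key : ∀ n : ℕ, b ^ n * a = a * b ^ n * ⁅b, a⁆ ^ n := by
    intro n
    induction n with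
    | zero => simp
    | succ n ih =>
      calc b ^ (n + 1) * a = b ^ n * (b * a) := by rw [pow_succ, mul_assoc]
        _ = b ^ n * a * (b * ⁅b, a⁆) := by rw [hba]; simp only [mul_assoc]
        _ = a * b ^ n * (⁅b, a⁆ ^ n * b) * ⁅b, a⁆ := by rw [ih]; simp only [mul_assoc]
        _ = a * b ^ (n + 1) * ⁅b, a⁆ ^ (n + 1) := by
          rw [(hb.pow_left n).eq, pow_succ, pow_succ]; simp only [mul_assoc]
  induction n with
  | zero => simp
  | succ n ih =>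
    calc (a * b) ^ (n + 1) = a ^ n * b ^ n * (⁅b, a⁆ ^ n.choose 2 * (a * b)) := by
          rw [pow_succ, ih]; simp only [mul_assoc]
      _ = a ^ n * (b ^ n * a) * b * ⁅b, a⁆ ^ n.choose 2 := by
          rw [((ha.mul_right hb).pow_left _).eq]; simp only [mul_assoc]
      _ = a ^ n * a * b ^ n * (⁅b, a⁆ ^ n * b) * ⁅b, a⁆ ^ n.choose 2 := by
          rw [key]; simp only [mul_assoc]
      _ = a ^ (n + 1) * b ^ (n + 1) * ⁅b, a⁆ ^ ((n + 1).choose 2) := by
          rw [(hb.pow_left n).eq, pow_succ, pow_succ, Nat.choose_succ_succ' n 1, Nat.choose_one_right,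
            pow_add]
          simp only [mul_assoc]

theorem comm_le_of_le_centMod {T A X : Subgroup H} (h : T ≤ centMod A X) : ⁅T, A⁆ ≤ X :=
  Subgroup.commutator_le.2 fun t ht a ha => (h ht).2 a ha

theorem le_centMod_of_comm {T A X : Subgroup H} (hn : T ≤ Subgroup.normalizer (X : Set H))
    (h : ∀ t ∈ T, ∀ a ∈ A, ⁅t, a⁆ ∈ X) : T ≤ centMod A X := fun t ht => ⟨hn ht, h t ht⟩

theorem comm_sup_right {T X A B C : Subgroup H} (hT : T ≤ Subgroup.normalizer (X : Set H))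
    (hA : A ≤ Subgroup.normalizer (X : Set H)) (hB : B ≤ Subgroup.normalizer (X : Set H))
    (hC : C ≤ Subgroup.normalizer (X : Set H)) (h1 : ∀ t ∈ T, ∀ a ∈ A, ⁅t, a⁆ ∈ X)
    (h2 : ∀ t ∈ T, ∀ b ∈ B, ⁅t, b⁆ ∈ X) (h3 : ∀ t ∈ T, ∀ c ∈ C, ⁅t, c⁆ ∈ X) :
    ∀ t ∈ T, ∀ s ∈ A ⊔ B ⊔ C, ⁅t, s⁆ ∈ X := fun t ht s hs =>
  commutator_mem_symm ((sup_le (sup_le (le_centMod_symm hA (le_centMod_of_comm hT h1))
    (le_centMod_symm hB (le_centMod_of_comm hT h2)))
    (le_centMod_symm hC (le_centMod_of_comm hT h3)) hs).2 t ht)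

theorem comm_sup_self {X A B C : Subgroup H} (hA : A ≤ Subgroup.normalizer (X : Set H))
    (hB : B ≤ Subgroup.normalizer (X : Set H)) (hC : C ≤ Subgroup.normalizer (X : Set H))
    (haa : ∀ a ∈ A, ∀ a' ∈ A, ⁅a, a'⁆ ∈ X) (hbb : ∀ a ∈ B, ∀ a' ∈ B, ⁅a, a'⁆ ∈ X)
    (hcc : ∀ a ∈ C, ∀ a' ∈ C, ⁅a, a'⁆ ∈ X) (hab : ∀ a ∈ A, ∀ b ∈ B, ⁅a, b⁆ ∈ X)
    (hac : ∀ a ∈ A, ∀ c ∈ C, ⁅a, c⁆ ∈ X) (hbc : ∀ b ∈ B, ∀ c ∈ C, ⁅b, c⁆ ∈ X) :
    ⁅A ⊔ B ⊔ C, A ⊔ B ⊔ C⁆ ≤ X := by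
  have hn := sup_le (sup_le hA hB) hC
  refine Subgroup.commutator_le.2 fun s hs s' hs' => ?_
  have h1 := comm_sup_right hA hA hB hC haa hab hac
  have h2 := comm_sup_right hB hA hB hC (fun b hb a ha => commutator_mem_symm (hab a ha b hb)) hbb hbc
  have h3 := comm_sup_right hC hA hB hC (fun c hc a ha => commutator_mem_symm (hac a ha c hc))
    (fun c hc b hb => commutator_mem_symm (hbc b hb c hc)) hcc
  exact comm_sup_right hn hA hB hC (fun t ht a ha => commutator_mem_symm (h1 a ha t ht))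
    (fun t ht b hb => commutator_mem_symm (h2 b hb t ht))
    (fun t ht c hc => commutator_mem_symm (h3 c hc t ht)) s hs s' hs'

theorem normalizer_lowerCentralSeries [Finite H] (X : Subgroup H) (j : ℕ) :
    Subgroup.normalizer (X : Set H) ≤ Subgroup.normalizer (X.lowerCentralSeries j : Set H) :=
  fun g hg => mem_normalizer_of_cj_eq (by
    show (X.lowerCentralSeries j).map (MulAut.conj g).toMonoidHom = _
    rw [Subgroup.map_lowerCentralSeries]
    congr 1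
    exact cj_eq_of_mem_normalizer hg)

theorem lcs_mono {X Y : Subgroup H} (h : X ≤ Y) (j : ℕ) :
    X.lowerCentralSeries j ≤ Y.lowerCentralSeries j := by
  induction j with
  | zero => exact h
  | succ j ih => exact Subgroup.commutator_mono ih h

theorem conj_pow_closure [Finite H] {X : Subgroup H} (n : ℕ) :
    Subgroup.normalizer (X : Set H) ≤
      Subgroup.normalizer (Subgroup.closure {x : H | ∃ s ∈ X, s ^ n = x} : Set H) := by
  refine le_normalizer_of_conj fun g hg y hy => ?_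
  have : Subgroup.closure {x : H | ∃ s ∈ X, s ^ n = x} ≤
      (Subgroup.closure {x : H | ∃ s ∈ X, s ^ n = x}).comap (MulAut.conj g).toMonoidHom := by
    refine (Subgroup.closure_le _).2 ?_
    rintro _ ⟨s, hs, rfl⟩
    exact Subgroup.subset_closure ⟨g * s * g⁻¹, ((Subgroup.mem_normalizer_iff.1 hg) s).1 hs,
      by rw [conj_pow]; rfl⟩
  exact this hy

namespace Amb

variable [Finite H] {F : Type} [Field F] [Fintype F] {p : ℕ} [Fact p.Prime] [CharP F p]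
  (A : Amb H F p)

theorem lcs_eq_bot (j : ℕ) (h : A.S.lowerCentralSeries j ≤ A.Q.lowerCentralSeries j) :
    A.S.lowerCentralSeries j = ⊥ := by
  have heq := le_antisymm h (lcs_mono A.Q_le j)
  refine A.hd _ (A.S.lowerCentralSeries_antitone (Nat.zero_le j)) (normalizer_lowerCentralSeries _ j) ?_
  rw [heq]
  exact A.normQ.trans (normalizer_lowerCentralSeries _ j)

theorem pow_eq_one (j n : ℕ)
    (h : ∀ s ∈ A.S.lowerCentralSeries j, ∃ x ∈ A.Q.lowerCentralSeries j, s ^ n = x ^ n)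
    {s : H} (hs : s ∈ A.S.lowerCentralSeries j) : s ^ n = 1 := by
  have heq : Subgroup.closure {x : H | ∃ s ∈ A.S.lowerCentralSeries j, s ^ n = x} =
      Subgroup.closure {x : H | ∃ s ∈ A.Q.lowerCentralSeries j, s ^ n = x} := by
    refine congrArg Subgroup.closure (Set.ext fun y => ⟨?_, ?_⟩)
    · rintro ⟨s, hs, rfl⟩
      obtain ⟨x, hx, hsx⟩ := h s hs
      exact ⟨x, hx, hsx.symm⟩
    · exact fun ⟨x, hx, hxy⟩ => ⟨x, lcs_mono A.Q_le j hx, hxy⟩
  have hbot := A.hd (Subgroup.closure {x : H | ∃ s ∈ A.S.lowerCentralSeries j, s ^ n = x}) ?_ ?_ ?_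
  · rw [← Subgroup.mem_bot, ← hbot]
    exact Subgroup.subset_closure ⟨s, hs, rfl⟩
  · refine (Subgroup.closure_le _).2 ?_
    rintro _ ⟨s, hs, rfl⟩
    exact A.S.pow_mem (A.S.lowerCentralSeries_antitone (Nat.zero_le j) hs) n
  · exact (normalizer_lowerCentralSeries _ j).trans (conj_pow_closure n)
  · rw [heq]
    exact (A.normQ.trans (normalizer_lowerCentralSeries _ j)).trans (conj_pow_closure n)

theorem S_comm_Q : A.S.lowerCentralSeries 1 ≤ A.Q :=
  Subgroup.commutator_le.2 fun a ha b hb => A.comm_S_mem_Q ha hb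

theorem top_v {x e : H} (hi : A.Inc x e) {N : Subgroup H} (hN : N ≤ A.Gv x)
    (hNn : A.Gv x ≤ Subgroup.normalizer (N : Set H)) {t : H} (ht : t ∈ A.Se e) (htQ : t ∉ A.Qv x)
    (htN : t ∈ N) : N ⊔ A.Se e = A.Gv x := by
  obtain ⟨h, ⟨hG, hQ, -, -⟩, ⟨hS, -⟩, -⟩ := A.frame hi
  rw [hG] at hN hNn; rw [hS] at ht; rw [hQ] at htQ; rw [hG, hS]
  have e0 : N = cj h (cj h⁻¹ N) := by rw [← cj_mul, mul_inv_cancel, cj_one]
  rw [e0, ← cj_sup, A.top (cj h⁻¹ N) ?_ ?_ ⟨_, mem_cj.1 ht, fun h1 => htQ (mem_cj.2 h1), ?_⟩]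
  · refine cj_le_iff.2 fun y hy => ?_
    simpa using mem_cj.1 (hN hy)
  · exact fun g hg => mem_normalizer_cj (by simpa using hNn (conj_mem_cj hg))
  · exact mem_cj.2 (by simpa [mul_assoc] using htN)

theorem bound_v {x e : H} (hi : A.Inc x e) {X Y : Subgroup H}
    (hX : A.Gv x ≤ Subgroup.normalizer (X : Set H)) (hY : A.Gv x ≤ Subgroup.normalizer (Y : Set H))
    (hYX : Y ≤ X) (hXQ : X ≤ A.Qv x)
    (hC : ∀ s ∈ A.Se e, s ∉ A.Qv x → ∃ y ∈ X, ⁅y, s⁆ ∉ Y) {t : H} (ht : t ∈ A.Se e)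
    (htQ : t ∉ A.Qv x) {Z : Subgroup H} (hZ : Z ≤ X) (hZt : ∀ z ∈ Z, ⁅z, t⁆ ∈ Y) :
    Nat.card F * Nat.card ↥Z ≤ Nat.card ↥X := by
  obtain ⟨h, ⟨hG, hQ, -, -⟩, ⟨hS, -⟩, -⟩ := A.frame hi
  rw [hG] at hX hY; rw [hS] at hC ht; rw [hQ] at hXQ hC htQ
  have mv : ∀ {T : Subgroup H}, A.G.map (MulAut.conj h).toMonoidHom ≤ Subgroup.normalizer (T : Set H) →
      A.G ≤ Subgroup.normalizer (cj h⁻¹ T : Set H) := fun {T} hT g hg =>
    mem_normalizer_cj (by simpa using hT (conj_mem_cj hg))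
  have hle : cj h⁻¹ X ≤ A.Q := cj_le_iff.2 fun y hy => by simpa using mem_cj.1 (hXQ hy)
  have hb := A.bound (cj h⁻¹ X) (cj h⁻¹ Y) (mv hX) (mv hY) (cj_mono _ hYX) hle
    (fun s hs hsQ => by
      obtain ⟨y, hy, hys⟩ := hC _ (conj_mem_cj hs)
        (fun h1 => hsQ (by simpa [mul_assoc] using mem_cj.1 h1))
      refine ⟨h⁻¹ * y * h⁻¹⁻¹, conj_mem_cj hy, fun h1 => hys ?_⟩
      have := mem_cj.1 h1
      rw [show h⁻¹⁻¹ * ⁅h⁻¹ * y * h⁻¹⁻¹, s⁆ * h⁻¹ = ⁅y, h * s * h⁻¹⁆ by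
        simp only [commutatorElement_def]; group] at this
      exact this)
    (h⁻¹ * t * h) (mem_cj.1 ht) (fun h1 => htQ (mem_cj.2 h1)) (cj h⁻¹ Z) (cj_mono _ hZ)
    (fun z hz => by
      obtain ⟨z, hz', rfl⟩ := hz
      show ⁅h⁻¹ * z * h⁻¹⁻¹, h⁻¹ * t * h⁆ ∈ cj h⁻¹ Y
      rw [show h⁻¹ * t * h = h⁻¹ * t * h⁻¹⁻¹ by group, ← conj_commutator]
      exact conj_mem_cj (hZt z hz'))
  rwa [card_cj, card_cj] at hb

/-- An element of `Se e` centralizing a section makes every `Se e`-invariant term normal. -/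
theorem normalized_of_centralized {x e : H} (hi : A.Inc x e) {X Y T : Subgroup H}
    (hX : A.Gv x ≤ Subgroup.normalizer (X : Set H)) (hY : A.Gv x ≤ Subgroup.normalizer (Y : Set H))
    {t : H} (ht : t ∈ A.Se e) (htQ : t ∉ A.Qv x) (htc : ∀ y ∈ X, ⁅y, t⁆ ∈ Y)
    (hT : T ≤ X) (hYT : Y ≤ T) (hTS : A.Se e ≤ Subgroup.normalizer (T : Set H)) :
    A.Gv x ≤ Subgroup.normalizer (T : Set H) := by
  have hN : A.Gv x ≤ Subgroup.normalizer ((A.Gv x ⊓ centMod X Y : Subgroup H) : Set H) := by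
    refine le_normalizer_of_conj (Y := A.Gv x ⊓ centMod X Y) fun g hg c hc => ?_
    refine ⟨(A.Gv x).mul_mem ((A.Gv x).mul_mem hg hc.1) ((A.Gv x).inv_mem hg), ?_, fun y hy => ?_⟩
    · exact hY ((A.Gv x).mul_mem ((A.Gv x).mul_mem hg hc.1) ((A.Gv x).inv_mem hg))
    · have h1 := hc.2.2 (g⁻¹ * y * g) (by
        simpa using conj_mem_of_le_normalizer' hX ((A.Gv x).inv_mem hg) hy)
      have h2 := conj_mem_of_le_normalizer' hY hg h1
      rw [conj_commutator] at h2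
      simpa [mul_assoc] using h2
  rw [← A.top_v hi inf_le_left hN ht htQ ⟨A.Se_le_Gv hi ht, hY (A.Se_le_Gv hi ht),
    fun y hy => commutator_mem_symm (htc y hy)⟩]
  refine sup_le (le_normalizer_of_conj fun c hc y hy => ?_) hTS
  rw [show c * y * c⁻¹ = ⁅c, y⁆ * y by rw [commutatorElement_def]; group]
  exact T.mul_mem (hYT (hc.2.2 y (hT hy))) hy

/-- The fixed points of an element outside `O_p` on a section are no more than those of `S`. -/
theorem exact_fix {x e : H} (hi : A.Inc x e) {X Y XF : Subgroup H}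
    (hX : A.Gv x ≤ Subgroup.normalizer (X : Set H)) (hY : A.Gv x ≤ Subgroup.normalizer (Y : Set H))
    (hXQ : X ≤ A.Qv x) (hXF : XF ≤ X) (hYF : Y ≤ XF) (hcen : XF ≤ centMod (A.Se e) Y)
    (hcard : Nat.card ↥X = Nat.card ↥XF * Nat.card F)
    (hC : ∀ s ∈ A.Se e, s ∉ A.Qv x → ∃ y ∈ X, ⁅y, s⁆ ∉ Y) {t w : H} (ht : t ∈ A.Se e)
    (htQ : t ∉ A.Qv x) (hw : w ∈ X) (h : ⁅w, t⁆ ∈ Y) : w ∈ XF := by
  have hle : XF ≤ X ⊓ centElt t Y := fun y hy => ⟨hXF hy, (hcen hy).1, (hcen hy).2 t ht⟩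
  have heq : XF = X ⊓ centElt t Y := by
    refine Subgroup.eq_of_le_of_card_ge hle ?_
    have hb := A.bound_v hi hX hY (hYF.trans hXF) hXQ hC ht htQ (Z := X ⊓ centElt t Y) inf_le_left
      (fun z hz => hz.2.2)
    rw [hcard, mul_comm] at hb
    exact Nat.le_of_mul_le_mul_right hb Nat.card_pos
  rw [heq]
  exact ⟨hw, hY ((hXQ.trans (A.Qv_le_Gv x)) hw), h⟩

/-- `G` centralizes `Q` modulo `W`, up to the action of `S`. -/
theorem iter_le {W : Subgroup H} (hW : A.G ≤ Subgroup.normalizer (W : Set H)) (hWQ : W ≤ A.Q)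
    {t : H} (ht : t ∈ A.S) (htQ : t ∉ A.Q) (htW : ∀ q ∈ A.Q, ⁅q, t⁆ ∈ W) (j : ℕ) :
    Cfsg.iterCommutator A.Q A.G (j + 1) ≤ A.S.lowerCentralSeries (j + 1) ⊔ W := by
  set K : Subgroup H := A.G ⊓ centMod A.Q W
  have hK : A.G ≤ Subgroup.normalizer (K : Set H) := by
    refine le_normalizer_of_conj fun g hg c hc => ?_
    refine ⟨A.G.mul_mem (A.G.mul_mem hg hc.1) (A.G.inv_mem hg),
      hW (A.G.mul_mem (A.G.mul_mem hg hc.1) (A.G.inv_mem hg)), fun y hy => ?_⟩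
    have h1 := hc.2.2 (g⁻¹ * y * g) (by
      simpa using conj_mem_of_le_normalizer' A.normQ (A.G.inv_mem hg) hy)
    have h2 := conj_mem_of_le_normalizer' hW hg h1
    rw [conj_commutator] at h2
    simpa [mul_assoc] using h2
  have htop := A.top K inf_le_left hK
    ⟨t, ht, htQ, A.S_le ht, hW (A.S_le ht), fun q hq => commutator_mem_symm (htW q hq)⟩
  have hnormY : ∀ Y : Subgroup H, W ≤ Y → Y ≤ A.Q → A.S ≤ Subgroup.normalizer (Y : Set H) →
      A.G ≤ Subgroup.normalizer (Y : Set H) := by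
    intro Y hWY hYQ hSY
    rw [← htop]
    refine sup_le (le_normalizer_of_conj fun c hc y hy => ?_) hSY
    rw [show c * y * c⁻¹ = ⁅c, y⁆ * y by rw [commutatorElement_def]; group]
    exact Y.mul_mem (hWY (hc.2.2 y (hYQ hy))) hy
  have step : ∀ X Y : Subgroup H, X ≤ A.Q → W ≤ Y → Y ≤ A.Q →
      A.S ≤ Subgroup.normalizer (Y : Set H) → (∀ s ∈ A.S, ∀ y ∈ X, ⁅s, y⁆ ∈ Y) → ⁅X, A.G⁆ ≤ Y := by
    intro X Y hXQ hWY hYQ hSY hS
    have hG := hnormY Y hWY hYQ hSY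
    have : A.G ≤ centMod X Y := htop ▸ sup_le
      (fun c hc => ⟨hG hc.1, fun y hy => hWY (hc.2.2 y (hXQ hy))⟩)
      (le_centMod_of_comm hSY hS)
    exact Subgroup.commutator_le.2 fun y hy g hg => commutator_mem_symm ((this hg).2 y hy)
  have hYQ : ∀ i, A.S.lowerCentralSeries (i + 1) ⊔ W ≤ A.Q := fun i =>
    sup_le ((A.S.lowerCentralSeries_antitone (by omega : 1 ≤ i + 1)).trans A.S_comm_Q) hWQ
  have hSn : ∀ i, A.S ≤ Subgroup.normalizer ((A.S.lowerCentralSeries i ⊔ W : Subgroup H) : Set H) := fun i s hs =>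
    mem_normalizer_of_cj_eq (by
      rw [cj_sup s, cj_eq_of_mem_normalizer (A.S.self_le_normalizer_lowerCentralSeries i hs),
        cj_eq_of_mem_normalizer (hW (A.S_le hs))])
  induction j with
  | zero =>
    exact step A.Q _ le_rfl le_sup_right (hYQ 0) (hSn 1) fun s hs y hy =>
      Subgroup.mem_sup_left (Subgroup.commutator_mem_commutator hs (A.Q_le hy))
  | succ j ih =>
    refine (Subgroup.commutator_mono ih le_rfl).trans
      (step _ _ (hYQ j) le_sup_right (hYQ (j + 1)) (hSn (j + 2)) fun s hs y hy => ?_)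
    refine commutator_mem_symm ((sup_le ?_ ?_ : A.S.lowerCentralSeries (j + 1) ⊔ W ≤
      centMod A.S (A.S.lowerCentralSeries (j + 2) ⊔ W)) hy |>.2 s hs)
    · exact le_centMod_of_comm ((A.S.lowerCentralSeries_antitone (Nat.zero_le _)).trans (hSn _))
        fun a ha b hb => Subgroup.mem_sup_left (Subgroup.commutator_mem_commutator ha hb)
    · refine le_centMod_of_comm ((hWQ.trans A.Q_le).trans (hSn _)) fun a ha b hb => Subgroup.mem_sup_right ?_
      rw [commutatorElement_def, mul_assoc, mul_assoc]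
      exact W.mul_mem ha (by simpa [mul_assoc] using conj_mem_of_le_normalizer' hW (A.S_le hb) (W.inv_mem ha))

theorem mem_of_coprime {W : Subgroup H} (hW : A.G ≤ Subgroup.normalizer (W : Set H))
    {t : H} (ht : t ∈ A.S) (htQ : t ∉ A.Q) (htW : ∀ q ∈ A.Q, ⁅q, t⁆ ∈ W) {k : H} (hk : k ∈ A.G)
    {n : ℕ} (hn : k ^ n = 1) (hcop : n.Coprime p) : ∀ q ∈ A.Q, ⁅k, q⁆ ∈ W := by
  set K : Subgroup H := A.G ⊓ centMod A.Q W
  have hK : A.G ≤ Subgroup.normalizer (K : Set H) := by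
    refine le_normalizer_of_conj fun g hg c hc => ?_
    refine ⟨A.G.mul_mem (A.G.mul_mem hg hc.1) (A.G.inv_mem hg),
      hW (A.G.mul_mem (A.G.mul_mem hg hc.1) (A.G.inv_mem hg)), fun y hy => ?_⟩
    have h1 := hc.2.2 (g⁻¹ * y * g) (by
      simpa using conj_mem_of_le_normalizer' A.normQ (A.G.inv_mem hg) hy)
    have h2 := conj_mem_of_le_normalizer' hW hg h1
    rw [conj_commutator] at h2
    simpa [mul_assoc] using h2
  have htop := A.top K inf_le_left hK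
    ⟨t, ht, htQ, A.S_le ht, hW (A.S_le ht), fun q hq => commutator_mem_symm (htW q hq)⟩
  have hk' : k ∈ A.S ⊔ K := sup_comm A.S K ▸ htop.symm ▸ hk
  obtain ⟨s, hs, c, hc, rfl⟩ := mem_sup_of_le_normalizer (A.S_le.trans hK) hk'
  obtain ⟨i, hi⟩ := A.S_pgroup ⟨s, hs⟩
  have hpow : ∀ m : ℕ, (s * c) ^ m ∈ K ↔ s ^ m ∈ K := by
    intro m
    suffices ∃ d ∈ K, (s * c) ^ m = s ^ m * d by
      obtain ⟨d, hd, e⟩ := this
      rw [e, K.mul_mem_cancel_right hd]
    induction m with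
    | zero => exact ⟨1, K.one_mem, by simp⟩
    | succ m ih =>
      obtain ⟨d, hd, e⟩ := ih
      refine ⟨s⁻¹ * d * s * c, K.mul_mem ?_ hc, ?_⟩
      · simpa using conj_mem_of_le_normalizer' hK (A.G.inv_mem (A.S_le hs)) hd
      · rw [pow_succ, e, pow_succ]; group
  have h1 : (s * c) ^ p ^ i ∈ K := (hpow _).2 (by
    rw [show s ^ p ^ i = 1 by simpa using congrArg Subtype.val hi]; exact K.one_mem)
  have h2 : (s * c) ^ Nat.gcd n (p ^ i) ∈ K := by
    obtain ⟨a, b, hab⟩ : ∃ a b : ℤ, (Nat.gcd n (p ^ i) : ℤ) = n * a + (p ^ i : ℕ) * b :=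
      ⟨_, _, Nat.gcd_eq_gcd_ab n (p ^ i)⟩
    rw [← zpow_natCast, hab, zpow_add, zpow_mul, zpow_mul, zpow_natCast, zpow_natCast, hn, one_zpow,
      one_mul]
    exact K.zpow_mem h1 b
  rw [(Nat.Coprime.pow_right i hcop).gcd_eq_one, pow_one] at h2
  exact fun q hq => h2.2.2 q hq

end Amb

/-- A `p'`-element centralizing a `p`-subgroup and the quotient by it centralizes the element. -/
theorem commute_of_stabilizes {p n : ℕ} {k x : H} {Y : Subgroup H} (hY : IsPGroup p ↥Y)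
    (hcY : ∀ y ∈ Y, k * y = y * k) (hn : k ^ n = 1) (hcop : n.Coprime p) (h : ⁅k, x⁆ ∈ Y) :
    k * x = x * k := by
  set y := ⁅k, x⁆ with hy
  have hkx : k * x * k⁻¹ = y * x := by rw [hy, commutatorElement_def]; group
  have key : ∀ j : ℕ, k ^ j * x * (k ^ j)⁻¹ = y ^ j * x := by
    intro j
    induction j with
    | zero => simp
    | succ j ih =>
      calc k ^ (j + 1) * x * (k ^ (j + 1))⁻¹ = k * (k ^ j * x * (k ^ j)⁻¹) * k⁻¹ := by
            rw [pow_succ']; group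
        _ = (k * y ^ j) * x * k⁻¹ := by rw [ih]; group
        _ = y ^ j * (k * x * k⁻¹) := by rw [hcY _ (Y.pow_mem h j)]; group
        _ = y ^ (j + 1) * x := by rw [hkx, pow_succ]; group
  have h1 : y ^ n = 1 := by simpa [hn] using (key n).symm
  obtain ⟨i, hi⟩ := hY ⟨y, h⟩
  have h2 := pow_gcd_eq_one.2 ⟨h1, show y ^ p ^ i = 1 by simpa using congrArg Subtype.val hi⟩
  rw [(Nat.Coprime.pow_right i hcop).gcd_eq_one, pow_one] at h2
  rw [h2, one_mul] at hkx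
  exact mul_inv_eq_iff_eq_mul.1 hkx

end Cfsg.Agent.PushUp62
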