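import Cfsg.Agent.PushUp62.Common

/-!
The case of critical distance one: `S` has class two.
-/

set_option autoImplicit false
set_option linter.unusedSectionVars false
set_option linter.unusedVariables false
set_option linter.style.haveILetI false

namespace Cfsg.Agent.PushUp62

open scoped commutatorElement

namespace Amb

variable {H : Type*} [Group H] [Finite H] {F : Type} [Field F] [Fintype F] {p : ℕ} [Fact p.Prime]
  [CharP F p] (A : Amb H F p)

/-- The structure in the first case. -/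
structure CaseI : Prop where
  class_le : A.S.lowerCentralSeries 2 = ⊥
  class_ne : A.S.lowerCentralSeries 1 ≠ ⊥
  exp_two : p = 2 → ∀ s ∈ A.S, s ^ 4 = 1
  exp_odd : p ≠ 2 → ∀ s ∈ A.S, s ^ p = 1
  central : ∃ t ∈ A.S, t ∉ A.Q ∧ ∀ q ∈ A.Q, ⁅q, t⁆ ∈ A.V

set_option maxHeartbeats 800000 in
theorem case_one (hs : A.Short 1) (P₀ : A.Path 1) (hc₀ : A.Crit P₀) : A.CaseI := by
  obtain ⟨h, -, hQ, hV, hC, hS, hO⟩ := A.translate P₀
  set P := P₀.smul h with hP
  have hc : A.Crit P := fun h1 => hc₀ (by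
    have := cj_mono h⁻¹ h1
    simp only [P, Path.smul, Vv, Qv, ← cj_mul, inv_mul_cancel_left] at this
    exact this)
  have hx : P.x 0 = h * P₀.x 0 := rfl
  have he : P.e 0 = h * P₀.e 0 := rfl
  rw [← hx] at hQ hV hC; rw [← he] at hS hO
  have hi : A.Inc (P.x 0) (P.e 0) := P.inc₁ 0 Nat.one_pos
  have hiy : A.Inc (P.x 1) (P.e 0) := P.inc₂ 0 Nat.one_pos
  set W := A.Vv (P.x 1) with hWdef
  set D := A.Q ⊓ A.Qv (P.x 1) with hD
  have hWS : W ≤ A.S := hS ▸ A.Vv_le_Se_first hs P hc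
  have hQyS : A.Qv (P.x 1) ≤ A.S := hS ▸ A.Qv_le_Se hiy
  have hdecQ : ∀ q ∈ A.Q, ∃ v ∈ A.V, ∃ d ∈ D, q = v * d := fun q hq => by
    obtain ⟨v, hv, r, hr, e⟩ := A.decomp hs P hc (s := q) (by rw [hS]; exact A.Q_le hq)
    rw [hV] at hv
    refine ⟨v, hv, r, ⟨?_, hr⟩, e⟩
    rw [show r = v⁻¹ * q by rw [e]; group]
    exact A.Q.mul_mem (A.Q.inv_mem (A.V_le hv)) hq
  have hdecS : ∀ s ∈ A.S, ∃ w ∈ W, ∃ v ∈ A.V, ∃ d ∈ D, s = w * v * d := fun s hs' => by
    obtain ⟨w, hw, q, hq, e⟩ := A.decomp_first hs P hc (s := s) (by rw [hS]; exact hs')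
    rw [hQ] at hq
    obtain ⟨v, hv, d, hd, e'⟩ := hdecQ q hq
    exact ⟨w, hw, v, hv, d, hd, by rw [e, e', mul_assoc]⟩
  have hcVD : ∀ v ∈ A.V, ∀ d ∈ D, v * d = d * v := fun v hv d hd => (A.V_Q d hd.1 v hv).symm
  have hcWD : ∀ w ∈ W, ∀ d ∈ D, w * d = d * w := fun w hw d hd => (A.V_Q_v hd.2 hw).symm
  have hWV : ∀ w ∈ W, ∀ v ∈ A.V, ⁅w, v⁆ ∈ A.Om := fun w hw v hv => A.quad (hWS hw) hv
  have hDS : D ≤ A.S := inf_le_left.trans A.Q_le
  have hgen : A.S = W ⊔ A.V ⊔ D := le_antisymm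
    (fun s hs' => by
      obtain ⟨w, hw, v, hv, d, hd, rfl⟩ := hdecS s hs'
      exact Subgroup.mul_mem_sup (Subgroup.mul_mem_sup hw hv) hd)
    (sup_le (sup_le hWS A.V_le_S) hDS)
  set X := A.Om ⊔ ⁅D, D⁆ with hX
  have hOmn : A.S ≤ Subgroup.normalizer (A.Om : Set H) :=
    Subgroup.le_normalizer.trans A.normOm
  have hDn : A.S ≤ Subgroup.normalizer ((⁅D, D⁆ : Subgroup H) : Set H) := by
    rw [hgen]
    refine sup_le (sup_le ?_ ?_) (Subgroup.normalizer_commutator_ge_left ..)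
    all_goals
      refine le_normalizer_of_conj fun g hg y hy => ?_
      have hc' : g * y = y * g := by
        have : ⁅D, D⁆ ≤ D := (Subgroup.le_normalizer_iff_commutator_le_left.1 Subgroup.le_normalizer)
        first
          | exact hcWD g hg y (this hy)
          | exact hcVD g hg y (this hy)
      rw [hc', mul_inv_cancel_right]; exact hy
  have hXn : A.S ≤ Subgroup.normalizer (X : Set H) := fun s hs' =>
    mem_normalizer_of_cj_eq (by
      rw [hX, cj_sup s, cj_eq_of_mem_normalizer (hOmn hs'), cj_eq_of_mem_normalizer (hDn hs')])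
  have h1le : A.S.lowerCentralSeries 1 ≤ X := by
    rw [Subgroup.lowerCentralSeries_succ, Subgroup.lowerCentralSeries_zero]
    conv_lhs => rw [hgen]
    refine comm_sup_self (hWS.trans hXn) (A.V_le_S.trans hXn) (hDS.trans hXn) ?_ ?_ ?_ ?_ ?_ ?_
    · intro a ha b hb
      rw [commutatorElement_eq_one_iff_mul_comm.2 (A.Vv_comm ha hb)]; exact X.one_mem
    · intro a ha b hb
      rw [commutatorElement_eq_one_iff_mul_comm.2 (A.V_comm ha hb)]; exact X.one_mem
    · exact fun a ha b hb => Subgroup.mem_sup_right (Subgroup.commutator_mem_commutator ha hb)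
    · exact fun a ha b hb => Subgroup.mem_sup_left (hWV a ha b hb)
    · intro a ha b hb
      rw [commutatorElement_eq_one_iff_mul_comm.2 (hcWD a ha b hb)]; exact X.one_mem
    · intro a ha b hb
      rw [commutatorElement_eq_one_iff_mul_comm.2 (hcVD a ha b hb)]; exact X.one_mem
  have hclass : A.S.lowerCentralSeries 2 = ⊥ := by
    refine A.lcs_eq_bot 2 ((Subgroup.commutator_mono h1le le_rfl).trans ?_)
    set Y := ⁅⁅D, D⁆, D⁆ with hY
    have hYQ : Y ≤ A.Q.lowerCentralSeries 2 :=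
      Subgroup.commutator_mono (Subgroup.commutator_mono inf_le_left inf_le_left) inf_le_left
    refine le_trans ?_ hYQ
    have hDDD : ⁅D, D⁆ ≤ D := Subgroup.le_normalizer_iff_commutator_le_left.1 Subgroup.le_normalizer
    have hYD : Y ≤ D := (Subgroup.commutator_mono hDDD le_rfl).trans hDDD
    have hYn : A.S ≤ Subgroup.normalizer (Y : Set H) := by
      rw [hgen]
      refine sup_le (sup_le ?_ ?_) (Subgroup.normalizer_commutator_ge_right ..)
      · exact le_normalizer_of_conj fun g hg y hy => by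
          rw [hcWD g hg y (hYD hy), mul_inv_cancel_right]; exact hy
      · exact le_normalizer_of_conj fun g hg y hy => by
          rw [hcVD g hg y (hYD hy), mul_inv_cancel_right]; exact hy
    refine comm_le_of_le_centMod (sup_le ?_ ?_)
    · refine le_centMod_of_comm ((A.Om_le_S).trans hYn) fun a ha b hb => ?_
      rw [commutatorElement_eq_one_iff_mul_comm.2 (A.Om_S b hb a ha).symm]
      exact Y.one_mem
    · refine le_centMod_of_comm ((hDDD.trans hDS).trans hYn) fun a ha b hb => ?_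
      rw [hgen] at hb
      refine comm_sup_right (T := ⁅D, D⁆) ((hDDD.trans hDS).trans hYn) (hWS.trans hYn)
        (A.V_le_S.trans hYn) (hDS.trans hYn) ?_ ?_ ?_ a ha b hb
      · intro t ht w hw
        rw [commutatorElement_eq_one_iff_mul_comm.2 (hcWD w hw t (hDDD ht)).symm]; exact Y.one_mem
      · intro t ht w hw
        rw [commutatorElement_eq_one_iff_mul_comm.2 (hcVD w hw t (hDDD ht)).symm]; exact Y.one_mem
      · exact fun t ht d hd => Subgroup.commutator_mem_commutator ht hd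
  have hne : A.S.lowerCentralSeries 1 ≠ ⊥ := fun hb => by
    refine A.R_not_le hs P hc ((Subgroup.commutator_mono ?_ ?_).trans (hb.le.trans bot_le))
    · rw [hV]; exact A.V_le_S
    · exact hWS
  have hpow : ∀ n : ℕ, p ∣ n → p ∣ n.choose 2 → ∀ s ∈ A.S, s ^ n = 1 := by
    intro n hn hn2 s hs'
    refine A.pow_eq_one 0 n (fun s hs'' => ?_) (by simpa using hs')
    obtain ⟨w, hw, v, hv, d, hd, rfl⟩ := hdecS s (by simpa using hs'')
    refine ⟨d, by simpa using hd.1, ?_⟩
    have hc1 : Commute (w * v) d := Commute.mul_left (hcWD w hw d hd) (hcVD v hv d hd)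
    have hcm : ⁅v, w⁆ ∈ A.Om := commutator_mem_symm (hWV w hw v hv)
    have hpe : ∀ u ∈ A.V, u ^ n = 1 := fun u hu => by
      obtain ⟨j, rfl⟩ := hn
      rw [pow_mul, A.V_elem.2 u hu, one_pow]
    have hwn : w ^ n = 1 := by
      obtain ⟨u, hu, rfl⟩ := hw
      rw [← map_pow, hpe u hu, map_one]
    rw [hc1.mul_pow, mul_pow_central w v (A.Om_S w (hWS hw) _ hcm).symm
      (A.Om_S v (A.V_le_S hv) _ hcm).symm, hwn, hpe v hv]
    obtain ⟨j, hj⟩ := hn2
    rw [hj, pow_mul, A.V_elem.2 _ (A.Om_le hcm), one_pow, one_mul, one_mul, one_mul]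
  have hr := A.crit_rev hs P hc
  simp only [Crit, Path.rev, Nat.sub_zero, Nat.sub_self] at hr
  obtain ⟨t, ht, htQ⟩ := SetLike.not_le_iff_exists.1 hr
  rw [hQ] at htQ
  refine ⟨hclass, hne, fun hp2 s hs' => hpow 4 (by rw [hp2]; norm_num)
    (by rw [hp2]; decide) s hs', fun hp2 s hs' => hpow p dvd_rfl ?_ s hs', t, hWS ht, htQ,
    fun q hq => ?_⟩
  · have hp := (Fact.out : p.Prime)
    exact hp.dvd_choose_self two_ne_zero (lt_of_le_of_ne hp.two_le (Ne.symm hp2))
  · obtain ⟨v, hv, d, hd, rfl⟩ := hdecQ q hq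
    rw [commutator_mul_left, commutatorElement_eq_one_iff_mul_comm.2 (hcWD t ht d hd).symm, mul_one,
      mul_inv_cancel, one_mul]
    exact A.Om_le (commutator_mem_symm (hWV t ht v hv))

end Amb

end Cfsg.Agent.PushUp62
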