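import Cfsg.Agent.PushUp62.Cfg

/-!
The case of critical distance two: `p = 3` and `S` has class three.
-/

set_option autoImplicit false
set_option linter.unusedSectionVars false
set_option linter.unusedVariables false
set_option linter.style.haveILetI false

namespace Cfsg.Agent.PushUp62

open scoped MatrixGroups commutatorElement
open Cfsg.Agent.PLocalB (upper lower)
open Cfsg.Agent.LocalEven61 (pslMap sl2_smul_apply)

variable {H : Type*} [Group H]

theorem comm_pow_four {t w n1 n2 : H} (hn1 : n1 = ⁅t, w⁆) (hn2 : n2 = ⁅t, n1⁆)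
    (h2t : Commute n2 t) (h2n : Commute n2 n1) : ⁅t ^ 4, ⁅t ^ 4, w⁆⁆ = n2 ^ 16 := by
  have e1 : t * n1 * t⁻¹ = n2 * n1 := by rw [hn2, commutatorElement_def]; group
  have e0 : t * w * t⁻¹ = n1 * w := by rw [hn1, commutatorElement_def]; group
  have ht2 : ∀ j : ℕ, t * n2 ^ j * t⁻¹ = n2 ^ j := fun j => by
    rw [((h2t.pow_left j).symm).eq, mul_inv_cancel_right]
  have key : ∀ k : ℕ, t ^ k * w * (t ^ k)⁻¹ = n2 ^ k.choose 2 * n1 ^ k * w ∧
      t ^ k * n1 * (t ^ k)⁻¹ = n2 ^ k * n1 := by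
    intro k
    induction k with
    | zero => simp
    | succ k ih =>
      constructor
      · calc t ^ (k + 1) * w * (t ^ (k + 1))⁻¹ = t * (t ^ k * w * (t ^ k)⁻¹) * t⁻¹ := by
              rw [pow_succ']; group
          _ = (t * n2 ^ k.choose 2 * t⁻¹) * (t * n1 * t⁻¹) ^ k * (t * w * t⁻¹) := by
              rw [ih.1, conj_pow]; group
          _ = n2 ^ (k + 1).choose 2 * n1 ^ (k + 1) * w := by
              rw [ht2, e1, e0, h2n.mul_pow, Nat.choose_succ_succ' k 1, Nat.choose_one_right,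
                Nat.add_comm k, pow_add, pow_succ]
              simp only [mul_assoc]
      · calc t ^ (k + 1) * n1 * (t ^ (k + 1))⁻¹ = t * (t ^ k * n1 * (t ^ k)⁻¹) * t⁻¹ := by
              rw [pow_succ']; group
          _ = (t * n2 ^ k * t⁻¹) * (t * n1 * t⁻¹) := by rw [ih.2]; group
          _ = n2 ^ (k + 1) * n1 := by rw [ht2, e1, pow_succ, mul_assoc]
  have h4 : ⁅t ^ 4, w⁆ = n2 ^ 6 * n1 ^ 4 := by
    rw [commutatorElement_def, (key 4).1, show Nat.choose 4 2 = 6 by decide]; group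
  rw [h4, commutatorElement_def,
    show t ^ 4 * (n2 ^ 6 * n1 ^ 4) * (t ^ 4)⁻¹ = (t ^ 4 * n2 ^ 6 * (t ^ 4)⁻¹) * (t ^ 4 * n1 * (t ^ 4)⁻¹) ^ 4 by
      rw [conj_pow]; group,
    (key 4).2, ((h2t.pow_pow 6 4).symm).eq, mul_inv_cancel_right, (h2n.pow_left 4).mul_pow, ← pow_mul]
  rw [show n2 ^ 6 * (n2 ^ (4 * 4) * n1 ^ 4) = n2 ^ 16 * (n2 ^ 6 * n1 ^ 4) by
    rw [← mul_assoc, ← mul_assoc, ← pow_add, ← pow_add]]
  group

theorem mul_pow_three {a t c f g : H} (hc : c = ⁅a, t⁆) (hf : f = ⁅c, t⁆) (hg : g = ⁅c, a⁆)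
    (hfa : Commute f a) (hft : Commute f t) (hga : Commute g a) (hgt : Commute g t)
    (hfc : Commute f c) (hgc : Commute g c) (ha : a ^ 3 = 1) (ht : t ^ 3 = 1) (hc3 : c ^ 3 = 1)
    (hf3 : f ^ 3 = 1) : (a⁻¹ * t⁻¹) ^ 3 = f ^ 2 * g := by
  -- work with `A = a⁻¹`, `T = t⁻¹`, `K = c⁻¹`
  set A := a⁻¹
  set T := t⁻¹
  set K := c⁻¹
  have hTA : T * A = A * T * K := by simp only [A, T, K, hc, commutatorElement_def]; group
  have hKT : K * T = T * K * f := by simp only [A, T, K, hf, commutatorElement_def]; group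
  have hKA : K * A = A * K * g := by simp only [A, T, K, hg, commutatorElement_def]; group
  have hA : A * A * A = 1 := by
    simp only [A]
    rw [show a⁻¹ * a⁻¹ * a⁻¹ = (a ^ 3)⁻¹ by group, ha, inv_one]
  have hT : T * T * T = 1 := by
    simp only [T]
    rw [show t⁻¹ * t⁻¹ * t⁻¹ = (t ^ 3)⁻¹ by group, ht, inv_one]
  have hK : K * K * K = 1 := by
    simp only [K]
    rw [show c⁻¹ * c⁻¹ * c⁻¹ = (c ^ 3)⁻¹ by group, hc3, inv_one]
  have cfA : Commute f A := hfa.inv_right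
  have cgA : Commute g A := hga.inv_right
  have cfT : Commute f T := hft.inv_right
  have cgT : Commute g T := hgt.inv_right
  have cfK : Commute f K := hfc.inv_right
  have cgK : Commute g K := hgc.inv_right
  have cgf : g * f = f * g := by
    have : Commute g f := by
      rw [hf, commutatorElement_def]
      exact ((hgc.mul_right hgt).mul_right hgc.inv_right).mul_right hgt.inv_right
    exact this.eq
  have rTA : ∀ x, T * (A * x) = A * (T * (K * x)) := fun x => by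
    rw [← mul_assoc, hTA]; simp only [mul_assoc]
  have rKT : ∀ x, K * (T * x) = T * (K * (f * x)) := fun x => by
    rw [← mul_assoc, hKT]; simp only [mul_assoc]
  have rKA : ∀ x, K * (A * x) = A * (K * (g * x)) := fun x => by
    rw [← mul_assoc, hKA]; simp only [mul_assoc]
  have rfA : ∀ x, f * (A * x) = A * (f * x) := fun x => by rw [← mul_assoc, cfA.eq, mul_assoc]
  have rfT : ∀ x, f * (T * x) = T * (f * x) := fun x => by rw [← mul_assoc, cfT.eq, mul_assoc]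
  have rfK : ∀ x, f * (K * x) = K * (f * x) := fun x => by rw [← mul_assoc, cfK.eq, mul_assoc]
  have rgA : ∀ x, g * (A * x) = A * (g * x) := fun x => by rw [← mul_assoc, cgA.eq, mul_assoc]
  have rgT : ∀ x, g * (T * x) = T * (g * x) := fun x => by rw [← mul_assoc, cgT.eq, mul_assoc]
  have rgK : ∀ x, g * (K * x) = K * (g * x) := fun x => by rw [← mul_assoc, cgK.eq, mul_assoc]
  have rgf : ∀ x, g * (f * x) = f * (g * x) := fun x => by rw [← mul_assoc, cgf, mul_assoc]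
  have rA3 : ∀ x, A * (A * (A * x)) = x := fun x => by
    rw [← mul_assoc, ← mul_assoc, hA, one_mul]
  have rT3 : ∀ x, T * (T * (T * x)) = x := fun x => by
    rw [← mul_assoc, ← mul_assoc, hT, one_mul]
  have rK3 : ∀ x, K * (K * (K * x)) = x := fun x => by
    rw [← mul_assoc, ← mul_assoc, hK, one_mul]
  have hF : f * f * f = 1 := by rw [← hf3, pow_succ, pow_two]
  have rF3 : ∀ x, f * (f * (f * x)) = x := fun x => by
    rw [← mul_assoc, ← mul_assoc, hF, one_mul]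
  suffices ∀ x, A * (T * (A * (T * (A * (T * x))))) = f * (f * (g * x)) by
    have h1 := this 1
    simp only [mul_one] at h1
    simpa only [pow_succ, pow_zero, one_mul, mul_assoc] using h1
  intro x
  simp only [rTA, rKT, rKA, rfA, rfT, rfK, rgA, rgT, rgK, rgf, rA3, rT3, rK3, rF3]

namespace Amb

variable [Finite H] {F : Type} [Field F] [Fintype F] {p : ℕ} [Fact p.Prime] [CharP F p]
  (A : Amb H F p)

theorem eq_Q_of_kernel {X Y L : Subgroup H} (D : SectNat A.G A.S A.proj X Y L)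
    (h : ∀ k : ↥A.G, D.rep k = 1 → ∀ m : ℕ, (k : H) ^ m = 1 → m.Coprime p → k = 1) (g : ↥A.G) :
    D.rep g = 1 ↔ (g : H) ∈ A.Q := by
  constructor
  · intro hg
    have hp : IsPGroup p ↥(D.rep.ker.map A.G.subtype) := by
      refine IsPGroup.map (fun k => ?_) _
      obtain ⟨i, m, hm, he⟩ := Nat.exists_eq_pow_mul_and_not_dvd (orderOf_pos k).ne' p
        (Fact.out : p.Prime).ne_one
      refine ⟨i, Subtype.ext (h (((k : ↥A.G)) ^ p ^ i) ?_ m ?_ ?_)⟩
      · rw [map_pow, k.2, one_pow]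
      · have := pow_orderOf_eq_one k
        rw [he, pow_mul] at this
        simpa using congrArg (fun z : ↥D.rep.ker => ((z : ↥A.G) : H)) this
      · exact (((Fact.out : p.Prime).coprime_iff_not_dvd).2 hm).symm
    refine A.pCore _ (Subgroup.map_subtype_le _) (le_normalizer_of_conj fun a ha y hy => ?_) hp
      ⟨g, hg, rfl⟩
    obtain ⟨y, hy', rfl⟩ := hy
    exact ⟨⟨a, ha⟩ * y * ⟨a, ha⟩⁻¹, by
      simp [MonoidHom.mem_ker, map_mul, map_inv, MonoidHom.mem_ker.1 hy'], rfl⟩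
  · intro hg
    obtain ⟨τ, hτ⟩ := D.exists_upper g (A.Q_le hg)
    have h1 := D.psl_rep g
    rw [hτ, A.proj_Q g hg, ← map_one (pslMap (F := F)), ← PLocalB.upper_zero] at h1
    rw [hτ, upper_eq_of_psl h1, PLocalB.upper_zero]

theorem comm_W_pow {z f x e u g y : H} (hs : A.Short 2) (c : A.Cfg z f x e u g y) (hp : p ≠ 2)
    {w : H} (hw : w ∈ A.Wat x) : w ^ p = 1 := by
  have hd : ∀ {n}, n ∈ A.Cv x → n ^ p = 1 := fun {n} hn => by
    obtain ⟨n, hn', rfl⟩ := hn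
    rw [← map_pow, A.V_elem.2 n (A.Om_le (A.C_le hn')), map_one]
  have hdvd : p ∣ p.choose 2 := (Fact.out : p.Prime).dvd_choose_self two_ne_zero
    (lt_of_le_of_ne (Fact.out : p.Prime).two_le (Ne.symm hp))
  let T : Subgroup H :=
    { carrier := {w | w ∈ A.Wat x ∧ w ^ p = 1}
      one_mem' := ⟨one_mem _, one_pow _⟩
      mul_mem' := fun {a b} ha hb => ⟨mul_mem ha.1 hb.1, by
        have hR := c.R0_le_Cx hs (c.W_comm hs b hb.1 a ha.1)
        have hG : A.Wat x ≤ A.Gv x := (A.Wat_le_Qv hs x).trans (A.Qv_le_Gv x)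
        rw [mul_pow_central a b (A.centC_v (hG ha.1) hR).symm (A.centC_v (hG hb.1) hR).symm p, ha.2,
          hb.2, one_mul, one_mul]
        obtain ⟨j, hj⟩ := hdvd
        rw [hj, pow_mul, hd hR, one_pow]⟩
      inv_mem' := fun {a} ha => ⟨inv_mem ha.1, by rw [inv_pow, ha.2, inv_one]⟩ }
  have : A.Wat x ≤ T := iSup_le fun z' v hv => by
    obtain ⟨e', he', hz'⟩ := z'.2
    refine ⟨A.Vv_le_Wat he' hz' hv, ?_⟩
    obtain ⟨v, hv', rfl⟩ := hv
    rw [← map_pow, A.V_elem.2 v hv', map_one]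
  exact (this hw).2

/-- The structure in the second case. -/
structure CaseII : Prop where
  p_eq : p = 3
  class_le : A.S.lowerCentralSeries 3 = ⊥
  class_ne : A.S.lowerCentralSeries 2 ≠ ⊥
  exp : ∀ s ∈ A.S, s ^ 9 = 1
  exp_ne : ∃ s ∈ A.S, s ^ 3 ≠ 1
  ker : ∀ g : ↥A.G, A.nat.rep g = 1 ↔ (g : H) ∈ A.Q
  sect : ∃ W Wc WF : Subgroup H, Nonempty (SectNat A.G A.S A.proj W Wc WF) ∧
    A.G ≤ Subgroup.normalizer (W : Set H) ∧ A.G ≤ Subgroup.normalizer (Wc : Set H) ∧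
    A.V ≤ Wc ∧ Wc ≤ W ∧ W ≤ A.Q ∧ (∀ w ∈ Wc, ∀ g ∈ A.G, ⁅w, g⁆ ∈ A.V) ∧ ¬ ⁅W, A.G⁆ ≤ Wc ∧
    ∃ t ∈ A.S, t ∉ A.Q ∧ ∀ q ∈ A.Q, ⁅q, t⁆ ∈ W

set_option maxHeartbeats 4000000 in
theorem case_two (hs : A.Short 2) (P₀ : A.Path 2) (hc₀ : A.Crit P₀) : A.CaseII := by
  classical
  obtain ⟨z, f, x, e, u, g, y, c, hG, hQ, hV, hC, hS, hO⟩ := A.exists_cfg_base hs P₀ hc₀
  have c' := c.symm hs
  obtain ⟨g', w', cr⟩ := c.exists_rot hs
  set W := A.Wat x with hW
  set WF := A.Wat x ⊓ A.Qv u with hWF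
  set Wc := A.Wat x ⊓ A.Qv u ⊓ A.Qv z with hWc
  set Vz := A.Vv z
  set Vy := A.Vv y
  set R0 := ⁅A.Vv z, A.Vv u⁆ with hR0
  set R1 := ⁅A.Vv x, A.Vv y⁆ with hR1
  set D := A.Qv x ⊓ A.Qv u with hD
  have hWn : A.G ≤ Subgroup.normalizer (W : Set H) := hG ▸ A.Gv_le_normalizer_Wat x
  have hWcn : A.G ≤ Subgroup.normalizer (Wc : Set H) := hG ▸ c.Wc_normal hs
  have hWQ : W ≤ A.Q := hQ ▸ A.Wat_le_Qv hs x
  have hVWc : A.V ≤ Wc := hV ▸ c.Vx_le_Wc hs
  have hWcW : Wc ≤ W := inf_le_left.trans inf_le_left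
  have hR0C : R0 ≤ A.C := hC ▸ c.R0_le_Cx hs
  have hR0O : R0 ≤ A.Om := hR0C.trans A.C_le
  have hR1O : R1 ≤ A.Om := hO ▸ c.R1_le_Oe hs
  have hVzQ : Vz ≤ A.Q := hQ ▸ c.Vz_le_Qx hs
  have hVyS : Vy ≤ A.S := hS ▸ c.Vy_le_Se hs
  have hVzS : Vz ≤ A.S := hVzQ.trans A.Q_le
  have hDQ : D ≤ A.Q := hQ ▸ inf_le_left
  have hDS : D ≤ A.S := hDQ.trans A.Q_le
  have hVzW : Vz ≤ W := A.Vv_le_Wat c.xf c.zf
  have hdecQ : ∀ q ∈ A.Q, ∃ v ∈ Vz, ∃ d ∈ D, q = v * d := fun q hq =>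
    c.decomp_Q hs (by rw [hQ]; exact hq)
  have hdecS : ∀ s ∈ A.S, ∃ w ∈ Vy, ∃ v ∈ Vz, ∃ d ∈ D, s = w * v * d := fun s hs' => by
    obtain ⟨w, hw, q, hq, e1⟩ := c.decomp_S hs (s := s) (by rw [hS]; exact hs')
    rw [hQ] at hq
    obtain ⟨v, hv, d, hd, e2⟩ := hdecQ q hq
    exact ⟨w, hw, v, hv, d, hd, by rw [e1, e2, mul_assoc]⟩
  have hgen : A.S = Vy ⊔ Vz ⊔ D := le_antisymm
    (fun s hs' => by
      obtain ⟨w, hw, v, hv, d, hd, rfl⟩ := hdecS s hs'
      exact Subgroup.mul_mem_sup (Subgroup.mul_mem_sup hw hv) hd)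
    (sup_le (sup_le hVyS hVzS) hDS)
  have hDy : ∀ d ∈ D, ∀ w ∈ Vy, ⁅d, w⁆ ∈ R1 := fun d hd w hw => c.comm_D_Vy hs hd.2 hw
  have hDz : ∀ d ∈ D, ∀ v ∈ Vz, ⁅d, v⁆ ∈ R0 := fun d hd v hv => c.comm_D_Vz hs hd.1 hv
  have hWW : ∀ a ∈ W, ∀ b ∈ W, ⁅a, b⁆ ∈ R0 := c.W_comm hs
  have hWuWu : ∀ a ∈ A.Wat u, ∀ b ∈ A.Wat u, ⁅a, b⁆ ∈ R1 := fun a ha b hb => by
    rw [hR1, Subgroup.commutator_comm]; exact c'.W_comm hs a ha b hb
  obtain ⟨t, ht, htQ'⟩ := SetLike.not_le_iff_exists.1 (c.not_yx hs)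
  obtain ⟨a, ha, haQ⟩ := SetLike.not_le_iff_exists.1 c.zu
  have htQ : t ∉ A.Q := hQ ▸ htQ'
  have htS : t ∈ A.S := hVyS ht
  set cc := ⁅a, t⁆ with hcc
  have hccW : cc ∈ WF := c.comm_Vz_Vy_mem hs ha ht
  have hct : ⁅cc, t⁆ ∉ A.C := hC ▸ c.double_comm hs ha haQ ht htQ'
  have hca : ⁅cc, a⁆ ∈ A.C := hC ▸ c.comm_c_a hs ha ht
  have hccS : cc ∈ A.S := (hWQ.trans A.Q_le) hccW.1
  have hQW : ∀ q ∈ A.Q, ⁅q, t⁆ ∈ W := fun q hq => by
    obtain ⟨v, hv, d, hd, rfl⟩ := hdecQ q hq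
    rw [commutator_mul_left]
    refine W.mul_mem (conj_mem_of_le_normalizer' hWn (A.Q_le_G (hVzQ hv)) ?_) (c.comm_Vz_Vy_mem hs hv ht).1
    exact A.Vv_le_Wat c.xe c.xe (hV.symm ▸ A.Om_le (hR1O (hDy d hd t ht)))
  -- the natural module `W / Wc`
  have hWcen : ∀ w ∈ Wc, ∀ k ∈ A.G, ⁅w, k⁆ ∈ A.V := fun w hw k hk =>
    hV ▸ (c.Wc_central hs hw).2 k (hG.symm ▸ hk)
  obtain ⟨natW⟩ := exists_sectNat (p := p) (G := A.G) (S := A.S) (X := W) (Y := Wc) (L := WF)
    (π := A.proj) A.proj_surj A.S_le A.S_pgroup A.map_mem A.map_S inf_le_left inf_le_left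
    (hWQ.trans A.Q_le_G) hWn hWcn
    (fun a ha b hb => hVWc (A.Om_le (hR0O (hWW a ha b hb))))
    (c.card_W hs) (c.card_WF hs)
    (fun s hs' w hw => hVWc (hV ▸ commutator_mem_symm ((c.WF_le_centMod hs hw).2 s (hS.symm ▸ hs'))))
    (fun k hk w hw hkw => by
      refine c.mem_Wc hs hw ?_
      have hn : A.G ≤ Subgroup.normalizer (A.V : Set H) := A.normV
      have hfix : ∀ a ∈ WF, ∀ s ∈ A.S, ⁅a, s⁆ ∈ A.V := fun a ha s hs' =>
        hV ▸ (c.WF_le_centMod hs ha).2 s (hS.symm ▸ hs')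
      have hk' : A.G ≤ centMod (Subgroup.zpowers ((k : H) * w * (k : H)⁻¹)) A.V := by
        refine (A.gen k hk).ge.trans ?_
        have hz : ∀ s : H, s ∈ A.G → ⁅(k : H) * w * (k : H)⁻¹, s⁆ ∈ A.V →
            s ∈ centMod (Subgroup.zpowers ((k : H) * w * (k : H)⁻¹)) A.V := by
          intro s hsG hsc
          refine ⟨hn hsG, fun b hb => commutator_mem_symm ?_⟩
          have : Subgroup.zpowers ((k : H) * w * (k : H)⁻¹) ≤ centElt s A.V := by
            rw [Subgroup.zpowers_le]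
            exact ⟨hn (A.G.mul_mem (A.G.mul_mem k.2 (hWQ.trans A.Q_le_G hw.1)) (A.G.inv_mem k.2)), hsc⟩
          exact (this hb).2
        refine sup_le (fun s hs' => hz s (A.S_le hs') (hfix _ hkw s hs')) ?_
        rintro _ ⟨s, hs', rfl⟩
        refine hz _ (A.G.mul_mem (A.G.mul_mem k.2 (A.S_le hs')) (A.G.inv_mem k.2)) ?_
        show ⁅(k : H) * w * (k : H)⁻¹, (k : H) * s * (k : H)⁻¹⁆ ∈ A.V
        rw [← conj_commutator]
        exact conj_mem_of_le_normalizer' hn k.2 (hfix w hw s hs')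
      intro k' hk''
      rw [hG] at hk''
      rw [hV]
      have h1 := (hk' (A.G.mul_mem (A.G.mul_mem k.2 hk'') (A.G.inv_mem k.2))).2 _
        (Subgroup.mem_zpowers _)
      have h2 := conj_mem_of_le_normalizer' hn (A.G.inv_mem k.2) (commutator_mem_symm h1)
      rw [conj_commutator] at h2
      simpa [mul_assoc] using h2)
    A.gen
  -- the kernel
  have hker : ∀ k : ↥A.G, A.nat.rep k = 1 ↔ (k : H) ∈ A.Q := by
    obtain ⟨k₀, hk₀⟩ := A.proj_surj (pslMap weyl)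
    have hrep : A.nat.rep = natW.rep := A.nat.rep_eq (p := p) natW k₀ (A.gen k₀ (by
      rw [inBorel_iff hk₀.symm]; simp [weyl]))
    refine A.eq_Q_of_kernel A.nat fun k hk m hm hcop => ?_
    have hVk : ∀ v ∈ A.V, (k : H) * v = v * k := fun v hv =>
      commute_of_stabilizes (A.S_pgroup.to_le (A.C_le.trans A.Om_le_S))
        (fun b hb => A.centC _ k.2 b hb) hm hcop
        ((A.nat.comm_mem_Y_iff A.normV k hv).2 (by rw [hk]; simp))
    have hWck : ∀ w ∈ Wc, (k : H) * w = w * k := fun w hw =>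
      commute_of_stabilizes (A.S_pgroup.to_le A.V_le_S) hVk hm hcop
        (commutator_mem_symm (hWcen w hw k k.2))
    have hWk : ∀ w ∈ W, (k : H) * w = w * k := fun w hw =>
      commute_of_stabilizes (A.S_pgroup.to_le ((hWcW.trans hWQ).trans A.Q_le)) hWck hm hcop
        ((natW.comm_mem_Y_iff hWn k hw).2 (by rw [← hrep, hk]; simp))
    have hQk : ∀ q ∈ A.Q, (k : H) * q = q * k := fun q hq =>
      commute_of_stabilizes (A.S_pgroup.to_le (hWQ.trans A.Q_le)) hWk hm hcop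
        (A.mem_of_coprime hWn htS htQ hQW k.2 hm hcop q hq)
    obtain ⟨i, hi⟩ := A.S_pgroup ⟨k, A.Q_le (A.charP_cond k k.2 hQk)⟩
    have h2 := pow_gcd_eq_one.2 ⟨hm, show (k : H) ^ p ^ i = 1 by simpa using congrArg Subtype.val hi⟩
    rw [(Nat.Coprime.pow_right i hcop).gcd_eq_one, pow_one] at h2
    exact Subtype.ext h2
  -- `p ≠ 2`
  have hp2 : p ≠ 2 := by
    intro h2
    have hsq : ∀ {b n : H}, n ∈ A.Vv b → n⁻¹ = n := fun {b n} hn => by
      obtain ⟨n, hn', rfl⟩ := hn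
      rw [← map_inv]
      congr 1
      have := A.V_elem.2 n hn'
      rw [h2, pow_two] at this
      exact inv_eq_of_mul_eq_one_right this
    apply hct
    have e1 : ⁅cc, t⁆ = ⁅cc, a⁆ := by
      have ha' := hsq ha
      have ht' := hsq ht
      have haa : a * a = 1 := by nth_rewrite 1 [← ha']; exact inv_mul_cancel a
      have htt : t * t = 1 := by nth_rewrite 1 [← ht']; exact inv_mul_cancel t
      have e3 : cc = a * t * a * t := by rw [hcc, commutatorElement_def, ha', ht']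
      have e4 : cc⁻¹ = t * a * t * a := by
        rw [e3]; simp only [mul_inv_rev, ha', ht', mul_assoc]
      simp only [commutatorElement_def, ha', ht']
      calc cc * t * cc⁻¹ * t = cc * (t * t) * a * t * a * t := by rw [e4]; simp only [mul_assoc]
        _ = cc * cc := by rw [htt, e3]; simp only [mul_assoc, one_mul]
        _ = cc * a * cc⁻¹ * a := by
          rw [e4]
          nth_rewrite 2 [e3]
          simp only [mul_assoc, haa, mul_one]
    rw [e1]; exact hca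
  have hOmS : ∀ {s r : H}, s ∈ A.S → r ∈ A.Om → s * r = r * s := fun hs' hr => A.Om_S _ hs' _ hr
  -- `p = 3`
  have hp3 : p = 3 := by
    by_contra h3
    have hp5 : ¬ p ∣ 12 := by
      intro h12
      rcases (Fact.out : p.Prime).dvd_mul.1 (show p ∣ 4 * 3 by simpa using h12) with h | h
      · exact hp2 ((Nat.prime_dvd_prime_iff_eq Fact.out Nat.prime_two).1
          ((Fact.out : p.Prime).dvd_of_dvd_pow (show p ∣ 2 ^ 2 by simpa using h)))
      · exact h3 ((Nat.prime_dvd_prime_iff_eq Fact.out Nat.prime_three).1 h)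
    have h20 : (2 : F) ≠ 0 := fun h => hp2 (by
      have h' : p ∣ 2 := (CharP.cast_eq_zero_iff F p 2).1 (by exact_mod_cast h)
      exact (Nat.prime_dvd_prime_iff_eq Fact.out Nat.prime_two).1 h')
    obtain ⟨k, hk⟩ : ∃ k : ℕ, (k : F) = (2 : F)⁻¹ := by
      refine ⟨(p + 1) / 2, eq_inv_of_mul_eq_one_left ?_⟩
      obtain ⟨j, hj⟩ := (Fact.out : p.Prime).odd_of_ne_two hp2
      rw [show (p + 1) / 2 = j + 1 by omega]
      have : ((p : ℕ) : F) = 0 := CharP.cast_eq_zero F p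
      rw [hj] at this
      push_cast at this ⊢
      linear_combination this
    obtain ⟨Dg, hDg⟩ : ∃ Dg : SL(2, F), Dg.1 = !![2, 0; 0, (2 : F)⁻¹] :=
      ⟨⟨!![2, 0; 0, (2 : F)⁻¹], by simp [Matrix.det_fin_two, h20]⟩, rfl⟩
    obtain ⟨hh, hhrep⟩ := A.nat.surj Dg
    obtain ⟨k₀, hk₀⟩ := A.proj_surj (pslMap weyl)
    have hrep : A.nat.rep = natW.rep := A.nat.rep_eq (p := p) natW k₀ (A.gen k₀ (by
      rw [inBorel_iff hk₀.symm]; simp [weyl]))
    set tt : ↥A.G := ⟨t, A.S_le htS⟩ with htt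
    obtain ⟨τ, hτ⟩ := A.nat.exists_upper tt htS
    have hq : (hh : H) * t * (hh : H)⁻¹ * (t ^ 4)⁻¹ ∈ A.Q := by
      refine (hker (hh * tt * hh⁻¹ * (tt ^ 4)⁻¹)).1 ?_
      rw [map_mul, map_mul, map_mul, map_inv, map_inv, map_pow, hhrep, hτ, PLocalB.upper_pow,
        mul_inv_eq_one]
      apply Subtype.ext
      rw [Matrix.SpecialLinearGroup.coe_mul, Matrix.SpecialLinearGroup.coe_mul,
        Matrix.SpecialLinearGroup.coe_inv, PLocalB.coe_upper, PLocalB.coe_upper, hDg,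
        Matrix.adjugate_fin_two]
      ext i j
      fin_cases i <;> fin_cases j <;>
        simp [Matrix.mul_apply, Fin.sum_univ_two, h20]
      ring
    -- the quadratic map
    let N2 : H → H := fun w => ⁅t, ⁅t, w⁆⁆
    have hWS : W ≤ A.S := hWQ.trans A.Q_le
    have hn1 : ∀ w ∈ W, ⁅t, w⁆ ∈ WF := fun w hw => by
      refine ⟨?_, A.comm_Se_mem_Qv c.ue (hS.symm ▸ htS) (hS.symm ▸ hWS hw)⟩
      rw [commutatorElement_def]
      exact W.mul_mem (conj_mem_of_le_normalizer' hWn (A.S_le htS) hw) (W.inv_mem hw)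
    have hWFR : ∀ w ∈ WF, ⁅t, w⁆ ∈ A.Om := fun w hw =>
      hR1O (commutator_mem_symm (c.comm_D_Vy hs hw.2 ht))
    have hN2O : ∀ w ∈ W, N2 w ∈ A.Om := fun w hw => hWFR _ (hn1 w hw)
    have hN2mul : ∀ v ∈ W, ∀ w ∈ W, N2 (v * w) = N2 v * N2 w := by
      intro v hv w hw
      have e0 : v * ⁅t, w⁆ * v⁻¹ = ⁅v, ⁅t, w⁆⁆ * ⁅t, w⁆ := by rw [commutatorElement_def]; group
      have hr : ⁅v, ⁅t, w⁆⁆ ∈ A.Om := hR0O (hWW v hv _ (hn1 w hw).1)
      have hcr : ∀ b ∈ W, ⁅t, ⁅v, ⁅t, w⁆⁆ * b⁆ = ⁅t, b⁆ := fun b hb => by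
        have htb : ⁅t, b⁆ ∈ A.S :=
          A.S.mul_mem (A.S.mul_mem (A.S.mul_mem htS (hWS hb)) (A.S.inv_mem htS)) (A.S.inv_mem (hWS hb))
        rw [commutator_mul_right, commutatorElement_eq_one_iff_mul_comm.2 (hOmS htS hr), one_mul,
          ← hOmS htb hr, mul_inv_cancel_right]
      show ⁅t, ⁅t, v * w⁆⁆ = _
      rw [commutator_mul_right t v w, e0, commutator_mul_right t ⁅t, v⁆, hcr _ (hn1 w hw).1,
        hOmS (hWS (hn1 v hv).1) (hN2O w hw), mul_inv_cancel_right]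
    have hN2pow : ∀ v ∈ W, ∀ j : ℕ, N2 (v ^ j) = N2 v ^ j := by
      intro v hv j
      induction j with
      | zero => simp [N2]
      | succ j ih => rw [pow_succ, pow_succ, hN2mul _ (W.pow_mem hv j) _ hv, ih]
    have hN2F : ∀ w ∈ WF, N2 w = 1 := fun w hw =>
      commutatorElement_eq_one_iff_mul_comm.2 (hOmS htS (hWFR w hw))
    set ω := A.nat.crd (N2 a) 0 with hω
    have hNa : N2 a = ⁅cc, t⁆ := by
      show ⁅t, ⁅t, a⁆⁆ = _
      rw [← commutatorElement_inv a t, ← hcc]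
      have e5 : ⁅t, cc⁻¹⁆ = cc⁻¹ * ⁅cc, t⁆ * cc := by
        simp only [commutatorElement_def]; group
      have hm : ⁅cc, t⁆ ∈ A.Om := commutator_mem_symm (hWFR cc hccW)
      rw [e5, hOmS (A.S.inv_mem hccS) hm, inv_mul_cancel_right]
    -- the subgroup generated by the conjugates of `V_z`
    have hQa : ∀ q ∈ A.Q, ∀ k ∈ A.G, ∀ v ∈ Vz, ⁅q, k * v * k⁻¹⁆ ∈ A.C := by
      intro q hq k hk v hv
      have h1 : ⁅k⁻¹ * q * k, v⁆ ∈ A.C := by
        obtain ⟨v', hv', d, hd, e6⟩ := hdecQ _ (by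
          simpa using conj_mem_of_le_normalizer' A.normQ (A.G.inv_mem hk) hq)
        rw [e6, commutator_mul_left,
          commutatorElement_eq_one_iff_mul_comm.2 (A.Vv_comm hv' hv), mul_one]
        exact conj_mem_of_le_normalizer' A.G_le_normalizer_C (A.Q_le_G (hVzQ hv'))
          (hR0C (hDz d hd v hv))
      have h2 := conj_mem_of_le_normalizer' A.G_le_normalizer_C hk h1
      rw [conj_commutator] at h2
      simpa [mul_assoc] using h2
    set a' := (hh : H) * a * (hh : H)⁻¹ with ha'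
    have ha'W : a' ∈ W := conj_mem_of_le_normalizer' hWn hh.2 (hVzW ha)
    set q := (hh : H) * t * (hh : H)⁻¹ * (t ^ 4)⁻¹ with hqdef
    let T : Subgroup H := ⨆ k : ↥A.G, cj (k : H) Vz
    have hTn : ∀ k ∈ A.G, ∀ b ∈ T, k * b * k⁻¹ ∈ T := by
      intro k hk b hb
      have : T ≤ T.comap (MulAut.conj k).toMonoidHom := iSup_le fun j => by
        rw [← Subgroup.map_le_iff_le_comap]
        show cj k (cj (j : H) Vz) ≤ T
        rw [← cj_mul]
        exact le_iSup (fun j : ↥A.G => cj (j : H) Vz) ⟨k * j, A.G.mul_mem hk j.2⟩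
      exact this hb
    have hTQ : T ≤ centMod A.Q A.C := iSup_le fun j b hb => by
      obtain ⟨v, hv, rfl⟩ := hb
      refine ⟨A.G_le_normalizer_C (A.G.mul_mem (A.G.mul_mem j.2 (A.Q_le_G (hVzQ hv))) (A.G.inv_mem j.2)),
        fun q hq => commutator_mem_symm (hQa q hq j j.2 v hv)⟩
    have haT : a' ∈ T :=
      (le_iSup (fun j : ↥A.G => cj (j : H) Vz) hh) (conj_mem_cj ha)
    have hstep : ∀ b ∈ T, ⁅q * t ^ 4, b⁆ * ⁅t ^ 4, b⁆⁻¹ ∈ A.C := by
      intro b hb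
      have hb' : ⁅t ^ 4, b⁆ ∈ T := by
        rw [commutatorElement_def]
        exact T.mul_mem (hTn _ (A.G.pow_mem (A.S_le htS) 4) b hb) (T.inv_mem hb)
      have h1 : q * ⁅t ^ 4, b⁆ * q⁻¹ = ⁅q, ⁅t ^ 4, b⁆⁆ * ⁅t ^ 4, b⁆ := by
        rw [commutatorElement_def q]; group
      have h2 : ⁅q, b⁆ ∈ A.C := commutator_mem_symm ((hTQ hb).2 q hq)
      have hWG : ∀ n ∈ T, n ∈ A.G := fun n hn =>
        (hWQ.trans A.Q_le_G) ((iSup_le fun j : ↥A.G => cj_le_iff.2 fun v hv =>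
          conj_mem_of_le_normalizer' hWn j.2 (hVzW hv) : T ≤ W) hn)
      rw [commutator_mul_left, h1, mul_assoc _ ⁅t ^ 4, b⁆, A.centC _ (hWG _ hb') _ h2, ← mul_assoc,
        mul_inv_cancel_right]
      exact A.C.mul_mem (commutator_mem_symm ((hTQ hb').2 q hq)) h2
    have hcentral : ∀ s ∈ A.G, ∀ n ∈ A.C, ∀ b : H, b ∈ A.G → ⁅s, n * b⁆ = ⁅s, b⁆ := by
      intro s hs' n hn b hb
      have hsb : ⁅s, b⁆ ∈ A.G :=
        A.G.mul_mem (A.G.mul_mem (A.G.mul_mem hs' hb) (A.G.inv_mem hs')) (A.G.inv_mem hb)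
      rw [commutator_mul_right, commutatorElement_eq_one_iff_mul_comm.2 (A.centC s hs' n hn), one_mul,
        ← A.centC _ hsb n hn, mul_inv_cancel_right]
    have hkey : ((hh : H) * N2 a * (hh : H)⁻¹) * ((N2 a') ^ 16)⁻¹ ∈ A.C := by
      have e7 : (hh : H) * N2 a * (hh : H)⁻¹ = ⁅q * t ^ 4, ⁅q * t ^ 4, a'⁆⁆ := by
        rw [hqdef, inv_mul_cancel_right, ha', ← conj_commutator, ← conj_commutator]
      have hqt : q * t ^ 4 ∈ A.G := A.G.mul_mem (A.Q_le_G hq) (A.G.pow_mem (A.S_le htS) 4)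
      have hb1 : ⁅t ^ 4, a'⁆ ∈ T := by
        rw [commutatorElement_def]
        exact T.mul_mem (hTn _ (A.G.pow_mem (A.S_le htS) 4) a' haT) (T.inv_mem haT)
      have e8 : ⁅q * t ^ 4, ⁅q * t ^ 4, a'⁆⁆ = ⁅q * t ^ 4, ⁅t ^ 4, a'⁆⁆ := by
        conv_lhs => arg 2; rw [show ⁅q * t ^ 4, a'⁆ = ⁅q * t ^ 4, a'⁆ * ⁅t ^ 4, a'⁆⁻¹ * ⁅t ^ 4, a'⁆ by group]
        refine hcentral _ hqt _ (hstep a' haT) _ ?_
        rw [commutatorElement_def]
        have ht4 := A.G.pow_mem (A.S_le htS) 4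
        exact A.G.mul_mem (A.G.mul_mem (A.G.mul_mem ht4 ((hWQ.trans A.Q_le_G) ha'W)) (A.G.inv_mem ht4))
          (A.G.inv_mem ((hWQ.trans A.Q_le_G) ha'W))
      rw [e7, e8]
      have e9 := hstep _ hb1
      rwa [comm_pow_four (t := t) (w := a') rfl rfl (hOmS htS (hN2O a' ha'W)).symm
        (hOmS (hWS (hn1 a' ha'W).1) (hN2O a' ha'W)).symm] at e9
    -- coordinates
    have hNaV : N2 a ∈ A.V := A.Om_le (hN2O a (hVzW ha))
    have hrepO : ∀ n ∈ A.Om, A.nat.crd n 1 = 0 := fun n hn => (A.nat.mem_L (A.Om_le hn)).1 hn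
    have e10 : N2 a' * (N2 (a ^ k))⁻¹ = 1 := by
      have hmem : a' * (a ^ k)⁻¹ ∈ WF := by
        have hak := W.pow_mem (hVzW ha) k
        rw [natW.mem_L (W.mul_mem ha'W (W.inv_mem hak)), natW.crd_mul ha'W (W.inv_mem hak),
          natW.crd_inv hak, ha', natW.crd_conj hh (hVzW ha), ← hrep, hhrep]
        have hcp : ∀ j : ℕ, natW.crd (a ^ j) = (j : F) • natW.crd a := by
          intro j
          induction j with
          | zero => simp [natW.crd_one]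
          | succ j ih =>
            rw [pow_succ, natW.crd_mul (W.pow_mem (hVzW ha) j) (hVzW ha), ih, Nat.cast_succ, add_smul,
              one_smul]
        rw [Pi.add_apply, Pi.neg_apply, sl2_smul_apply, hcp, Pi.smul_apply, smul_eq_mul, hk, hDg]
        simp
      have h := hN2mul _ hmem.1 _ (W.pow_mem (hVzW ha) k)
      rw [inv_mul_cancel_right, hN2F _ hmem, one_mul] at h
      rw [h, mul_inv_cancel]
    have e11 : N2 a' = N2 a ^ k := by
      rw [← hN2pow a (hVzW ha), ← mul_inv_eq_one]; exact e10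
    have hcpow : ∀ j : ℕ, A.nat.crd (N2 a ^ j) = (j : F) • A.nat.crd (N2 a) := by
      intro j
      induction j with
      | zero => simp [A.nat.crd_one]
      | succ j ih =>
        rw [pow_succ, A.nat.crd_mul (A.V.pow_mem hNaV j) hNaV, ih, Nat.cast_succ, add_smul, one_smul]
    rw [e11, ← pow_mul] at hkey
    have hVm : (hh : H) * N2 a * (hh : H)⁻¹ ∈ A.V := conj_mem_of_le_normalizer' A.normV hh.2 hNaV
    have h0 := congrFun ((A.nat.crd_eq_zero (A.V.mul_mem hVm (A.V.inv_mem (A.V.pow_mem hNaV _)))).2 hkey) 0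
    rw [A.nat.crd_mul hVm (A.V.inv_mem (A.V.pow_mem hNaV _)), A.nat.crd_inv (A.V.pow_mem hNaV _),
      A.nat.crd_conj hh hNaV, hhrep, Pi.add_apply, Pi.neg_apply, sl2_smul_apply, hcpow,
      Pi.smul_apply, smul_eq_mul, ← hω, hDg] at h0
    simp [hk] at h0
    have hω0 : ω = 0 := by
      field_simp at h0
      have : (12 : F) * ω = 0 := by linear_combination -h0
      refine (mul_eq_zero.1 this).resolve_left fun h12 => hp5 ?_
      exact (CharP.cast_eq_zero_iff F p 12).1 (by exact_mod_cast h12)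
    apply hct
    rw [← hNa, ← A.nat.crd_eq_zero hNaV]
    funext i
    fin_cases i
    · exact hω0
    · exact hrepO _ (hN2O a (hVzW ha))
  -- three subgroups
  have hR1c : ∀ r ∈ R1, ∀ s ∈ A.S, ⁅r, s⁆ = 1 := fun r hr s hs' =>
    commutatorElement_eq_one_iff_mul_comm.2 (hOmS hs' (hR1O hr)).symm
  have hR0c : ∀ r ∈ R0, ∀ s ∈ A.S, ⁅r, s⁆ = 1 := fun r hr s hs' =>
    commutatorElement_eq_one_iff_mul_comm.2 (hOmS hs' (hR0O hr)).symm
  have hbot : ∀ {P₁ P₂ R : Subgroup H}, P₂ ≤ A.S → (∀ r ∈ R, ∀ s ∈ A.S, ⁅r, s⁆ = 1) → P₁ ≤ R →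
      ⁅P₁, P₂⁆ = ⊥ := fun {P₁ P₂ R} h2 hR h1 => le_bot_iff.1
    (Subgroup.commutator_le.2 fun r hr s hs' => Subgroup.mem_bot.2 (hR r (h1 hr) s (h2 hs')))
  have hyD : ⁅Vy, D⁆ ≤ R1 := Subgroup.commutator_le.2 fun w hw d hd => commutator_mem_symm (hDy d hd w hw)
  have hzD : ⁅Vz, D⁆ ≤ R0 := Subgroup.commutator_le.2 fun v hv d hd => commutator_mem_symm (hDz d hd v hv)
  have hzyD : ⁅⁅Vz, Vy⁆, D⁆ = ⊥ := Subgroup.commutator_commutator_eq_bot_of_rotate
    (hbot hVzS hR1c hyD) (hbot hVyS hR0c ((Subgroup.commutator_comm D Vz).le.trans hzD))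
  have hDDy : ⁅⁅D, D⁆, Vy⁆ = ⊥ := Subgroup.commutator_commutator_eq_bot_of_rotate
    (hbot hDS hR1c ((Subgroup.commutator_comm D Vy).le.trans hyD)) (hbot hDS hR1c hyD)
  have hDDz : ⁅⁅D, D⁆, Vz⁆ = ⊥ := Subgroup.commutator_commutator_eq_bot_of_rotate
    (hbot hDS hR0c ((Subgroup.commutator_comm D Vz).le.trans hzD)) (hbot hDS hR0c hzD)
  have hcomm1 : ∀ {P₁ P₂ : Subgroup H}, ⁅P₁, P₂⁆ = ⊥ → ∀ u ∈ P₁, ∀ v ∈ P₂, ⁅u, v⁆ = 1 :=
    fun h u hu v hv => Subgroup.mem_bot.1 (h ▸ Subgroup.commutator_mem_commutator hu hv)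
  have hDD : ⁅D, D⁆ ≤ D := Subgroup.le_normalizer_iff_commutator_le_left.1 Subgroup.le_normalizer
  set Pc := ⁅Vz, Vy⁆ with hPc
  set P0 := Pc ⊔ (R0 ⊔ R1) with hP0
  have hPcW : Pc ≤ W := Subgroup.commutator_le.2 fun v hv w hw => (c.comm_Vz_Vy_mem hs hv hw).1
  have hVW : A.V ≤ W := hVWc.trans hWcW
  have hP0W : P0 ≤ W := sup_le hPcW
    (sup_le ((hR0O.trans A.Om_le).trans hVW) ((hR1O.trans A.Om_le).trans hVW))
  have hnorm : ∀ {U : Subgroup H}, (∀ w ∈ Vy, ∀ n ∈ U, w * n * w⁻¹ ∈ U) →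
      (∀ v ∈ Vz, ∀ n ∈ U, v * n * v⁻¹ ∈ U) → (∀ d ∈ D, ∀ n ∈ U, d * n * d⁻¹ ∈ U) →
      A.S ≤ Subgroup.normalizer (U : Set H) := fun {U} h1 h2 h3 => by
    rw [hgen]
    exact sup_le (sup_le (le_normalizer_of_conj h1) (le_normalizer_of_conj h2)) (le_normalizer_of_conj h3)
  have hfixU : ∀ {U : Subgroup H} {g' n : H}, ⁅n, g'⁆ = 1 → n ∈ U → g' * n * g'⁻¹ ∈ U :=
    fun {U g' n} h hn => by
      rw [← (commutatorElement_eq_one_iff_mul_comm.1 h), mul_inv_cancel_right]; exact hn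
  have hPcn : A.S ≤ Subgroup.normalizer (Pc : Set H) := hnorm
    (fun w hw n hn => ((Subgroup.mem_normalizer_iff.1 (Subgroup.normalizer_commutator_ge_right _ _ hw)) n).1 hn)
    (fun v hv n hn => ((Subgroup.mem_normalizer_iff.1 (Subgroup.normalizer_commutator_ge_left _ _ hv)) n).1 hn)
    (fun d hd n hn => hfixU (hcomm1 hzyD n hn d hd) hn)
  have hDDn : A.S ≤ Subgroup.normalizer ((⁅D, D⁆ : Subgroup H) : Set H) := hnorm
    (fun w hw n hn => hfixU (hcomm1 hDDy n hn w hw) hn)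
    (fun v hv n hn => hfixU (hcomm1 hDDz n hn v hv) hn)
    (fun d hd n hn => ((Subgroup.mem_normalizer_iff.1 (Subgroup.normalizer_commutator_ge_left _ _ hd)) n).1 hn)
  have hRn : A.S ≤ Subgroup.normalizer ((R0 ⊔ R1 : Subgroup H) : Set H) :=
    le_normalizer_of_conj fun s hs' n hn => by
      rw [hOmS hs' ((sup_le hR0O hR1O) hn), mul_inv_cancel_right]; exact hn
  have hX1n : A.S ≤ Subgroup.normalizer ((P0 ⊔ ⁅D, D⁆ : Subgroup H) : Set H) := fun s hs' =>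
    mem_normalizer_of_cj_eq (by
      rw [hP0, cj_sup s, cj_sup s, cj_eq_of_mem_normalizer (hPcn hs'),
        cj_eq_of_mem_normalizer (hRn hs'), cj_eq_of_mem_normalizer (hDDn hs')])
  have h1le : A.S.lowerCentralSeries 1 ≤ P0 ⊔ ⁅D, D⁆ := by
    rw [Subgroup.lowerCentralSeries_succ, Subgroup.lowerCentralSeries_zero]
    conv_lhs => rw [hgen]
    refine comm_sup_self (hVyS.trans hX1n) (hVzS.trans hX1n) (hDS.trans hX1n) ?_ ?_ ?_ ?_ ?_ ?_
    · intro u hu v hv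
      rw [commutatorElement_eq_one_iff_mul_comm.2 (A.Vv_comm hu hv)]; exact Subgroup.one_mem _
    · intro u hu v hv
      rw [commutatorElement_eq_one_iff_mul_comm.2 (A.Vv_comm hu hv)]; exact Subgroup.one_mem _
    · exact fun u hu v hv => Subgroup.mem_sup_right (Subgroup.commutator_mem_commutator hu hv)
    · exact fun w hw v hv => Subgroup.mem_sup_left (Subgroup.mem_sup_left
        (commutator_mem_symm (Subgroup.commutator_mem_commutator hv hw)))
    · exact fun w hw d hd => Subgroup.mem_sup_left (Subgroup.mem_sup_right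
        (Subgroup.mem_sup_right (commutator_mem_symm (hDy d hd w hw))))
    · exact fun v hv d hd => Subgroup.mem_sup_left (Subgroup.mem_sup_right
        (Subgroup.mem_sup_left (commutator_mem_symm (hDz d hd v hv))))
  set D3 := ⁅⁅D, D⁆, D⁆ with hD3
  have hD3DD : D3 ≤ ⁅D, D⁆ := Subgroup.commutator_mono hDD le_rfl
  have hD3n : A.S ≤ Subgroup.normalizer (D3 : Set H) := hnorm
    (fun w hw n hn => hfixU (hcomm1 hDDy n (hD3DD hn) w hw) hn)
    (fun v hv n hn => hfixU (hcomm1 hDDz n (hD3DD hn) v hv) hn)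
    (fun d hd n hn => ((Subgroup.mem_normalizer_iff.1 (Subgroup.normalizer_commutator_ge_right _ _ hd)) n).1 hn)
  set X2 := (R0 ⊔ R1) ⊔ D3 with hX2
  have hX2n : A.S ≤ Subgroup.normalizer (X2 : Set H) := fun s hs' =>
    mem_normalizer_of_cj_eq (by
      rw [hX2, cj_sup s, cj_eq_of_mem_normalizer (hRn hs'), cj_eq_of_mem_normalizer (hD3n hs')])
  have hRS : R0 ⊔ R1 ≤ A.S := (sup_le hR0O hR1O).trans A.Om_le_S
  have hPcWu : Pc ≤ A.Wat u := Subgroup.commutator_le.2 fun v hv w hw => by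
    rw [← commutatorElement_inv w v]
    exact (A.Wat u).inv_mem (c'.comm_Vz_Vy_mem hs hw hv).1
  have h2le : A.S.lowerCentralSeries 2 ≤ X2 := by
    refine (Subgroup.commutator_mono h1le le_rfl).trans (comm_le_of_le_centMod ?_)
    have hcase : ∀ T : Subgroup H, T ≤ A.S → (∀ n ∈ T, ∀ w ∈ Vy, ⁅n, w⁆ ∈ X2) →
        (∀ n ∈ T, ∀ v ∈ Vz, ⁅n, v⁆ ∈ X2) → (∀ n ∈ T, ∀ d ∈ D, ⁅n, d⁆ ∈ X2) →
        T ≤ centMod A.S X2 := fun T hT k1 k2 k3 => le_centMod_of_comm (hT.trans hX2n) fun n hn s hs' =>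
      comm_sup_right (hT.trans hX2n) (hVyS.trans hX2n) (hVzS.trans hX2n) (hDS.trans hX2n) k1 k2 k3 n hn s
        (hgen ▸ hs')
    refine sup_le (sup_le (hcase Pc ((hPcW.trans hWQ).trans A.Q_le) ?_ ?_ ?_) ?_)
      (hcase _ (hDD.trans hDS) ?_ ?_ ?_)
    · exact fun n hn w hw => Subgroup.mem_sup_left (Subgroup.mem_sup_right
        (hWuWu n (hPcWu hn) w (A.Vv_le_Wat c.ug c.yg hw)))
    · exact fun n hn v hv => Subgroup.mem_sup_left (Subgroup.mem_sup_left (hWW n (hPcW hn) v (hVzW hv)))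
    · intro n hn d hd
      rw [hcomm1 hzyD n hn d hd]; exact Subgroup.one_mem _
    · refine le_centMod_of_comm (hRS.trans hX2n) fun n hn s hs' => ?_
      rw [commutatorElement_eq_one_iff_mul_comm.2 (hOmS hs' ((sup_le hR0O hR1O) hn)).symm]
      exact Subgroup.one_mem _
    · intro n hn w hw
      rw [hcomm1 hDDy n hn w hw]; exact Subgroup.one_mem _
    · intro n hn v hv
      rw [hcomm1 hDDz n hn v hv]; exact Subgroup.one_mem _
    · exact fun n hn d hd => Subgroup.mem_sup_right (Subgroup.commutator_mem_commutator hn hd)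
  have hclass : A.S.lowerCentralSeries 3 = ⊥ := by
    refine A.lcs_eq_bot 3 ((Subgroup.commutator_mono h2le le_rfl).trans ?_)
    set D4 := ⁅D3, D⁆ with hD4
    have hD4Q : D4 ≤ A.Q.lowerCentralSeries 3 :=
      Subgroup.commutator_mono (Subgroup.commutator_mono (Subgroup.commutator_mono hDQ hDQ) hDQ) hDQ
    refine le_trans ?_ hD4Q
    have hD4DD : D4 ≤ ⁅D, D⁆ := (Subgroup.commutator_mono hD3DD le_rfl).trans
      (Subgroup.commutator_mono hDD le_rfl)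
    have hD4n : A.S ≤ Subgroup.normalizer (D4 : Set H) := hnorm
      (fun w hw n hn => hfixU (hcomm1 hDDy n (hD4DD hn) w hw) hn)
      (fun v hv n hn => hfixU (hcomm1 hDDz n (hD4DD hn) v hv) hn)
      (fun d hd n hn => ((Subgroup.mem_normalizer_iff.1 (Subgroup.normalizer_commutator_ge_right _ _ hd)) n).1 hn)
    refine comm_le_of_le_centMod (sup_le ?_ ?_)
    · refine le_centMod_of_comm (hRS.trans hD4n) fun n hn s hs' => ?_
      rw [commutatorElement_eq_one_iff_mul_comm.2 (hOmS hs' ((sup_le hR0O hR1O) hn)).symm]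
      exact Subgroup.one_mem _
    · refine le_centMod_of_comm (((hD3DD.trans hDD).trans hDS).trans hD4n) fun n hn s hs' => ?_
      refine comm_sup_right (T := D3) (((hD3DD.trans hDD).trans hDS).trans hD4n) (hVyS.trans hD4n)
        (hVzS.trans hD4n) (hDS.trans hD4n) ?_ ?_ ?_ n hn s (hgen ▸ hs')
      · intro n hn w hw
        rw [hcomm1 hDDy n (hD3DD hn) w hw]; exact Subgroup.one_mem _
      · intro n hn v hv
        rw [hcomm1 hDDz n (hD3DD hn) v hv]; exact Subgroup.one_mem _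
      · exact fun n hn d hd => Subgroup.commutator_mem_commutator hn hd
  have hct2 : ⁅cc, t⁆ ∈ A.S.lowerCentralSeries 2 :=
    Subgroup.commutator_mem_commutator (Subgroup.commutator_mem_commutator (hVzS ha) htS) htS
  have hclass_ne : A.S.lowerCentralSeries 2 ≠ ⊥ := fun h => by
    rw [h, Subgroup.mem_bot] at hct2
    exact hct (by rw [hct2]; exact A.C.one_mem)
  -- powers
  have hW3 : ∀ w ∈ W, w ^ 3 = 1 := fun w hw => hp3 ▸ A.comm_W_pow hs c hp2 hw
  have hlcs1 : ∀ s ∈ A.S.lowerCentralSeries 1, s ^ 3 = 1 := by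
    refine fun s hs' => A.pow_eq_one 1 3 (fun s hs' => ?_) hs'
    have hP0c : ∀ n ∈ P0, ∀ d ∈ D, n * d = d * n := by
      have : P0 ≤ Subgroup.centralizer (D : Set H) := sup_le
        (fun n hn => Subgroup.mem_centralizer_iff.2 fun d hd =>
          (commutatorElement_eq_one_iff_mul_comm.1 (hcomm1 hzyD n hn d hd)).symm)
        (fun n hn => Subgroup.mem_centralizer_iff.2 fun d hd => hOmS (hDS hd) ((sup_le hR0O hR1O) hn))
      exact fun n hn d hd => (Subgroup.mem_centralizer_iff.1 (this hn) d hd).symm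
    obtain ⟨n, hn, d, hd, rfl⟩ := mem_sup_of_le_normalizer
      (((hP0W.trans hWQ).trans A.Q_le).trans hDDn) (h1le hs')
    refine ⟨d, Subgroup.commutator_mono hDQ hDQ hd, ?_⟩
    rw [(show Commute n d from hP0c n hn d (hDD hd)).mul_pow, hW3 n (hP0W hn), one_mul]
  have hz2 : ∀ d ∈ A.S.lowerCentralSeries 2, ∀ s ∈ A.S, d * s = s * d := fun d hd s hs' => by
    rw [← commutatorElement_eq_one_iff_mul_comm, ← Subgroup.mem_bot, ← hclass]
    exact Subgroup.commutator_mem_commutator hd hs'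
  have hl21 : A.S.lowerCentralSeries 2 ≤ A.S.lowerCentralSeries 1 :=
    A.S.lowerCentralSeries_antitone (by norm_num)
  have hl1S : A.S.lowerCentralSeries 1 ≤ A.S := A.S.lowerCentralSeries_antitone (Nat.zero_le 1)
  have hcube : ∀ s ∈ A.S, ∀ r ∈ A.S, r * s ^ 3 = s ^ 3 * r := by
    intro s hs' r hr
    set k := ⁅r, s⁆ with hk
    have hk1 : k ∈ A.S.lowerCentralSeries 1 := Subgroup.commutator_mem_commutator hr hs'
    set d := ⁅s, k⁆ with hd
    have hd2 : d ∈ A.S.lowerCentralSeries 2 := commutator_mem_symm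
      (Subgroup.commutator_mem_commutator hk1 hs')
    have e1 : r * s ^ 3 * r⁻¹ = (k * s) ^ 3 := by
      rw [← conj_pow, hk, commutatorElement_def]; group
    have e2 : s * k = d * k * s := by rw [hd, commutatorElement_def]; group
    have hdS := hz2 d hd2
    have e3 : (k * s) ^ 3 = d ^ 3 * k ^ 3 * s ^ 3 := by
      have c1 : Commute d k := hdS k (hl1S hk1)
      have c2 : Commute d s := hdS s hs'
      calc (k * s) ^ 3 = k * (s * k) * (s * k) * s := by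
            rw [pow_succ, pow_two]; simp only [mul_assoc]
        _ = k * d * k * (s * d) * k * s * s := by rw [e2]; simp only [mul_assoc]
        _ = k * d * (k * d) * (s * k) * s * s := by rw [← c2.eq]; simp only [mul_assoc]
        _ = (k * d) * (k * d) * (d * k) * (s * s * s) := by rw [e2]; simp only [mul_assoc]
        _ = d ^ 3 * k ^ 3 * s ^ 3 := by
          rw [← c1.eq, ← c1.mul_pow, pow_succ (d * k), pow_two, pow_succ s, pow_two]
    rw [e3, hlcs1 d (hl21 hd2), hlcs1 k hk1, one_mul, one_mul] at e1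
    exact mul_inv_eq_iff_eq_mul.1 e1
  have hnine : ∀ s ∈ A.S, ∀ r ∈ A.S, (s * r) ^ 9 = s ^ 9 * r ^ 9 := by
    intro s hs' r hr
    set N : Subgroup ↥A.S := (A.S.lowerCentralSeries 1).subgroupOf A.S
    haveI : N.Normal := ⟨fun n hn b => conj_mem_of_le_normalizer'
      (A.S.self_le_normalizer_lowerCentralSeries 1) b.2 hn⟩
    have hab : ∀ u v : ↥A.S, Commute (QuotientGroup.mk' N u) (QuotientGroup.mk' N v) := fun u v => by
      rw [← commutatorElement_eq_one_iff_commute, ← map_commutatorElement]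
      exact (QuotientGroup.eq_one_iff _).2 (Subgroup.commutator_mem_commutator u.2 v.2)
    set u : ↥A.S := ⟨s, hs'⟩
    set v : ↥A.S := ⟨r, hr⟩
    have hz : (u ^ 3 * v ^ 3)⁻¹ * (u * v) ^ 3 ∈ N := by
      rw [← QuotientGroup.eq_one_iff]
      show QuotientGroup.mk' N ((u ^ 3 * v ^ 3)⁻¹ * (u * v) ^ 3) = 1
      rw [map_mul, map_inv, map_mul, map_pow, map_pow, map_pow, map_mul, (hab u v).mul_pow,
        inv_mul_cancel]
    set z' := (s ^ 3 * r ^ 3)⁻¹ * (s * r) ^ 3 with hz'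
    have hz1 : z' ∈ A.S.lowerCentralSeries 1 := hz
    have e1 : (s * r) ^ 3 = s ^ 3 * r ^ 3 * z' := by rw [hz', mul_inv_cancel_left]
    have h3 : Commute (s ^ 3) (r ^ 3) := (hcube r hr (s ^ 3) (A.S.pow_mem hs' 3))
    have h4 : Commute (s ^ 3 * r ^ 3) z' :=
      Commute.mul_left (hcube s hs' z' (hl1S hz1)).symm (hcube r hr z' (hl1S hz1)).symm
    rw [show (9 : ℕ) = 3 * 3 from rfl, pow_mul, e1, h4.mul_pow, h3.mul_pow, hlcs1 z' hz1, mul_one,
      ← pow_mul, ← pow_mul]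
  have hV3 : ∀ {b n : H}, n ∈ A.Vv b → n ^ 3 = 1 := fun {b n} hn => by
    obtain ⟨n, hn', rfl⟩ := hn
    rw [← map_pow, ← hp3, A.V_elem.2 n hn', map_one]
  have hexp : ∀ s ∈ A.S, s ^ 9 = 1 := by
    intro s hs'
    refine A.pow_eq_one 0 9 (fun s hs'' => ?_) (by simpa using hs')
    obtain ⟨w, hw, v, hv, d, hd, rfl⟩ := hdecS s (by simpa using hs'')
    refine ⟨d, by simpa using hDQ hd, ?_⟩
    rw [hnine _ (A.S.mul_mem (hVyS hw) (hVzS hv)) d (hDS hd), hnine w (hVyS hw) v (hVzS hv),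
      show (9 : ℕ) = 3 * 3 from rfl, pow_mul w, pow_mul v, hV3 hw, hV3 hv, one_pow, one_mul, one_mul]
  have hexp_ne : ∃ s ∈ A.S, s ^ 3 ≠ 1 := by
    refine ⟨a⁻¹ * t⁻¹, A.S.mul_mem (A.S.inv_mem (hVzS ha)) (A.S.inv_mem htS), ?_⟩
    have hf2 := hct2
    have hg2 : ⁅cc, a⁆ ∈ A.S.lowerCentralSeries 2 :=
      Subgroup.commutator_mem_commutator (Subgroup.commutator_mem_commutator (hVzS ha) htS) (hVzS ha)
    have hf3 : ⁅cc, t⁆ ^ 3 = 1 := hlcs1 _ (hl21 hf2)
    rw [mul_pow_three hcc rfl rfl (hz2 _ hf2 a (hVzS ha)) (hz2 _ hf2 t htS) (hz2 _ hg2 a (hVzS ha))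
      (hz2 _ hg2 t htS) (hz2 _ hf2 cc hccS) (hz2 _ hg2 cc hccS) (hV3 ha) (hV3 ht) (hW3 cc hccW.1) hf3]
    intro h1
    apply hct
    have hf2C : ⁅cc, t⁆ ^ 2 ∈ A.C := by
      rw [eq_inv_of_mul_eq_one_left h1]; exact A.C.inv_mem hca
    have h4 := A.C.pow_mem hf2C 2
    rwa [← pow_mul, show 2 * 2 = 3 + 1 from rfl, pow_succ, hf3, one_mul] at h4
  refine ⟨hp3, hclass, hclass_ne, hexp, hexp_ne, hker, W, Wc, WF, ⟨natW⟩, hWn, hWcn, hVWc, hWcW, hWQ,
    hWcen, fun hle => ?_, t, htS, htQ, hQW⟩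
  have hmem := c.fixWc hs (hS.symm ▸ htS) htQ' (hVzW ha)
    (hle (Subgroup.commutator_mem_commutator (hVzW ha) (A.S_le htS)))
  exact haQ hmem.2

end Amb

end Cfsg.Agent.PushUp62
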