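import Cfsg.Agent.PushUp62.Base
import Cfsg.Agent.PushUp62.CaseOne
import Cfsg.Agent.PushUp62.CaseTwo
import Cfsg.Prelude.Def_LocalEven

/-!
The structure theorem for rank-one pushing up.
-/

set_option autoImplicit false
set_option linter.unusedSectionVars false
set_option linter.unusedVariables false
set_option linter.style.haveILetI false

namespace Cfsg.Agent.PushUp62

open scoped MatrixGroups commutatorElement
open Cfsg.Agent.PLocalB (upper lower)
open Cfsg.Agent.LocalEven61 (pslMap sl2_smul_apply PUSetup)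

variable {G : Type*} [Group G] {F : Type} [Field F] [Fintype F]

/-- A natural factor `X / Y` of `G`, on which `ρ` acts. -/
structure NatFactor (ρ : G →* SL(2, F)) (X Y : Subgroup G) where
  normX : X.Normal
  normY : Y.Normal
  le : Y ≤ X
  /-- the coordinates -/
  crd : G → (Fin 2 → F)
  crd_mul : ∀ {x y}, x ∈ X → y ∈ X → crd (x * y) = crd x + crd y
  crd_surj : ∀ u, ∃ x ∈ X, crd x = u
  crd_eq_zero : ∀ {x}, x ∈ X → (crd x = 0 ↔ x ∈ Y)
  crd_conj : ∀ (g : G) {x}, x ∈ X → crd (g * x * g⁻¹) = (ρ g).1.mulVec (crd x)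
  eq_or_eq : ∀ Z : Subgroup G, Z.Normal → Y ≤ Z → Z ≤ X → Z = Y ∨ Z = X

namespace NatFactor

variable {ρ : G →* SL(2, F)} {X Y : Subgroup G} (D : NatFactor ρ X Y)
include D

theorem crd_one : D.crd 1 = 0 := (D.crd_eq_zero X.one_mem).2 Y.one_mem

theorem crd_inv {x : G} (hx : x ∈ X) : D.crd x⁻¹ = - D.crd x := by
  have := D.crd_mul (X.inv_mem hx) hx
  rw [inv_mul_cancel, D.crd_one] at this
  exact eq_neg_of_add_eq_zero_left this.symm

theorem isChiefFactor : Cfsg.IsChiefFactor X Y := by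
  refine ⟨lt_of_le_of_ne D.le fun h => ?_, D.normX, D.normY, fun Z hZ h1 h2 => D.eq_or_eq Z hZ h1 h2⟩
  obtain ⟨x, hx, hxu⟩ := D.crd_surj ![1, 0]
  rw [(D.crd_eq_zero hx).2 (h.ge hx)] at hxu
  simpa using congrFun hxu 0

theorem not_central (hρ : Function.Surjective ρ) : ¬ ⁅X, (⊤ : Subgroup G)⁆ ≤ Y := by
  intro h
  obtain ⟨x, hx, hxu⟩ := D.crd_surj ![0, 1]
  obtain ⟨g, hg⟩ := hρ (upper 1)
  have hgx : g * x * g⁻¹ ∈ X := D.normX.conj_mem x hx g
  have h1 : D.crd (g * x * g⁻¹ * x⁻¹) = 0 := (D.crd_eq_zero (X.mul_mem hgx (X.inv_mem hx))).2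
    (commutator_mem_symm (h (Subgroup.commutator_mem_commutator hx (Subgroup.mem_top g))))
  rw [D.crd_mul hgx (X.inv_mem hx), D.crd_inv hx, D.crd_conj g hx, hxu, hg] at h1
  have h0 := congrFun h1 0
  rw [Pi.add_apply, Pi.neg_apply, sl2_smul_apply] at h0
  simp [upper] at h0

theorem natural_or_le [Finite G] (hρ : Function.Surjective ρ) {U W : Subgroup G} [hW : W.Normal]
    (hchief : Cfsg.IsChiefFactor U W) (hker : W ≤ ρ.ker) (hY : U ⊓ Y ≤ W) :
    U ⊓ X ≤ W ∨ Cfsg.IsNaturalSL2Module F (U.map (QuotientGroup.mk' W)) (⊤ : Subgroup (G ⧸ W)) := by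
  classical
  by_cases hX : U ⊓ X ≤ W
  · exact Or.inl hX
  refine Or.inr ?_
  haveI := hchief.2.1
  haveI := D.normX
  haveI := D.normY
  set UX := U ⊓ X
  have hUn : (W ⊔ UX : Subgroup G).Normal := inferInstance
  have hU : W ⊔ UX = U := ((hchief.2.2.2 _ hUn le_sup_left (sup_le hchief.1.le inf_le_left)).resolve_left
    fun h => hX (le_sup_right.trans h.le))
  have hYX : (UX ⊓ W) ⊔ Y = Y := (D.eq_or_eq _ inferInstance le_sup_right
    (sup_le (inf_le_left.trans inf_le_right) D.le)).resolve_right fun h => hX fun u hu => by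
      obtain ⟨w, hw, y, hy, e⟩ := (Subgroup.mem_sup_of_normal_right (s := UX ⊓ W) (t := Y)).1 (h.ge hu.2)
      rw [← e]
      refine W.mul_mem hw.2 (hY ⟨?_, hy⟩)
      rw [show y = w⁻¹ * u by rw [← e]; group]
      exact U.mul_mem (U.inv_mem hw.1.1) hu.1
  have hker' : ∀ x ∈ UX, (x ∈ W ↔ x ∈ Y) := fun x hx =>
    ⟨fun h => hYX.le (Subgroup.mem_sup_left ⟨hx, h⟩), fun h => hY ⟨hx.1, h⟩⟩
  have hsup : UX ⊔ Y = X := (D.eq_or_eq _ inferInstance le_sup_right (sup_le inf_le_right D.le)).resolve_left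
    fun h => hX fun u hu => hY ⟨hu.1, h.le (Subgroup.mem_sup_left hu)⟩
  set mk := QuotientGroup.mk' W
  set M := U.map mk
  have hrep : ∀ m : ↥M, ∃ x, x ∈ UX ∧ mk x = (m : G ⧸ W) := by
    rintro ⟨_, u, hu, rfl⟩
    rw [SetLike.mem_coe, ← hU] at hu
    obtain ⟨w, hw, x, hx, rfl⟩ := (Subgroup.mem_sup_of_normal_left (s := W) (t := UX)).1 hu
    refine ⟨x, hx, ?_⟩
    show mk x = mk (w * x)
    rw [map_mul, show mk w = 1 from (QuotientGroup.eq_one_iff w).2 hw, one_mul]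
  choose r hr1 hr2 using hrep
  have hwd : ∀ x y, x ∈ UX → y ∈ UX → (mk x = mk y ↔ D.crd x = D.crd y) := fun x y hx hy => by
    rw [QuotientGroup.mk'_eq_mk']
    constructor
    · rintro ⟨n, hn, rfl⟩
      have hn' : n ∈ UX := by
        simpa using UX.mul_mem (UX.inv_mem hx) hy
      rw [D.crd_mul hx.2 hn'.2, (D.crd_eq_zero hn'.2).2 ((hker' n hn').1 hn), add_zero]
    · intro h
      refine ⟨x⁻¹ * y, (hker' _ (UX.mul_mem (UX.inv_mem hx) hy)).2 ?_, by group⟩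
      rw [← D.crd_eq_zero (X.mul_mem (X.inv_mem hx.2) hy.2), D.crd_mul (X.inv_mem hx.2) hy.2,
        D.crd_inv hx.2, h, neg_add_cancel]
  let ψ₀ : Additive ↥M →+ (Fin 2 → F) := AddMonoidHom.mk' (fun m => D.crd (r m.toMul)) fun a b => by
    rw [← D.crd_mul (hr1 a.toMul).2 (hr1 b.toMul).2]
    refine (hwd _ _ (hr1 _) (UX.mul_mem (hr1 _) (hr1 _))).1 ?_
    rw [map_mul, hr2, hr2, hr2]
    rfl
  have hval : ∀ x (hx : x ∈ UX) (hm : mk x ∈ M), ψ₀ (Additive.ofMul ⟨mk x, hm⟩) = D.crd x :=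
    fun x hx hm => (hwd _ _ (hr1 _) hx).1 (hr2 _)
  have hbij : Function.Bijective ψ₀ := by
    refine ⟨fun a b h => Additive.toMul.injective (Subtype.ext ?_), fun u => ?_⟩
    · rw [← hr2, ← hr2]
      exact (hwd _ _ (hr1 _) (hr1 _)).2 h
    · obtain ⟨x, hx, rfl⟩ := D.crd_surj u
      obtain ⟨u', hu', y, hy, rfl⟩ := (Subgroup.mem_sup_of_normal_right (s := UX) (t := Y)).1 (hsup.ge hx)
      refine ⟨Additive.ofMul ⟨mk u', ⟨u', hu'.1, rfl⟩⟩, ?_⟩
      refine (hval u' hu' _).trans ?_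
      rw [D.crd_mul hu'.2 (D.le hy), (D.crd_eq_zero (D.le hy)).2 hy, add_zero]
  refine ⟨?_, (QuotientGroup.lift W ρ hker).comp (⊤ : Subgroup (G ⧸ W)).subtype,
    AddEquiv.ofBijective ψ₀ hbij, fun A => ?_, ?_, fun l v => ?_⟩
  · haveI : M.Normal := Subgroup.Normal.map inferInstance mk (QuotientGroup.mk'_surjective W)
    rw [Subgroup.normalizer_eq_top]
  · obtain ⟨g, rfl⟩ := hρ A
    exact ⟨⟨mk g, trivial⟩, rfl⟩
  · ext ⟨l, hl⟩
    obtain ⟨g, rfl⟩ := QuotientGroup.mk'_surjective W l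
    rw [MonoidHom.mem_ker, Subgroup.mem_subgroupOf, Subgroup.mem_centralizer_iff]
    show ρ g = 1 ↔ ∀ m ∈ M, m * mk g = mk g * m
    constructor
    · intro hg m hm
      obtain ⟨x, hx, hxm⟩ : ∃ x, x ∈ UX ∧ mk x = m := ⟨_, hr1 ⟨m, hm⟩, hr2 ⟨m, hm⟩⟩
      rw [← hxm, ← map_mul, ← map_mul]
      have hc : g * x * g⁻¹ ∈ UX := ⟨hchief.2.1.conj_mem x hx.1 g, D.normX.conj_mem x hx.2 g⟩
      have := (hwd _ _ hc hx).2 (by rw [D.crd_conj g hx.2, hg]; simp)
      conv_lhs => rw [map_mul, ← this, ← map_mul]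
      rw [inv_mul_cancel_right]
    · intro h
      refine Subtype.ext (Matrix.ext_of_mulVec_single fun j => ?_)
      obtain ⟨a, ha⟩ := hbij.2 (Pi.single j 1)
      set x := r a.toMul
      have hx := hr1 a.toMul
      have hc : g * x * g⁻¹ ∈ UX := ⟨hchief.2.1.conj_mem x hx.1 g, D.normX.conj_mem x hx.2 g⟩
      have e : mk (g * x * g⁻¹) = mk x := by
        rw [map_mul, map_mul, map_inv, hr2, ← h _ a.toMul.2, mul_inv_cancel_right]
      have := (hwd _ _ hc hx).1 e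
      rw [D.crd_conj g hx.2] at this
      rw [Matrix.SpecialLinearGroup.coe_one, Matrix.one_mulVec, ← ha]
      exact this
  · obtain ⟨l, hl⟩ := l
    obtain ⟨g, rfl⟩ := QuotientGroup.mk'_surjective W l
    obtain ⟨m, hm⟩ := v
    obtain ⟨x, hx, rfl⟩ : ∃ x, x ∈ UX ∧ mk x = m := ⟨_, hr1 ⟨m, hm⟩, hr2 ⟨m, hm⟩⟩
    have hc : g * x * g⁻¹ ∈ UX := ⟨hchief.2.1.conj_mem x hx.1 g, D.normX.conj_mem x hx.2 g⟩
    refine ⟨⟨mk (g * x * g⁻¹), ⟨_, hc.1, rfl⟩⟩, by simp [mk], ?_⟩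
    refine (hval _ hc _).trans ?_
    refine (D.crd_conj g hx.2).trans (congrArg (ρ g).1.mulVec ?_)
    exact (hval x hx _).symm

end NatFactor

theorem central_step {U W T T' : Subgroup G} [W.Normal] (hchief : Cfsg.IsChiefFactor U W)
    (hnc : ¬ ⁅U, (⊤ : Subgroup G)⁆ ≤ W) (hT : T.Normal) (hTT : ⁅T, (⊤ : Subgroup G)⁆ ≤ T')
    (h : U ⊓ T' ≤ W) : U ⊓ T ≤ W := by
  by_contra hX
  haveI := hchief.2.1
  have hU : W ⊔ U ⊓ T = U := ((hchief.2.2.2 _ inferInstance le_sup_left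
    (sup_le hchief.1.le inf_le_left)).resolve_left fun h' => hX (le_sup_right.trans h'.le))
  apply hnc
  rw [← hU]
  refine comm_le_of_le_centMod (sup_le ?_ ?_)
  · refine le_centMod_of_comm (by rw [Subgroup.normalizer_eq_top]; exact le_top) fun w hw g _ => ?_
    exact (Subgroup.commutator_le_left W ⊤) (Subgroup.commutator_mem_commutator hw (Subgroup.mem_top g))
  · refine le_centMod_of_comm (by rw [Subgroup.normalizer_eq_top]; exact le_top) fun u hu g _ => h ⟨?_, ?_⟩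
    · exact (Subgroup.commutator_le_left U ⊤) (Subgroup.commutator_mem_commutator hu.1 (Subgroup.mem_top g))
    · exact hTT (Subgroup.commutator_mem_commutator hu.2 (Subgroup.mem_top g))

theorem normal_iterCommutator (Q : Subgroup G) [Q.Normal] :
    ∀ k, (Cfsg.iterCommutator Q (⊤ : Subgroup G) k).Normal
  | 0 => inferInstanceAs Q.Normal
  | k + 1 => by
    haveI := normal_iterCommutator Q k
    exact Subgroup.commutator_normal _ _

theorem le_of_iter {U W Q X : Subgroup G} [W.Normal] [Q.Normal] (hchief : Cfsg.IsChiefFactor U W)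
    (hnc : ¬ ⁅U, (⊤ : Subgroup G)⁆ ≤ W) (hUQ : U ≤ Q) {k : ℕ}
    (hk : Cfsg.iterCommutator Q ⊤ k ≤ X) : ¬ U ⊓ X ≤ W := by
  intro hX
  have : ∀ j, j ≤ k → U ⊓ Cfsg.iterCommutator Q ⊤ (k - j) ≤ W := by
    intro j
    induction j with
    | zero => exact fun _ => (inf_le_inf_left _ hk).trans hX
    | succ j ih =>
      intro hj
      refine central_step hchief hnc (normal_iterCommutator Q _) ?_ (ih (by omega))
      rw [show k - j = (k - (j + 1)) + 1 by omega]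
      exact le_rfl
  have h0 := this k le_rfl
  rw [Nat.sub_self] at h0
  exact not_lt_of_ge ((le_inf le_rfl hUQ).trans h0) hchief.1

section

variable [Finite G] {p : ℕ} [Fact p.Prime] [CharP F p] {n : ℕ} {S : Sylow p G} {K : Subgroup G}
  [K.Normal]

/-- The result of pushing up. -/
inductive Outcome (S : Sylow p G) (ρ : G →* SL(2, F)) : Prop
  | one (C V : Subgroup G) (D : NatFactor ρ V C) (hC : ⁅C, (⊤ : Subgroup G)⁆ = ⊥)
      (hQ : Cfsg.iterCommutator (Cfsg.pCore p G) ⊤ 2 ≤ V) (hVQ : V ≤ Cfsg.pCore p G)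
      (h2 : (S : Subgroup G).lowerCentralSeries 2 = ⊥)
      (h1 : (S : Subgroup G).lowerCentralSeries 1 ≠ ⊥)
      (he2 : p = 2 → ∀ s ∈ (S : Subgroup G), s ^ 4 = 1)
      (he : p ≠ 2 → ∀ s ∈ (S : Subgroup G), s ^ p = 1)
  | two (C V Wc W : Subgroup G) (D : NatFactor ρ V C) (D' : NatFactor ρ W Wc)
      (hC : ⁅C, (⊤ : Subgroup G)⁆ = ⊥) (hWc : ⁅Wc, (⊤ : Subgroup G)⁆ ≤ V) (hVW : V ≤ Wc)
      (hQ : Cfsg.iterCommutator (Cfsg.pCore p G) ⊤ 3 ≤ W) (hWQ : W ≤ Cfsg.pCore p G)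
      (hp : p = 3) (h3 : (S : Subgroup G).lowerCentralSeries 3 = ⊥)
      (h2 : (S : Subgroup G).lowerCentralSeries 2 ≠ ⊥) (he : ∀ s ∈ (S : Subgroup G), s ^ 9 = 1)
      (he' : ∃ s ∈ (S : Subgroup G), s ^ 3 ≠ 1)

set_option maxHeartbeats 1000000 in
theorem pushing_up (h : PUSetup S K F n)
    (hd : ∀ T : Subgroup ↥(S : Subgroup G), T ≠ ⊥ → T.Characteristic →
      ¬ (T.map (S : Subgroup G).subtype).Normal) :
    ∃ ρ : G →* SL(2, F), Function.Surjective ρ ∧ ρ.ker = Cfsg.pCore p G ∧ Outcome S ρ := by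
  classical
  obtain ⟨A, hG, hS, hQ⟩ := exists_amb h hd
  set ι := regHom G with hιdef
  have hι : Function.Injective ι := regHom_injective G
  have hmemG : ∀ g, ι g ∈ A.G := fun g => hG.symm ▸ ⟨g, trivial, rfl⟩
  let e : G →* ↥A.G := ι.codRestrict A.G hmemG
  have he : Function.Surjective e := fun ⟨x, hx⟩ => by
    rw [hG] at hx
    obtain ⟨g, -, rfl⟩ := hx
    exact ⟨g, rfl⟩
  have hmem : ∀ (T : Subgroup G) g, ι g ∈ T.map ι ↔ g ∈ T := fun T g => Subgroup.mem_map_iff_mem hι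
  let ρ := A.nat.rep.comp e
  have hρ : Function.Surjective ρ := A.nat.surj.comp he
  have hkerρ : (∀ g : ↥A.G, A.nat.rep g = 1 ↔ (g : Equiv.Perm G) ∈ A.Q) →
      ρ.ker = Cfsg.pCore p G := fun hk => by
    ext g
    rw [MonoidHom.mem_ker]
    exact (hk (e g)).trans (by rw [hQ]; exact hmem _ g)
  have mkF : ∀ {X Y L : Subgroup (Equiv.Perm G)} (D : SectNat A.G A.S A.proj X Y L),
      (∀ g, D.rep (e g) = ρ g) → A.G ≤ Subgroup.normalizer (X : Set (Equiv.Perm G)) →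
      A.G ≤ Subgroup.normalizer (Y : Set (Equiv.Perm G)) → Y ≤ X → X ≤ A.G →
      Nonempty (NatFactor ρ (X.comap ι) (Y.comap ι)) := by
    intro X Y L D hD hXn hYn hYX hXG
    have hnorm : ∀ {T : Subgroup (Equiv.Perm G)}, A.G ≤ Subgroup.normalizer (T : Set (Equiv.Perm G)) →
        (T.comap ι).Normal := fun hT => ⟨fun x hx g => by
      rw [Subgroup.mem_comap, map_mul, map_mul, map_inv]
      exact conj_mem_of_le_normalizer' hT (hmemG g) hx⟩
    have hsurj : ∀ x ∈ X, ∃ a, ι a = x := fun x hx => by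
      have := hXG hx
      rw [hG] at this
      obtain ⟨a, -, rfl⟩ := this
      exact ⟨a, rfl⟩
    exact ⟨{ normX := hnorm hXn
             normY := hnorm hYn
             le := Subgroup.comap_mono hYX
             crd := fun x => D.crd (ι x)
             crd_mul := fun {x y} hx hy => by
               rw [map_mul]; exact D.crd_mul hx hy
             crd_surj := fun u => by
               obtain ⟨x, hx, hxu⟩ := D.crd_surj u
               obtain ⟨a, rfl⟩ := hsurj x hx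
               exact ⟨a, hx, hxu⟩
             crd_eq_zero := fun {x} hx => D.crd_eq_zero hx
             crd_conj := fun g {x} hx => by
               rw [map_mul, map_mul, map_inv, ← hD]
               exact D.crd_conj (e g) hx
             eq_or_eq := fun Z hZ h1 h2 => by
               have hZn : A.G ≤ Subgroup.normalizer (Z.map ι : Set (Equiv.Perm G)) := by
                 rw [hG]
                 refine le_trans ?_ (Subgroup.le_normalizer_map ι)
                 rw [Subgroup.normalizer_eq_top]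
               have hYZ : Y ≤ Z.map ι := fun y hy => by
                 obtain ⟨a, rfl⟩ := hsurj y (hYX hy)
                 exact ⟨a, h1 hy, rfl⟩
               rcases D.eq_or_eq hYZ (Subgroup.map_le_iff_le_comap.2 h2) hZn with h3 | h3
               · left; rw [← h3, Subgroup.comap_map_eq_self_of_injective hι]
               · right; rw [← h3, Subgroup.comap_map_eq_self_of_injective hι] }⟩
  have hlcs : ∀ k, A.S.lowerCentralSeries k = ((S : Subgroup G).lowerCentralSeries k).map ι := fun k => by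
    rw [Subgroup.map_lowerCentralSeries, hS]
  have hiter : ∀ k, Cfsg.iterCommutator A.Q A.G k =
      (Cfsg.iterCommutator (Cfsg.pCore p G) ⊤ k).map ι := by
    intro k
    induction k with
    | zero => exact hQ
    | succ k ih => show ⁅_, _⁆ = (⁅_, _⁆ : Subgroup G).map ι; rw [Subgroup.map_commutator, ih, hG]
  have hSmem : ∀ s ∈ (S : Subgroup G), ι s ∈ A.S := fun s hs => hS.symm ▸ ⟨s, hs, rfl⟩
  have hCtop : ⁅A.C.comap ι, (⊤ : Subgroup G)⁆ = ⊥ := le_bot_iff.1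
    (Subgroup.commutator_le.2 fun c hc g _ => Subgroup.mem_bot.2 (hι (by
      rw [map_commutatorElement, map_one, commutatorElement_eq_one_iff_mul_comm]
      exact (A.centC _ (hmemG g) _ hc).symm)))
  have hbot : ∀ k, A.S.lowerCentralSeries k = ⊥ ↔ (S : Subgroup G).lowerCentralSeries k = ⊥ := fun k => by
    rw [hlcs k, Subgroup.map_eq_bot_iff_of_injective _ hι]
  have hle_comap : ∀ {T : Subgroup (Equiv.Perm G)}, T ≤ A.Q → T.comap ι ≤ Cfsg.pCore p G :=
    fun {T} hT x hx => (hmem _ x).1 (hQ ▸ hT hx)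
  obtain ⟨D⟩ := mkF A.nat (fun g => rfl) A.normV A.G_le_normalizer_C (A.C_le.trans A.Om_le) A.V_le_G
  obtain ⟨m, hsm, P, hc⟩ := A.exists_crit
  match m, hsm, P, hc with
  | 0, hsm, P, hc =>
    have cI := A.case_one hsm P hc
    obtain ⟨t, ht, htQ, htV⟩ := cI.central
    have hker : ∀ g : ↥A.G, A.nat.rep g = 1 ↔ (g : Equiv.Perm G) ∈ A.Q := by
      refine A.eq_Q_of_kernel A.nat fun k hk m hm hcop => ?_
      have hVk : ∀ v ∈ A.V, (k : Equiv.Perm G) * v = v * k := fun v hv =>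
        commute_of_stabilizes (A.S_pgroup.to_le (A.C_le.trans A.Om_le_S))
          (fun b hb => A.centC _ k.2 b hb) hm hcop
          ((A.nat.comm_mem_Y_iff A.normV k hv).2 (by rw [hk]; simp))
      have hQk : ∀ q ∈ A.Q, (k : Equiv.Perm G) * q = q * k := fun q hq =>
        commute_of_stabilizes (A.S_pgroup.to_le A.V_le_S) hVk hm hcop
          (A.mem_of_coprime A.normV ht htQ htV k.2 hm hcop q hq)
      obtain ⟨i, hi⟩ := A.S_pgroup ⟨k, A.Q_le (A.charP_cond k k.2 hQk)⟩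
      have h2 := pow_gcd_eq_one.2
        ⟨hm, show (k : Equiv.Perm G) ^ p ^ i = 1 by simpa using congrArg Subtype.val hi⟩
      rw [(Nat.Coprime.pow_right i hcop).gcd_eq_one, pow_one] at h2
      exact Subtype.ext h2
    refine ⟨ρ, hρ, hkerρ hker, Outcome.one (A.C.comap ι) (A.V.comap ι) D hCtop ?_ (hle_comap A.V_le)
      ((hbot 2).1 cI.class_le) (fun h0 => cI.class_ne ((hbot 1).2 h0)) (fun hp s hs => hι ?_)
      (fun hp s hs => hι ?_)⟩
    · intro x hx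
      have h1 := A.iter_le A.normV A.V_le ht htQ htV 1 (show ι x ∈ _ by rw [hiter]; exact ⟨x, hx, rfl⟩)
      rwa [cI.class_le, bot_sup_eq] at h1
    · rw [map_pow, cI.exp_two hp _ (hSmem s hs), map_one]
    · rw [map_pow, cI.exp_odd hp _ (hSmem s hs), map_one]
  | 1, hsm, P, hc =>
    have cII := A.case_two hsm P hc
    obtain ⟨W, Wc, WF, ⟨natW⟩, hWn, hWcn, hVWc, hWcW, hWQ, hWcen, -, t, ht, htQ, htW⟩ := cII.sect
    obtain ⟨k₀, hk₀⟩ := A.proj_surj (pslMap weyl)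
    have hrep : A.nat.rep = natW.rep := A.nat.rep_eq (p := p) natW k₀ (A.gen k₀ (by
      rw [inBorel_iff hk₀.symm]; simp [weyl]))
    obtain ⟨D'⟩ := mkF natW (fun g => by rw [← hrep]; rfl) hWn hWcn hWcW (hWQ.trans A.Q_le_G)
    refine ⟨ρ, hρ, hkerρ cII.ker, Outcome.two (A.C.comap ι) (A.V.comap ι) (Wc.comap ι) (W.comap ι) D D'
      hCtop ?_ (Subgroup.comap_mono hVWc) ?_ (hle_comap hWQ) cII.p_eq ((hbot 3).1 cII.class_le)
      (fun h0 => cII.class_ne ((hbot 2).2 h0)) (fun s hs => hι ?_) ?_⟩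
    · refine Subgroup.commutator_le.2 fun c hc g _ => ?_
      rw [Subgroup.mem_comap, map_commutatorElement]
      exact hWcen _ hc _ (hmemG g)
    · intro x hx
      have h1 := A.iter_le hWn hWQ ht htQ htW 2 (show ι x ∈ _ by rw [hiter]; exact ⟨x, hx, rfl⟩)
      rwa [cII.class_le, bot_sup_eq] at h1
    · rw [map_pow, cII.exp _ (hSmem s hs), map_one]
    · obtain ⟨s, hs, hs3⟩ := cII.exp_ne
      rw [hS] at hs
      obtain ⟨s, hs', rfl⟩ := hs
      exact ⟨s, hs', fun h0 => hs3 (by rw [← map_pow, h0, map_one])⟩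
  | k + 2, hsm, P, hc => exact absurd (A.no_long hsm P hc) id

theorem natural_chief (h : PUSetup S K F n)
    (hd : ∀ T : Subgroup ↥(S : Subgroup G), T ≠ ⊥ → T.Characteristic →
      ¬ (T.map (S : Subgroup G).subtype).Normal) :
    Nonempty (G ⧸ Cfsg.pCore p G ≃* SL(2, F)) ∧ ∀ (U W : Subgroup G) [W.Normal],
      U ≤ Cfsg.pCore p G → Cfsg.IsChiefFactor U W → ¬ ⁅U, (⊤ : Subgroup G)⁆ ≤ W →
        Cfsg.IsNaturalSL2Module F (U.map (QuotientGroup.mk' W)) (⊤ : Subgroup (G ⧸ W)) := by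
  obtain ⟨ρ, hρ, hker, hout⟩ := pushing_up h hd
  refine ⟨⟨(QuotientGroup.quotientMulEquivOfEq hker.symm).trans
    (QuotientGroup.quotientKerEquivOfSurjective ρ hρ)⟩, fun U W _ hUQ hchief hnc => ?_⟩
  have hWker : W ≤ ρ.ker := hker ▸ hchief.1.le.trans hUQ
  have step : ∀ {X Y : Subgroup G}, NatFactor ρ X Y → ¬ U ⊓ X ≤ W → U ⊓ Y ≤ W →
      Cfsg.IsNaturalSL2Module F (U.map (QuotientGroup.mk' W)) (⊤ : Subgroup (G ⧸ W)) :=
    fun D h1 h2 => (D.natural_or_le hρ hchief hWker h2).resolve_left h1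
  cases hout with
  | one C V D hC hQ hVQ _ _ _ _ =>
    exact step D (le_of_iter hchief hnc hUQ hQ)
      (central_step hchief hnc D.normY (hC.le.trans bot_le) (inf_le_right.trans bot_le))
  | two C V Wc W' D D' hC hWc hVW hQ hWQ _ _ _ _ _ =>
    have h0 : U ⊓ C ≤ W :=
      central_step hchief hnc D.normY (hC.le.trans bot_le) (inf_le_right.trans bot_le)
    by_cases h1 : U ⊓ V ≤ W
    · exact step D' (le_of_iter hchief hnc hUQ hQ) (central_step hchief hnc D'.normY hWc h1)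
    · exact step D h1 h0

theorem sylow_structure (h : PUSetup S K F n)
    (hd : ∀ T : Subgroup ↥(S : Subgroup G), T ≠ ⊥ → T.Characteristic →
      ¬ (T.map (S : Subgroup G).subtype).Normal) :
    ((S : Subgroup G).lowerCentralSeries 2 = ⊥ ∧ (S : Subgroup G).lowerCentralSeries 1 ≠ ⊥ ∧ (p = 2 → Monoid.exponent ↥(S : Subgroup G) = 4) ∧ (p ≠ 2 → Monoid.exponent ↥(S : Subgroup G) = p) ∧ (∃ U W : Subgroup G, W ≤ U ∧ U ≤ (Cfsg.pCore p G) ∧ Cfsg.IsChiefFactor U W ∧ ¬ ⁅U, (⊤ : Subgroup G)⁆ ≤ W ∧ (∃ k : ℕ, Cfsg.iterCommutator W ⊤ k = ⊥) ∧ (∃ k : ℕ, Cfsg.iterCommutator (Cfsg.pCore p G) ⊤ k ≤ U))) ∨ (p = 3 ∧ (S : Subgroup G).lowerCentralSeries 3 = ⊥ ∧ (S : Subgroup G).lowerCentralSeries 2 ≠ ⊥ ∧ Monoid.exponent ↥(S : Subgroup G) = 9 ∧ (∃ U₁ W₁ U₂ W₂ : Subgroup G, W₁ ≤ U₁ ∧ U₁ ≤ W₂ ∧ W₂ ≤ U₂ ∧ U₂ ≤ (Cfsg.pCore p G) ∧ Cfsg.IsChiefFactor U₁ W₁ ∧ Cfsg.IsChiefFactor U₂ W₂ ∧ ¬ ⁅U₁, (⊤ : Subgroup G)⁆ ≤ W₁ ∧ ¬ ⁅U₂, (⊤ : Subgroup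 G)⁆ ≤ W₂ ∧ (∃ k : ℕ, Cfsg.iterCommutator W₁ ⊤ k = ⊥) ∧ (∃ k : ℕ, Cfsg.iterCommutator W₂ ⊤ k ≤ U₁) ∧ (∃ k : ℕ, Cfsg.iterCommutator (Cfsg.pCore p G) ⊤ k ≤ U₂))) := by
  obtain ⟨ρ, hρ, hker, hout⟩ := pushing_up h hd
  have hexp : ∀ n, (∀ s ∈ (S : Subgroup G), s ^ n = 1) → Monoid.exponent ↥(S : Subgroup G) ∣ n :=
    fun n hn => Monoid.exponent_dvd_of_forall_pow_eq_one fun s => Subtype.ext (by simpa using hn s s.2)
  cases hout with
  | one C V D hC hQ hVQ h2 h1 he2 he =>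
    have hna : ∃ a ∈ (S : Subgroup G), ∃ b ∈ (S : Subgroup G), a * b ≠ b * a := by
      by_contra! hab
      refine h1 (le_bot_iff.1 (Subgroup.commutator_le.2 fun a ha b hb => Subgroup.mem_bot.2 ?_))
      exact commutatorElement_eq_one_iff_mul_comm.2 (hab a ha b hb)
    obtain ⟨a, ha, b, hb, hab⟩ := hna
    have hne1 : Monoid.exponent ↥(S : Subgroup G) ≠ 1 := fun h1' => by
      haveI := Monoid.exp_eq_one_iff.1 h1'
      exact hab (congrArg Subtype.val (Subsingleton.elim ((⟨a, ha⟩ : ↥(S : Subgroup G)) * ⟨b, hb⟩)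
        (⟨b, hb⟩ * ⟨a, ha⟩)))
    refine Or.inl ⟨h2, h1, fun hp => ?_, fun hp => ?_, V, C, D.le, hVQ, D.isChiefFactor,
      D.not_central hρ, ⟨1, hC⟩, ⟨2, hQ⟩⟩
    · obtain ⟨i, hi, hi'⟩ := (Nat.dvd_prime_pow Nat.prime_two).1
        (show Monoid.exponent ↥(S : Subgroup G) ∣ 2 ^ 2 from hexp 4 (he2 hp))
      match i, hi with
      | 0, _ => exact absurd (by simpa using hi') hne1
      | 1, _ =>
        exact absurd (congrArg Subtype.val (mul_comm_of_exponent_two (by simpa using hi')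
          (⟨a, ha⟩ : ↥(S : Subgroup G)) ⟨b, hb⟩)) hab
      | 2, _ => simpa using hi'
    · exact ((Fact.out : p.Prime).eq_one_or_self_of_dvd _ (hexp p (he hp))).resolve_left hne1
  | two C V Wc W D D' hC hWc hVW hQ hWQ hp h3 h2 he he' =>
    refine Or.inr ⟨hp, h3, h2, ?_, V, C, W, Wc, D.le, hVW, D'.le, hWQ, D.isChiefFactor,
      D'.isChiefFactor, D.not_central hρ, D'.not_central hρ, ⟨1, hC⟩, ⟨1, hWc⟩, ⟨3, hQ⟩⟩
    obtain ⟨i, hi, hi'⟩ := (Nat.dvd_prime_pow Nat.prime_three).1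
      (show Monoid.exponent ↥(S : Subgroup G) ∣ 3 ^ 2 from hexp 9 he)
    obtain ⟨s, hs, hs3⟩ := he'
    have hnot : ¬ Monoid.exponent ↥(S : Subgroup G) ∣ 3 := fun hd3 => hs3 (by
      simpa using congrArg Subtype.val
        (orderOf_dvd_iff_pow_eq_one.1 ((Monoid.order_dvd_exponent (⟨s, hs⟩ : ↥(S : Subgroup G))).trans hd3)))
    match i, hi with
    | 0, _ => exact absurd (by rw [hi']; norm_num) hnot
    | 1, _ => exact absurd (by rw [hi']; norm_num) hnot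
    | 2, _ => simpa using hi'

end

end Cfsg.Agent.PushUp62
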