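import Cfsg.Agent.PushUp62.Amb

/-!
The coset graph of an ambient configuration: vertices, edges and their local properties.
-/

set_option autoImplicit false
set_option linter.unusedSectionVars false
set_option linter.style.haveILetI false

namespace Cfsg.Agent.PushUp62

open scoped commutatorElement

variable {H : Type*} [Group H]

theorem cj_congr {a b : H} {X : Subgroup H} (h : a⁻¹ * b ∈ Subgroup.normalizer (X : Set H)) :
    cj a X = cj b X := by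
  conv_rhs => rw [show b = a * (a⁻¹ * b) by group, cj_mul, cj_eq_of_mem_normalizer h]

theorem cj_sup (g : H) (X Y : Subgroup H) : cj g (X ⊔ Y) = cj g X ⊔ cj g Y := Subgroup.map_sup _ _ _

theorem cj_injective (g : H) : Function.Injective (cj g) :=
  Subgroup.map_injective (MulAut.conj g).injective

theorem cj_commutator (g : H) (X Y : Subgroup H) : cj g ⁅X, Y⁆ = ⁅cj g X, cj g Y⁆ :=
  Subgroup.map_commutator _ _ _

theorem conj_commutator (g a b : H) : g * ⁅a, b⁆ * g⁻¹ = ⁅g * a * g⁻¹, g * b * g⁻¹⁆ :=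
  map_commutatorElement (MulAut.conj g).toMonoidHom a b

theorem commutator_mul_left (a b x : H) : ⁅a * b, x⁆ = a * ⁅b, x⁆ * a⁻¹ * ⁅a, x⁆ := by
  simp only [commutatorElement_def]; group

theorem commutator_mul_right (x a b : H) : ⁅x, a * b⁆ = ⁅x, a⁆ * (a * ⁅x, b⁆ * a⁻¹) := by
  simp only [commutatorElement_def]; group

theorem commutator_mem_symm {Y : Subgroup H} {a b : H} (h : ⁅a, b⁆ ∈ Y) : ⁅b, a⁆ ∈ Y := by
  rw [← commutatorElement_inv a b]; exact Y.inv_mem h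

theorem mem_sup_of_le_normalizer {X Y : Subgroup H} (h : X ≤ Subgroup.normalizer (Y : Set H))
    {s : H} (hs : s ∈ X ⊔ Y) : ∃ x ∈ X, ∃ y ∈ Y, s = x * y := by
  rw [← SetLike.mem_coe, Subgroup.coe_mul_of_left_le_normalizer_right X Y h] at hs
  obtain ⟨x, hx, y, hy, rfl⟩ := hs
  exact ⟨x, hx, y, hy, rfl⟩

theorem conj_mem_of_le_normalizer' {X Y : Subgroup H} (h : X ≤ Subgroup.normalizer (Y : Set H))
    {g y : H} (hg : g ∈ X) (hy : y ∈ Y) : g * y * g⁻¹ ∈ Y :=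
  ((Subgroup.mem_normalizer_iff.1 (h hg)) y).1 hy

theorem le_normalizer_of_conj [Finite H] {X Y : Subgroup H}
    (h : ∀ g ∈ X, ∀ y ∈ Y, g * y * g⁻¹ ∈ Y) : X ≤ Subgroup.normalizer (Y : Set H) := fun g hg =>
  mem_normalizer_of_cj_eq (Subgroup.eq_of_le_of_card_ge (cj_le_iff.2 (h g hg)) (card_cj g Y).ge)

theorem mem_normalizer_cj {g : H} {X : Subgroup H} {a : H}
    (ha : g⁻¹ * a * g ∈ Subgroup.normalizer (X : Set H)) :
    a ∈ Subgroup.normalizer (cj g X : Set H) := by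
  refine mem_normalizer_of_cj_eq ?_
  rw [← cj_mul, show a * g = g * (g⁻¹ * a * g) by group, cj_mul, cj_eq_of_mem_normalizer ha]

/-- The elements centralizing `X` modulo `Y`. -/
def centMod (X Y : Subgroup H) : Subgroup H where
  carrier := {g | g ∈ Subgroup.normalizer (Y : Set H) ∧ ∀ x ∈ X, ⁅g, x⁆ ∈ Y}
  one_mem' := ⟨one_mem _, fun x _ => by rw [commutatorElement_one_left]; exact Y.one_mem⟩
  mul_mem' := fun {a b} ha hb => ⟨mul_mem ha.1 hb.1, fun x hx => by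
    rw [commutator_mul_left]
    exact Y.mul_mem (((Subgroup.mem_normalizer_iff.1 ha.1) _).1 (hb.2 x hx)) (ha.2 x hx)⟩
  inv_mem' := fun {a} ha => ⟨inv_mem ha.1, fun x hx => by
    have h := ((Subgroup.mem_normalizer_iff.1 (inv_mem ha.1)) _).1 (Y.inv_mem (ha.2 x hx))
    rw [inv_inv, commutatorElement_inv] at h
    convert h using 1
    simp only [commutatorElement_def]; group⟩

theorem mem_centMod {X Y : Subgroup H} {g : H} :
    g ∈ centMod X Y ↔ g ∈ Subgroup.normalizer (Y : Set H) ∧ ∀ x ∈ X, ⁅g, x⁆ ∈ Y := Iff.rfl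

theorem le_centMod_symm {X T Y : Subgroup H} (hX : X ≤ Subgroup.normalizer (Y : Set H))
    (h : T ≤ centMod X Y) : X ≤ centMod T Y := fun _ hx =>
  ⟨hX hx, fun t ht => commutator_mem_symm ((h ht).2 _ hx)⟩

namespace Amb

variable {F : Type} [Field F] [Fintype F] {p : ℕ} (A : Amb H F p)

/-- The group of a vertex. -/
def Gv (x : H) : Subgroup H := cj x A.G
/-- `O_p` of a vertex. -/
def Qv (x : H) : Subgroup H := cj x A.Q
/-- The module of a vertex. -/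
def Vv (x : H) : Subgroup H := cj x A.V
/-- The centre part of a vertex. -/
def Cv (x : H) : Subgroup H := cj x A.C
/-- The Sylow subgroup of an edge. -/
def Se (e : H) : Subgroup H := cj e A.S
/-- The line of an edge. -/
def Oe (e : H) : Subgroup H := cj e A.Om

/-- The vertex `x` lies on the edge `e`. -/
def Inc (x e : H) : Prop := ∃ h, x⁻¹ * h ∈ A.G ∧ e⁻¹ * h ∈ Subgroup.normalizer (A.S : Set H)

/-- The neighbours' modules of a vertex. -/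
def Wat (x : H) : Subgroup H := ⨆ z : {z : H // ∃ e, A.Inc x e ∧ A.Inc z e}, A.Vv z

/-- The modules of the vertices on an edge. -/
def Wedge (e : H) : Subgroup H := ⨆ z : {z : H // A.Inc z e}, A.Vv z

variable [Finite H] [Fact p.Prime] [CharP F p]

theorem Inc.mul_left {x e : H} (h : A.Inc x e) (g : H) : A.Inc (g * x) (g * e) := by
  obtain ⟨k, h1, h2⟩ := h
  exact ⟨g * k, by simpa [mul_assoc] using h1, by simpa [mul_assoc] using h2⟩

theorem Inc.of_mem_Gv {x e g : H} (h : A.Inc x e) (hg : g ∈ A.Gv x) : A.Inc x (g * e) := by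
  obtain ⟨k, h1, h2⟩ := h
  refine ⟨g * k, ?_, by simpa [mul_assoc] using h2⟩
  have := A.G.mul_mem (mem_cj.1 hg) h1
  simpa [mul_assoc] using this

theorem Inc.of_mem_normalizer {x e a : H} (h : A.Inc x e)
    (ha : a ∈ Subgroup.normalizer (A.Se e : Set H)) : A.Inc (a * x) e := by
  obtain ⟨k, h1, h2⟩ := h
  refine ⟨a * k, by simpa [mul_assoc] using h1, ?_⟩
  have hN : e⁻¹ * a * e ∈ Subgroup.normalizer (A.S : Set H) := by
    refine mem_normalizer_of_cj_eq (cj_injective e ?_)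
    rw [← cj_mul, show e * (e⁻¹ * a * e) = a * e by group, cj_mul]
    exact cj_eq_of_mem_normalizer ha
  have := mul_mem hN h2
  simpa [mul_assoc] using this

theorem G_le_normalizer_C : A.G ≤ Subgroup.normalizer (A.C : Set H) :=
  le_normalizer_of_conj fun g hg c hc => by
    rw [A.centC g hg c hc, mul_inv_cancel_right]; exact hc

theorem frame {x e : H} (hi : A.Inc x e) : ∃ h, (A.Gv x = cj h A.G ∧ A.Qv x = cj h A.Q ∧
    A.Vv x = cj h A.V ∧ A.Cv x = cj h A.C) ∧ (A.Se e = cj h A.S ∧ A.Oe e = cj h A.Om) ∧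
    x⁻¹ * h ∈ A.G ∧ e⁻¹ * h ∈ Subgroup.normalizer (A.S : Set H) := by
  obtain ⟨h, h1, h2⟩ := hi
  exact ⟨h, ⟨cj_congr (Subgroup.le_normalizer h1), cj_congr (A.normQ h1), cj_congr (A.normV h1),
    cj_congr (A.G_le_normalizer_C h1)⟩, ⟨cj_congr h2, cj_congr (A.normOm h2)⟩, h1, h2⟩

variable {x e f : H}

theorem Qv_le_Se (hi : A.Inc x e) : A.Qv x ≤ A.Se e := by
  obtain ⟨h, ⟨-, hQ, -, -⟩, ⟨hS, -⟩, -⟩ := A.frame hi
  rw [hQ, hS]; exact cj_mono h A.Q_le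

theorem Se_le_Gv (hi : A.Inc x e) : A.Se e ≤ A.Gv x := by
  obtain ⟨h, ⟨hG, -, -, -⟩, ⟨hS, -⟩, -⟩ := A.frame hi
  rw [hG, hS]; exact cj_mono h A.S_le

theorem Oe_le_Vv (hi : A.Inc x e) : A.Oe e ≤ A.Vv x := by
  obtain ⟨h, ⟨-, -, hV, -⟩, ⟨-, hO⟩, -⟩ := A.frame hi
  rw [hV, hO]; exact cj_mono h A.Om_le

theorem Cv_le_Oe (hi : A.Inc x e) : A.Cv x ≤ A.Oe e := by
  obtain ⟨h, ⟨-, -, -, hC⟩, ⟨-, hO⟩, -⟩ := A.frame hi
  rw [hC, hO]; exact cj_mono h A.C_le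

theorem Vv_le_Qv (x : H) : A.Vv x ≤ A.Qv x := cj_mono x A.V_le

theorem Qv_le_Gv (x : H) : A.Qv x ≤ A.Gv x := cj_mono x A.Q_le_G

theorem Vv_le_Gv (x : H) : A.Vv x ≤ A.Gv x := (A.Vv_le_Qv x).trans (A.Qv_le_Gv x)

theorem Vv_le_Se (hi : A.Inc x e) : A.Vv x ≤ A.Se e := (A.Vv_le_Qv x).trans (A.Qv_le_Se hi)

theorem Oe_le_Se (e : H) : A.Oe e ≤ A.Se e := cj_mono e A.Om_le_S

theorem Vv_ne_bot (x : H) : A.Vv x ≠ ⊥ := fun h =>
  A.V_ne_bot (cj_injective x (h.trans (Subgroup.map_bot _).symm))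

theorem card_Vv (x : H) (e : H) : Nat.card ↥(A.Vv x) = Nat.card ↥(A.Oe e) * Nat.card F := by
  rw [Vv, Oe, card_cj, card_cj, A.cardV]

theorem card_Se (x : H) (e : H) : Nat.card ↥(A.Se e) = Nat.card ↥(A.Qv x) * Nat.card F := by
  rw [Se, Qv, card_cj, card_cj, A.cardS]

theorem card_Oe (x : H) (e : H) : Nat.card ↥(A.Oe e) = Nat.card ↥(A.Cv x) * Nat.card F := by
  rw [Oe, Cv, card_cj, card_cj, A.cardOm]

theorem Gv_le_normalizer (x : H) {X : Subgroup H} (h : A.G ≤ Subgroup.normalizer (X : Set H)) :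
    A.Gv x ≤ Subgroup.normalizer (cj x X : Set H) := fun _ hg => mem_normalizer_cj (h (mem_cj.1 hg))

theorem Gv_le_normalizer_Qv (x : H) : A.Gv x ≤ Subgroup.normalizer (A.Qv x : Set H) :=
  A.Gv_le_normalizer x A.normQ

theorem Gv_le_normalizer_Vv (x : H) : A.Gv x ≤ Subgroup.normalizer (A.Vv x : Set H) :=
  A.Gv_le_normalizer x A.normV

theorem Gv_le_normalizer_Cv (x : H) : A.Gv x ≤ Subgroup.normalizer (A.Cv x : Set H) :=
  A.Gv_le_normalizer x A.G_le_normalizer_C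

theorem centC_v {g c : H} (hg : g ∈ A.Gv x) (hc : c ∈ A.Cv x) : g * c = c * g := by
  obtain ⟨g, hg', rfl⟩ := hg
  obtain ⟨c, hc', rfl⟩ := hc
  rw [← map_mul, A.centC g hg' c hc', map_mul]

theorem cj_eq_of_le_Cv {g : H} (hg : g ∈ A.Gv x) {X : Subgroup H} (hX : X ≤ A.Cv x) : cj g X = X :=
  Subgroup.eq_of_le_of_card_ge (cj_le_iff.2 fun c hc => by
    rw [A.centC_v hg (hX hc), mul_inv_cancel_right]; exact hc) (card_cj g X).ge

theorem V_Q_v {q v : H} (hq : q ∈ A.Qv x) (hv : v ∈ A.Vv x) : q * v = v * q := by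
  obtain ⟨q, hq', rfl⟩ := hq
  obtain ⟨v, hv', rfl⟩ := hv
  rw [← map_mul, A.V_Q q hq' v hv', map_mul]

theorem Vv_comm {u v : H} (hu : u ∈ A.Vv x) (hv : v ∈ A.Vv x) : u * v = v * u :=
  A.V_Q_v (A.Vv_le_Qv x hu) hv

theorem Om_S_v {s v : H} (hs : s ∈ A.Se e) (hv : v ∈ A.Oe e) : s * v = v * s := by
  obtain ⟨s, hs', rfl⟩ := hs
  obtain ⟨v, hv', rfl⟩ := hv
  rw [← map_mul, A.Om_S s hs' v hv', map_mul]

theorem quad_v (hi : A.Inc x e) {s v : H} (hs : s ∈ A.Se e) (hv : v ∈ A.Vv x) :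
    ⁅s, v⁆ ∈ A.Oe e := by
  obtain ⟨h, ⟨-, -, hV, -⟩, ⟨hS, hO⟩, -⟩ := A.frame hi
  rw [hS] at hs; rw [hV] at hv; rw [hO]
  obtain ⟨s, hs', rfl⟩ := hs
  obtain ⟨v, hv', rfl⟩ := hv
  rw [← map_commutatorElement]
  exact Subgroup.mem_map_of_mem _ (A.quad hs' hv')

theorem fixC_v (hi : A.Inc x e) {t v : H} (ht : t ∈ A.Se e) (htQ : t ∉ A.Qv x) (hv : v ∈ A.Vv x)
    (hc : ⁅t, v⁆ ∈ A.Cv x) : v ∈ A.Oe e := by
  obtain ⟨h, ⟨-, hQ, hV, hC⟩, ⟨hS, hO⟩, -⟩ := A.frame hi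
  rw [hS] at ht; rw [hQ] at htQ; rw [hV] at hv; rw [hC] at hc; rw [hO]
  obtain ⟨t, ht', rfl⟩ := ht
  obtain ⟨v, hv', rfl⟩ := hv
  rw [← map_commutatorElement] at hc
  obtain ⟨c, hc', he⟩ := hc
  rw [(MulAut.conj h).injective he] at hc'
  exact Subgroup.mem_map_of_mem _
    (A.fixC ht' (fun h1 => htQ (Subgroup.mem_map_of_mem _ h1)) hv' hc')

theorem fix_v (hi : A.Inc x e) {t v : H} (ht : t ∈ A.Se e) (htQ : t ∉ A.Qv x) (hv : v ∈ A.Vv x)
    (hc : t * v = v * t) : v ∈ A.Oe e :=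
  A.fixC_v hi ht htQ hv (by
    rw [commutatorElement_eq_one_iff_mul_comm.2 hc]; exact (A.Cv x).one_mem)

theorem S_cent_v (hi : A.Inc x e) {s : H} (hs : s ∈ A.Se e) (hc : ∀ v ∈ A.Vv x, s * v = v * s) :
    s ∈ A.Qv x := by
  obtain ⟨h, ⟨-, hQ, hV, -⟩, ⟨hS, -⟩, -⟩ := A.frame hi
  rw [hS] at hs; rw [hV] at hc; rw [hQ]
  obtain ⟨s, hs', rfl⟩ := hs
  refine Subgroup.mem_map_of_mem _ (A.S_cent s hs' fun v hv => (MulAut.conj h).injective ?_)
  rw [map_mul, map_mul]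
  exact hc _ (Subgroup.mem_map_of_mem _ hv)

theorem gen_v (he : A.Inc x e) (hf : A.Inc x f) (hne : A.Oe f ≠ A.Oe e) :
    A.Se e ⊔ A.Se f = A.Gv x := by
  obtain ⟨h, ⟨hG, -, -, -⟩, ⟨hS, hO⟩, hxh, -⟩ := A.frame he
  obtain ⟨k, -, ⟨hS', hO'⟩, hxk, -⟩ := A.frame hf
  have hg : h⁻¹ * k ∈ A.G := by
    have := A.G.mul_mem (A.G.inv_mem hxh) hxk
    rwa [show (x⁻¹ * h)⁻¹ * (x⁻¹ * k) = h⁻¹ * k by group] at this
  have hk : k = h * (h⁻¹ * k) := (mul_inv_cancel_left h k).symm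
  rw [hS, hS', hG, hk, cj_mul, ← cj_sup, A.gen' hg fun h1 => hne (by rw [hO', hk, cj_mul, h1, hO])]

theorem inter_v (he : A.Inc x e) (hf : A.Inc x f) (hne : A.Oe f ≠ A.Oe e) {v : H}
    (hv : v ∈ A.Oe e) (hv' : v ∈ A.Oe f) : v ∈ A.Cv x := by
  obtain ⟨h, ⟨-, -, -, hC⟩, ⟨-, hO⟩, hxh, -⟩ := A.frame he
  obtain ⟨k, -, ⟨-, hO'⟩, hxk, -⟩ := A.frame hf
  have hg : h⁻¹ * k ∈ A.G := by
    have := A.G.mul_mem (A.G.inv_mem hxh) hxk
    rwa [show (x⁻¹ * h)⁻¹ * (x⁻¹ * k) = h⁻¹ * k by group] at this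
  have hk : k = h * (h⁻¹ * k) := (mul_inv_cancel_left h k).symm
  rw [hO, mem_cj] at hv
  rw [hO', hk, cj_mul, mem_cj] at hv'
  rw [hC, mem_cj]
  exact A.inter hg (fun h1 => hne (by rw [hO', hk, cj_mul, h1, hO])) hv hv'

theorem moveS_v (he : A.Inc x e) (hf : A.Inc x f) (hne : A.Oe f ≠ A.Oe e) {t : H}
    (ht : t ∈ A.Se e) (htQ : t ∉ A.Qv x) : A.Oe (t * f) ≠ A.Oe f := by
  obtain ⟨h, ⟨-, hQ, -, -⟩, ⟨hS, hO⟩, hxh, -⟩ := A.frame he
  obtain ⟨k, -, ⟨-, hO'⟩, hxk, -⟩ := A.frame hf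
  have hg : h⁻¹ * k ∈ A.G := by
    have := A.G.mul_mem (A.G.inv_mem hxh) hxk
    rwa [show (x⁻¹ * h)⁻¹ * (x⁻¹ * k) = h⁻¹ * k by group] at this
  have hk : k = h * (h⁻¹ * k) := (mul_inv_cancel_left h k).symm
  rw [hS, mem_cj] at ht
  rw [hQ, mem_cj] at htQ
  intro heq
  have heq' : cj t (A.Oe f) = A.Oe f := (cj_mul t f A.Om).symm.trans heq
  refine A.moveS ht htQ hg (fun h1 => hne (by rw [hO', hk, cj_mul, h1, hO])) (cj_injective h ?_)
  rw [hO', hk, cj_mul] at heq'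
  rw [← cj_mul, show h * (h⁻¹ * t * h) = t * h by group, cj_mul, heq']

theorem exists_edge (he : A.Inc x e) : ∃ f, A.Inc x f ∧ A.Oe f ≠ A.Oe e := by
  obtain ⟨h, -, ⟨-, hO⟩, hxh, -⟩ := A.frame he
  obtain ⟨g, hg, hne⟩ := A.exists_move
  refine ⟨h * g, ⟨h * g, ?_, by simp⟩, fun h1 => hne (cj_injective h ?_)⟩
  · rw [← mul_assoc]; exact A.G.mul_mem hxh hg
  · rw [← cj_mul]; exact h1.trans hO

theorem eq_bot_of_invariant (hi : A.Inc x e) {T : Subgroup H} (hT : T ≤ A.Se e)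
    (hTe : Subgroup.normalizer (A.Se e : Set H) ≤ Subgroup.normalizer (T : Set H))
    (hTx : A.Gv x ≤ Subgroup.normalizer (T : Set H)) : T = ⊥ := by
  obtain ⟨h, ⟨hG, -, -, -⟩, ⟨hS, -⟩, -⟩ := A.frame hi
  rw [hS] at hT hTe
  rw [hG] at hTx
  have e0 : T = cj h (cj h⁻¹ T) := by rw [← cj_mul, mul_inv_cancel, cj_one]
  have hconj : ∀ g, h * g * h⁻¹ ∈ Subgroup.normalizer (T : Set H) →
      g ∈ Subgroup.normalizer (cj h⁻¹ T : Set H) := fun g hg => mem_normalizer_cj (by simpa using hg)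
  rw [e0, A.hd (cj h⁻¹ T) ?_ (fun g hg => hconj g (hTe ?_)) (fun g hg => hconj g (hTx ?_))]
  · exact Subgroup.map_bot _
  · refine cj_le_iff.2 fun t ht => ?_
    simpa using mem_cj.1 (hT ht)
  · exact mem_normalizer_cj (by simpa [mul_assoc] using hg)
  · exact conj_mem_cj hg

theorem Vv_le_Wat {z : H} (he : A.Inc x e) (hz : A.Inc z e) : A.Vv z ≤ A.Wat x :=
  le_iSup (fun z : {z : H // ∃ e, A.Inc x e ∧ A.Inc z e} => A.Vv z) ⟨z, e, he, hz⟩

theorem Wedge_le_Wat (he : A.Inc x e) : A.Wedge e ≤ A.Wat x :=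
  iSup_le fun z => A.Vv_le_Wat he z.2

theorem Wedge_le_Se (e : H) : A.Wedge e ≤ A.Se e := iSup_le fun z => A.Vv_le_Se z.2

theorem Vv_le_Wedge {z : H} (hz : A.Inc z e) : A.Vv z ≤ A.Wedge e :=
  le_iSup (fun z : {z : H // A.Inc z e} => A.Vv z) ⟨z, hz⟩

theorem normalizer_Se_le_normalizer_Wedge (e : H) :
    Subgroup.normalizer (A.Se e : Set H) ≤ Subgroup.normalizer (A.Wedge e : Set H) := by
  refine le_normalizer_of_conj fun a ha y hy => ?_
  have : A.Wedge e ≤ (A.Wedge e).comap (MulAut.conj a).toMonoidHom := iSup_le fun z => by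
    rw [← Subgroup.map_le_iff_le_comap]
    show cj a (A.Vv z) ≤ A.Wedge e
    rw [Vv, ← cj_mul]
    exact A.Vv_le_Wedge (Inc.of_mem_normalizer A z.2 ha)
  exact this hy

theorem Gv_le_normalizer_Wat (x : H) : A.Gv x ≤ Subgroup.normalizer (A.Wat x : Set H) := by
  refine le_normalizer_of_conj fun a ha y hy => ?_
  have : A.Wat x ≤ (A.Wat x).comap (MulAut.conj a).toMonoidHom := iSup_le fun z => by
    obtain ⟨e, he, hz⟩ := z.2
    rw [← Subgroup.map_le_iff_le_comap]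
    show cj a (A.Vv z) ≤ A.Wat x
    rw [Vv, ← cj_mul]
    exact A.Vv_le_Wat (Inc.of_mem_Gv A he ha) (Inc.mul_left A hz a)
  exact this hy

theorem Wedge_not_normalized (hi : A.Inc x e) :
    ¬ A.Gv x ≤ Subgroup.normalizer (A.Wedge e : Set H) := fun h =>
  A.Vv_ne_bot x (le_bot_iff.1 ((A.Vv_le_Wedge hi).trans
    (A.eq_bot_of_invariant hi (A.Wedge_le_Se e) (A.normalizer_Se_le_normalizer_Wedge e) h).le))

end Amb

end Cfsg.Agent.PushUp62
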