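import Cfsg.Agent.PushUp62.Sect
import Cfsg.Agent.Lib.Thompson.Basic

/-!
The ambient configuration of rank-one pushing up: a group `G` inside `H`, where the normalizer
of its Sylow subgroup `S` in `H` induces all automorphisms of `S`.
-/

set_option autoImplicit false
set_option linter.unusedSectionVars false
set_option linter.unusedVariables false
set_option linter.style.haveILetI false

namespace Cfsg.Agent.PushUp62

open scoped MatrixGroups commutatorElement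
open Cfsg.Agent.PLocalB (upper lower)
open Cfsg.Agent.LocalEven61 (pslMap)

/-- The data extracted from the pushing-up hypothesis. -/
structure Amb (H : Type*) [Group H] (F : Type) [Field F] [Fintype F] (p : ℕ) where
  /-- the group -/
  G : Subgroup H
  /-- the Sylow subgroup -/
  S : Subgroup H
  /-- the largest normal `p`-subgroup -/
  Q : Subgroup H
  /-- the normal closure of `Ω₁(Z(S))` -/
  V : Subgroup H
  /-- `Ω₁(Z(S))` -/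
  Om : Subgroup H
  /-- the centre of `G` in `V` -/
  C : Subgroup H
  /-- the projection -/
  proj : ↥G →* PSL₂ F
  /-- `V / C` is natural -/
  nat : SectNat G S proj V C Om
  proj_surj : Function.Surjective proj
  S_le : S ≤ G
  S_pgroup : IsPGroup p ↥S
  Q_le : Q ≤ S
  V_le : V ≤ Q
  Om_le : Om ≤ V
  C_le : C ≤ Om
  normQ : G ≤ Subgroup.normalizer (Q : Set H)
  normV : G ≤ Subgroup.normalizer (V : Set H)
  normOm : Subgroup.normalizer (S : Set H) ≤ Subgroup.normalizer (Om : Set H)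
  centC : ∀ g ∈ G, ∀ c ∈ C, g * c = c * g
  mem_C : ∀ v ∈ V, (∀ g ∈ G, g * v = v * g) → v ∈ C
  charP_cond : ∀ g ∈ G, (∀ x ∈ Q, g * x = x * g) → g ∈ Q
  V_elem : Cfsg.IsElementaryAbelian p V
  V_Q : ∀ x ∈ Q, ∀ v ∈ V, x * v = v * x
  S_cent : ∀ s ∈ S, (∀ v ∈ V, s * v = v * s) → s ∈ Q
  Om_S : ∀ s ∈ S, ∀ v ∈ Om, s * v = v * s
  fix : ∀ t ∈ S, t ∉ Q → ∀ v ∈ V, t * v = v * t → v ∈ Om
  cardS : Nat.card ↥S = Nat.card ↥Q * Nat.card F
  cardV : Nat.card ↥V = Nat.card ↥Om * Nat.card F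
  cardOm : Nat.card ↥Om = Nat.card ↥C * Nat.card F
  map_mem : ∀ τ, ∃ s : ↥G, (s : H) ∈ S ∧ proj s = pslMap (upper τ)
  map_S : ∀ s : ↥G, (s : H) ∈ S → ∃ τ, proj s = pslMap (upper τ)
  proj_Q : ∀ g : ↥G, (g : H) ∈ Q → proj g = 1
  mem_Q : ∀ g : ↥G, (g : H) ∈ S → proj g = 1 → (g : H) ∈ Q
  gen : ∀ g : ↥G, ¬ InBorel proj g → S ⊔ cj (g : H) S = G
  top : ∀ N : Subgroup H, N ≤ G → G ≤ Subgroup.normalizer (N : Set H) →
    (∃ t ∈ S, t ∉ Q ∧ t ∈ N) → N ⊔ S = G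
  pCore : ∀ N : Subgroup H, N ≤ G → G ≤ Subgroup.normalizer (N : Set H) → IsPGroup p ↥N → N ≤ Q
  bound : ∀ X Y : Subgroup H, G ≤ Subgroup.normalizer (X : Set H) →
    G ≤ Subgroup.normalizer (Y : Set H) → Y ≤ X → X ≤ Q →
    (∀ s ∈ S, s ∉ Q → ∃ x ∈ X, ⁅x, s⁆ ∉ Y) → ∀ t ∈ S, t ∉ Q →
      ∀ Z : Subgroup H, Z ≤ X → (∀ z ∈ Z, ⁅z, t⁆ ∈ Y) → Nat.card F * Nat.card ↥Z ≤ Nat.card ↥X
  hd : ∀ T : Subgroup H, T ≤ S → Subgroup.normalizer (S : Set H) ≤ Subgroup.normalizer (T : Set H) →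
    G ≤ Subgroup.normalizer (T : Set H) → T = ⊥

namespace Amb

variable {H : Type*} [Group H] [Finite H] {F : Type} [Field F] [Fintype F] {p : ℕ} [Fact p.Prime]
  [CharP F p] (A : Amb H F p)

theorem Q_le_G : A.Q ≤ A.G := A.Q_le.trans A.S_le

theorem V_le_G : A.V ≤ A.G := A.V_le.trans A.Q_le_G

theorem V_le_S : A.V ≤ A.S := A.V_le.trans A.Q_le

theorem Om_le_S : A.Om ≤ A.S := A.Om_le.trans A.V_le_S

theorem V_comm {x y : H} (hx : x ∈ A.V) (hy : y ∈ A.V) : x * y = y * x :=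
  A.V_Q x (A.V_le hx) y hy

theorem comm_S_mem_Q {a b : H} (ha : a ∈ A.S) (hb : b ∈ A.S) : ⁅a, b⁆ ∈ A.Q := by
  obtain ⟨τ, hτ⟩ := A.map_S ⟨a, A.S_le ha⟩ ha
  obtain ⟨σ, hσ⟩ := A.map_S ⟨b, A.S_le hb⟩ hb
  refine A.mem_Q ⁅(⟨a, A.S_le ha⟩ : ↥A.G), ⟨b, A.S_le hb⟩⁆ ?_ ?_
  · exact A.S.mul_mem (A.S.mul_mem (A.S.mul_mem ha hb) (A.S.inv_mem ha)) (A.S.inv_mem hb)
  · rw [map_commutatorElement, hτ, hσ, commutatorElement_eq_one_iff_mul_comm, ← map_mul, ← map_mul,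
      PLocalB.upper_mul, PLocalB.upper_mul, add_comm]

theorem quad {s v : H} (hs : s ∈ A.S) (hv : v ∈ A.V) : ⁅s, v⁆ ∈ A.Om :=
  A.nat.comm_mem_L A.normV ⟨s, A.S_le hs⟩ hs hv

theorem fixC {t v : H} (ht : t ∈ A.S) (htQ : t ∉ A.Q) (hv : v ∈ A.V) (h : ⁅t, v⁆ ∈ A.C) :
    v ∈ A.Om :=
  A.nat.mem_L_of_comm_mem A.normV ⟨t, A.S_le ht⟩ ht (fun h1 => htQ (A.mem_Q _ ht h1)) hv h

theorem one_lt_q (_A : Amb H F p) : 1 < Nat.card F := Finite.one_lt_card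

theorem Om_not_le_C : ¬ A.Om ≤ A.C := fun h => by
  have h1 := Subgroup.card_le_of_le h
  have h2 := A.cardOm
  have h3 : 0 < Nat.card ↥A.C := Nat.card_pos
  have := A.one_lt_q
  nlinarith

theorem V_ne_bot : A.V ≠ ⊥ := fun h =>
  A.Om_not_le_C ((A.Om_le.trans h.le).trans bot_le)

theorem cj_Om_eq_of_borel (g : ↥A.G) (hg : InBorel A.proj g) : cj (g : H) A.Om = A.Om :=
  Subgroup.eq_of_le_of_card_ge (A.nat.stab A.normV A.Om_le g hg) (card_cj _ _).ge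

theorem mem_C_of_not_borel (g : ↥A.G) (hg : ¬ InBorel A.proj g) {x : H} (hx : x ∈ A.Om)
    (h : (g : H) * x * (g : H)⁻¹ ∈ A.Om) : x ∈ A.C :=
  A.nat.mem_Y_of_forall g hg (A.Om_le hx) hx h (A.Om_le h)

theorem cj_Om_eq_iff (g : ↥A.G) : cj (g : H) A.Om = A.Om ↔ InBorel A.proj g :=
  ⟨fun h => by_contra fun hg => A.Om_not_le_C fun x hx =>
    A.mem_C_of_not_borel g hg hx (h.le (conj_mem_cj hx)), A.cj_Om_eq_of_borel g⟩

theorem exists_move : ∃ g ∈ A.G, cj g A.Om ≠ A.Om := by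
  obtain ⟨g, hg⟩ := A.proj_surj (pslMap weyl)
  refine ⟨g, g.2, fun h => ?_⟩
  have h' := (A.cj_Om_eq_iff g).1 h
  rw [inBorel_iff hg.symm] at h'
  simp [weyl] at h'

theorem gen' {g : H} (hg : g ∈ A.G) (h : cj g A.Om ≠ A.Om) : A.S ⊔ cj g A.S = A.G :=
  A.gen ⟨g, hg⟩ fun hb => h (A.cj_Om_eq_of_borel _ hb)

theorem inter {g x : H} (hg : g ∈ A.G) (h : cj g A.Om ≠ A.Om) (hx : x ∈ A.Om)
    (hx' : x ∈ cj g A.Om) : x ∈ A.C := by
  obtain ⟨y, hy, rfl⟩ := hx'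
  have hyC := A.mem_C_of_not_borel ⟨g, hg⟩ (fun hb => h (A.cj_Om_eq_of_borel _ hb)) hy hx
  show g * y * g⁻¹ ∈ A.C
  rwa [A.centC g hg y hyC, mul_inv_cancel_right]

theorem moveS {t g : H} (ht : t ∈ A.S) (htQ : t ∉ A.Q) (hg : g ∈ A.G) (h : cj g A.Om ≠ A.Om) :
    cj t (cj g A.Om) ≠ cj g A.Om := by
  intro he
  have h1 : cj (g⁻¹ * t * g) A.Om = A.Om := by
    rw [cj_mul, cj_mul, he, ← cj_mul, inv_mul_cancel, cj_one]
  set g' : ↥A.G := ⟨g, hg⟩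
  set t' : ↥A.G := ⟨t, A.S_le ht⟩
  have hB := (A.cj_Om_eq_iff (g'⁻¹ * t' * g')).1 h1
  have hnB : ¬ InBorel A.proj g' := fun hb => h (A.cj_Om_eq_of_borel _ hb)
  obtain ⟨τ, hτ⟩ := A.nat.exists_upper t' ht
  rw [inBorel_iff (A.nat.psl_rep g')] at hnB
  rw [inBorel_iff (A.nat.psl_rep _), map_mul, map_mul, map_inv, hτ] at hB
  have hτ0 : τ ≠ 0 := fun h0 => htQ (A.mem_Q t' ht (by rw [← A.nat.psl_rep, hτ, h0]; simp))
  set B := A.nat.rep g'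
  have e : (B⁻¹ * upper τ * B) 1 0 = -(τ * B 1 0 * B 1 0) := by
    rw [Matrix.SpecialLinearGroup.coe_mul, Matrix.SpecialLinearGroup.coe_mul,
      Matrix.SpecialLinearGroup.coe_inv, Matrix.adjugate_fin_two, PLocalB.coe_upper]
    simp [Matrix.mul_apply, Fin.sum_univ_two]
    ring
  rw [e, neg_eq_zero, mul_assoc, mul_eq_zero, mul_self_eq_zero] at hB
  exact hnB (hB.resolve_left hτ0)

end Amb

end Cfsg.Agent.PushUp62
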