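import Cfsg.Agent.LocalEven61.PushingUp

/-!
A lower bound for the index of the centralizer of an element of `S` on a section.
-/

set_option autoImplicit false
set_option linter.unusedSectionVars false
set_option linter.style.haveILetI false

namespace Cfsg.Agent.PushUp62

open scoped commutatorElement

variable {G : Type*} [Group G] [Finite G] {p : ℕ} [Fact p.Prime]
variable {F : Type} [Field F] [Fintype F] [CharP F p] {n : ℕ}

theorem commutator_mem_iff_comm {Y : Subgroup G} [Y.Normal] (x g : G) :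
    ⁅x, g⁆ ∈ Y ↔ (QuotientGroup.mk x : G ⧸ Y) * QuotientGroup.mk g =
      QuotientGroup.mk g * QuotientGroup.mk x := by
  rw [← QuotientGroup.eq_one_iff, ← commutatorElement_eq_one_iff_mul_comm]
  rfl

theorem section_bound {S : Sylow p G} (π : G →* Matrix.ProjectiveSpecialLinearGroup (Fin 2) F)
    (hπ : Function.Surjective π) (hn : 1 ≤ n) (hF : Fintype.card F = p ^ n)
    {Q : Subgroup G} (hQS : Q ≤ S) (hQK : ∀ x ∈ Q, π x = 1)
    (hSK : ∀ s ∈ (S : Subgroup G), π s = 1 → s ∈ Q)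
    {X Y : Subgroup G} [X.Normal] [Y.Normal] (hYX : Y ≤ X) (hXQ : X ≤ Q)
    (hC : ∀ s ∈ (S : Subgroup G), s ∉ Q → ∃ x ∈ X, ⁅x, s⁆ ∉ Y)
    {t : G} (ht : t ∈ (S : Subgroup G)) (htQ : t ∉ Q)
    {Z : Subgroup G} (hZX : Z ≤ X) (hZ : ∀ z ∈ Z, ⁅z, t⁆ ∈ Y) :
    p ^ n * Nat.card ↥Z ≤ Nat.card ↥X := by
  classical
  have hp := (Fact.out : p.Prime)
  have hXp : IsPGroup p ↥X := S.2.to_le (hXQ.trans hQS)
  have hcard : Nat.card ↥Z * Z.relIndex X = Nat.card ↥X := by
    rw [← Subgroup.relIndex_bot_left, ← Subgroup.relIndex_bot_left,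
      Subgroup.relIndex_mul_relIndex _ _ _ bot_le hZX]
  rw [← hcard, mul_comm]
  refine Nat.mul_le_mul_left _ ?_
  have hne : ¬ X ≤ Z := fun h => by
    obtain ⟨x, hx, hxt⟩ := hC t ht htQ
    exact hxt (hZ x (h hx))
  obtain ⟨k, hk⟩ := hXp.index (Z.subgroupOf X)
  have hk' : Z.relIndex X = p ^ k := hk
  have hk0 : k ≠ 0 := fun h0 => hne (Subgroup.relIndex_eq_one.1 (by rw [hk', h0, pow_zero]))
  rcases Nat.lt_or_ge n 2 with hn1 | hn2
  · obtain rfl : n = 1 := by omega
    rw [hk', pow_one]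
    exact Nat.le_self_pow hk0 p
  haveI : IsSimpleGroup (Matrix.ProjectiveSpecialLinearGroup (Fin 2) F) := LocalEven61.psl_simple (by
    rw [hF]
    calc 4 = 2 ^ 2 := by norm_num
      _ ≤ p ^ 2 := Nat.pow_le_pow_left hp.two_le 2
      _ ≤ p ^ n := Nat.pow_le_pow_right hp.pos hn2)
  set mk := QuotientGroup.mk' Y
  have hYker : Y ≤ π.ker := fun y hy => hQK y (hXQ (hYX hy))
  set π' := QuotientGroup.lift Y π hYker
  have hπ' : Function.Surjective π' := fun m => by
    obtain ⟨g, rfl⟩ := hπ m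
    exact ⟨mk g, rfl⟩
  set V := X.map mk
  haveI : V.Normal := Subgroup.Normal.map inferInstance _ (QuotientGroup.mk'_surjective _)
  set C : Subgroup G := (Subgroup.centralizer (V : Set (G ⧸ Y))).comap mk with hCdef
  have hCmem : ∀ g, g ∈ C ↔ ∀ x ∈ X, ⁅x, g⁆ ∈ Y := fun g => by
    rw [hCdef, Subgroup.mem_comap, Subgroup.mem_centralizer_iff]
    refine ⟨fun h x hx => (commutator_mem_iff_comm x g).2 (h _ ⟨x, hx, rfl⟩), ?_⟩
    rintro h _ ⟨x, hx, rfl⟩
    exact (commutator_mem_iff_comm x g).1 (h x hx)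
  have hCK : C.map π = ⊥ := by
    haveI : C.Normal := Subgroup.Normal.comap inferInstance _
    haveI : (C.map π).Normal := Subgroup.Normal.map inferInstance π hπ
    rcases IsSimpleGroup.eq_bot_or_eq_top_of_normal (C.map π) inferInstance with hb | htop
    · exact hb
    exfalso
    obtain ⟨P, hP⟩ := Transfer.exists_sylow_subgroupOf_normal S C
    let ρ : ↥C →* Matrix.ProjectiveSpecialLinearGroup (Fin 2) F := π.comp C.subtype
    have hρ : Function.Surjective ρ := by
      rw [← MonoidHom.range_eq_top, MonoidHom.range_comp, Subgroup.range_subtype]; exact htop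
    haveI : Finite (Matrix.ProjectiveSpecialLinearGroup (Fin 2) F) := Finite.of_surjective π hπ
    have h4 : (P.mapSurjective hρ).toSubgroup = ⊥ := by
      rw [Sylow.coe_mapSurjective, Subgroup.map_eq_bot_iff, hP]
      intro x hx
      refine hQK _ ?_
      by_contra hxQ
      obtain ⟨y, hy, hyx⟩ := hC (x : G) hx hxQ
      exact hyx ((hCmem x).1 x.2 y hy)
    have h5 : p ∣ Nat.card (Matrix.ProjectiveSpecialLinearGroup (Fin 2) F) := by
      have h6 := LocalEven61.psl_sylow_card (S.mapSurjective hπ)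
      rw [hF] at h6
      exact (dvd_pow_self p (Nat.one_le_iff_ne_zero.1 hn)).trans (h6 ▸ Subgroup.card_subgroup_dvd_card _)
    exact (P.mapSurjective hρ).ne_bot_of_dvd_card h5 h4
  have hVK : Subgroup.centralizer (V : Set (G ⧸ Y)) ≤ π'.ker := by
    intro g hg
    obtain ⟨g, rfl⟩ := QuotientGroup.mk'_surjective Y g
    exact (Subgroup.map_eq_bot_iff _).1 hCK hg
  obtain ⟨ℓ, e, hℓ, hℓ2, hℓp, hdvd, hprim⟩ := LocalEven61.exists_primitive_prime_power hp hn2
  obtain ⟨i, hi⟩ := S.2 ⟨t, ht⟩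
  obtain ⟨m, hm⟩ := LocalEven61.exists_conj_product_psl hF hℓ hℓ2 hℓp hdvd
    (u := π t) (fun h0 => htQ (hSK t ht h0)) (i := i)
    (by rw [← map_pow, show t ^ p ^ i = 1 by simpa using congrArg Subtype.val hi, map_one])
  obtain ⟨b, rfl⟩ := hπ m
  rw [← map_inv, ← map_mul, ← map_mul, ← map_mul] at hm
  have hord : ℓ ^ (e + 1) ∣ orderOf (QuotientGroup.mk (mk (t * (b * t * b⁻¹))) : (G ⧸ Y) ⧸ π'.ker) := by
    refine hm.trans (orderOf_dvd_of_pow_eq_one ?_)
    have h := pow_orderOf_eq_one (QuotientGroup.mk (mk (t * (b * t * b⁻¹))) : (G ⧸ Y) ⧸ π'.ker)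
    rw [← QuotientGroup.mk_pow, QuotientGroup.eq_one_iff, MonoidHom.mem_ker, map_pow] at h
    exact h
  obtain ⟨k', j, hk'', hkd, hkeq⟩ := LocalEven61.dvd_pow_relIndex_sub_one_of_image hℓ hℓp V
    (hXp.map mk) hVK hord
  set a := mk t
  set c := mk b * a * (mk b)⁻¹
  have hsq : p ^ n * p ^ n ≤ ((V ⊓ Subgroup.centralizer ({a} : Set (G ⧸ Y))) ⊓
      (V ⊓ Subgroup.centralizer ({c} : Set (G ⧸ Y)))).relIndex V := by
    rw [← pow_add, ← two_mul]
    refine (Nat.pow_le_pow_right hp.pos (hprim k' hk'' hkd)).trans (hkeq.symm.trans_le ?_)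
    refine Nat.le_of_dvd (Nat.pos_of_ne_zero (Subgroup.index_ne_zero_of_finite))
      (Subgroup.relIndex_dvd_of_le_left V ?_)
    rintro v ⟨h1, h2⟩
    refine ⟨h1.1, Subgroup.mem_centralizer_singleton_iff.2 ?_⟩
    rw [show mk (t * (b * t * b⁻¹)) = a * c by simp only [map_mul, map_inv, a, c]]
    exact (((show Commute v a from Subgroup.mem_centralizer_singleton_iff.1 h1.2).mul_right
      (show Commute v c from Subgroup.mem_centralizer_singleton_iff.1 h2.2)).pow_right _).eq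
  have hconj : (V ⊓ Subgroup.centralizer ({c} : Set (G ⧸ Y))).relIndex V =
      (V ⊓ Subgroup.centralizer ({a} : Set (G ⧸ Y))).relIndex V := by
    have hVb : V.map (MulAut.conj (mk b)).toMonoidHom = V :=
      LocalEven61.map_conj_of_mem_normalizer' (Subgroup.normalizer_eq_top V ▸ Subgroup.mem_top (mk b))
    have hmap : (V ⊓ Subgroup.centralizer ({a} : Set (G ⧸ Y))).map (MulAut.conj (mk b)).toMonoidHom =
        V ⊓ Subgroup.centralizer ({c} : Set (G ⧸ Y)) := by
      rw [Subgroup.map_inf _ _ _ (MulAut.conj (mk b)).injective, hVb]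
      congr 1
      ext w
      rw [LocalEven61.mem_map_conj, Subgroup.mem_centralizer_singleton_iff,
        Subgroup.mem_centralizer_singleton_iff]
      constructor <;> intro h
      · calc w * c = mk b * (((mk b)⁻¹ * w * mk b) * a) * (mk b)⁻¹ := by simp only [c]; group
          _ = mk b * (a * ((mk b)⁻¹ * w * mk b)) * (mk b)⁻¹ := by rw [h]
          _ = c * w := by simp only [c]; group
      · calc (mk b)⁻¹ * w * mk b * a = (mk b)⁻¹ * (w * c) * mk b := by simp only [c]; group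
          _ = (mk b)⁻¹ * (c * w) * mk b := by rw [h]
          _ = a * ((mk b)⁻¹ * w * mk b) := by simp only [c]; group
    rw [← hmap]
    conv_lhs => arg 2; rw [← hVb]
    exact Subgroup.relIndex_map_map_of_injective _ _ (MulAut.conj (mk b)).injective
  have h7 := hsq.trans Subgroup.relIndex_inf_le
  rw [hconj] at h7
  refine (Nat.mul_self_le_mul_self_iff.1 h7).trans ?_
  have hle : (Z ⊔ Y).map mk ≤ V ⊓ Subgroup.centralizer ({a} : Set (G ⧸ Y)) := by
    rw [Subgroup.map_sup, show Y.map mk = ⊥ from QuotientGroup.map_mk'_self Y, sup_bot_eq]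
    rintro _ ⟨z, hz, rfl⟩
    exact ⟨⟨z, hZX hz, rfl⟩, Subgroup.mem_centralizer_singleton_iff.2
      ((commutator_mem_iff_comm z t).1 (hZ z hz))⟩
  refine (Nat.le_of_dvd (Nat.pos_of_ne_zero Subgroup.index_ne_zero_of_finite)
    (Subgroup.relIndex_dvd_of_le_left V hle)).trans ?_
  refine le_trans (le_of_eq ?_) (Nat.le_of_dvd (Nat.pos_of_ne_zero Subgroup.index_ne_zero_of_finite)
    (Subgroup.relIndex_dvd_of_le_left X (le_sup_left : Z ≤ Z ⊔ Y)))
  show ((Z ⊔ Y).map mk).relIndex (X.map mk) = _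
  rw [Subgroup.relIndex_map_map, QuotientGroup.ker_mk', sup_eq_left.2 le_sup_right,
    sup_eq_left.2 hYX]

end Cfsg.Agent.PushUp62
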