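import Mathlib

/-!
In the regular permutation representation every automorphism of a subgroup is induced by the
normalizer of its image.
-/

set_option autoImplicit false

namespace Cfsg.Agent.PushUp62

/-- The left regular representation. -/
def regHom (G : Type*) [Group G] : G →* Equiv.Perm G := MulAction.toPermHom G G

theorem regHom_injective (G : Type*) [Group G] : Function.Injective (regHom G) :=
  MulAction.toPerm_injective

theorem exists_normalizer_extension {G : Type*} [Group G] (S : Subgroup G) (φ : ↥S ≃* ↥S) :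
    ∃ σ ∈ Subgroup.normalizer ((S.map (regHom G) : Subgroup (Equiv.Perm G)) : Set (Equiv.Perm G)),
      ∀ s : ↥S, σ * regHom G (s : G) * σ⁻¹ = regHom G ((φ s : ↥S) : G) := by
  obtain ⟨T, hT, -⟩ := S.exists_isComplement_right 1
  let e := hT.equiv
  let σ : Equiv.Perm G := (e.trans (Equiv.prodCongr φ.toEquiv (Equiv.refl _))).trans e.symm
  have key : ∀ (s : ↥S) (x : G), σ ((s : G) * x) = ((φ s : ↥S) : G) * σ x := by
    intro s x
    simp only [σ, e, Equiv.trans_apply, Equiv.prodCongr_apply, hT.equiv_mul_left, Prod.map_apply,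
      Equiv.refl_apply, MulEquiv.toEquiv_eq_coe, MulEquiv.coe_toEquiv, map_mul]
    rw [Subgroup.IsComplement.equiv_symm_apply, Subgroup.IsComplement.equiv_symm_apply]
    simp [mul_assoc]
  have hconj : ∀ s : ↥S, σ * regHom G (s : G) * σ⁻¹ = regHom G ((φ s : ↥S) : G) := fun s => by
    refine Equiv.ext fun x => ?_
    show σ ((s : G) * σ.symm x) = ((φ s : ↥S) : G) * x
    rw [key, Equiv.apply_symm_apply]
  refine ⟨σ, ?_, hconj⟩
  rw [Subgroup.mem_normalizer_iff]
  intro h
  constructor
  · rintro ⟨s, hs, rfl⟩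
    exact ⟨_, (φ ⟨s, hs⟩).2, (hconj ⟨s, hs⟩).symm⟩
  · rintro ⟨s, hs, hsh⟩
    refine ⟨_, (φ.symm ⟨s, hs⟩).2, ?_⟩
    have := hconj (φ.symm ⟨s, hs⟩)
    rw [φ.apply_symm_apply, hsh] at this
    simpa using this

end Cfsg.Agent.PushUp62
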