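import Cfsg.Agent.PushUp62.Amb
import Cfsg.Agent.PushUp62.Bound
import Cfsg.Agent.PushUp62.Perm
import Cfsg.Agent.LocalEven61.PushingUpZJ
import Cfsg.Agent.Lib.Thompson.JSubgroup

/-!
Construction of the ambient configuration from the pushing-up hypothesis.
-/

set_option autoImplicit false
set_option linter.unusedSectionVars false
set_option linter.style.haveILetI false

namespace Cfsg.Agent.PushUp62

open scoped MatrixGroups commutatorElement
open Cfsg.Agent.PLocalB (upper lower)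
open Cfsg.Agent.LocalEven61 (pslMap PUSetup upperGroup upperSylow)

variable {G : Type*} [Group G] [Finite G] {p : ℕ} [Fact p.Prime]
variable {F : Type} [Field F] [Fintype F] [CharP F p] {n : ℕ} {S : Sylow p G} {K : Subgroup G}
  [K.Normal]

/-- `Ω₁(Z(S))` inside `G`. -/
def omegaCenter (S : Sylow p G) : Subgroup G where
  carrier := {x | x ∈ (S : Subgroup G) ∧ x ^ p = 1 ∧ ∀ s ∈ (S : Subgroup G), s * x = x * s}
  one_mem' := ⟨one_mem _, one_pow p, fun s _ => by simp⟩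
  mul_mem' := fun {x y} hx hy => ⟨mul_mem hx.1 hy.1, by
    rw [(show Commute x y from hy.2.2 x hx.1).mul_pow, hx.2.1, hy.2.1, one_mul],
    fun s hs => ((show Commute s x from hx.2.2 s hs).mul_right (hy.2.2 s hs)).eq⟩
  inv_mem' := fun {x} hx => ⟨inv_mem hx.1, by rw [inv_pow, hx.2.1, inv_one],
    fun s hs => (show Commute s x from hx.2.2 s hs).inv_right.eq⟩

theorem mem_omegaCenter {x : G} : x ∈ omegaCenter S ↔
    x ∈ (S : Subgroup G) ∧ x ^ p = 1 ∧ ∀ s ∈ (S : Subgroup G), s * x = x * s := Iff.rfl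

theorem omegaCenter_ne_bot (hS : (S : Subgroup G) ≠ ⊥) : omegaCenter S ≠ ⊥ := by
  haveI : Nontrivial ↥(S : Subgroup G) := (Subgroup.nontrivial_iff_ne_bot _).2 hS
  haveI : Nontrivial ↥(Subgroup.center ↥(S : Subgroup G)) := S.2.center_nontrivial
  have hdvd : p ∣ Nat.card ↥(Subgroup.center ↥(S : Subgroup G)) := by
    obtain ⟨k, hk⟩ := (S.2.to_subgroup (Subgroup.center ↥(S : Subgroup G))).exists_card_eq
    rcases Nat.eq_zero_or_pos k with h0 | h0
    · rw [h0, pow_zero] at hk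
      exact absurd hk (Finite.one_lt_card).ne'
    · exact hk ▸ dvd_pow_self p h0.ne'
  obtain ⟨x, hx⟩ := exists_prime_orderOf_dvd_card' p hdvd
  intro hb
  have hmem : (((x : ↥(S : Subgroup G))) : G) ∈ omegaCenter S := by
    refine ⟨(x : ↥(S : Subgroup G)).2, ?_, fun s hs =>
      congrArg Subtype.val (Subgroup.mem_center_iff.1 x.2 ⟨s, hs⟩)⟩
    have := pow_orderOf_eq_one x
    rw [hx] at this
    simpa using congrArg (fun y : ↥(Subgroup.center ↥(S : Subgroup G)) => ((y : ↥(S : Subgroup G)) : G)) this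
  rw [hb, Subgroup.mem_bot] at hmem
  have : x = 1 := Subtype.ext (Subtype.ext hmem)
  rw [this, orderOf_one] at hx
  exact (Fact.out : p.Prime).ne_one hx.symm

theorem inBorel_of_normalizes {g : G} {π : G →* PSL₂ F}
    (h : π g * pslMap (upper 1) * (π g)⁻¹ ∈ (upperGroup F).map pslMap) : InBorel π g := by
  obtain ⟨A, hA⟩ := LocalEven61.pslMap_surjective (π g)
  refine ⟨A, hA, ?_⟩
  obtain ⟨B, hB, hBeq⟩ := h
  rw [← hA, ← map_inv, ← map_mul, ← map_mul] at hBeq
  obtain ⟨r, -, hr⟩ := exists_scalar hBeq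
  have h10 := hr 1 0
  rw [(LocalEven61.mem_upperGroup_iff.1 hB).1, zero_mul] at h10
  have e : (A * upper (1 : F) * A⁻¹) 1 0 = -(A 1 0 * A 1 0) := by
    rw [Matrix.SpecialLinearGroup.coe_mul, Matrix.SpecialLinearGroup.coe_mul,
      Matrix.SpecialLinearGroup.coe_inv, Matrix.adjugate_fin_two, PLocalB.coe_upper]
    simp [Matrix.mul_apply, Fin.sum_univ_two]
    ring
  rw [e, neg_eq_zero] at h10
  exact mul_self_eq_zero.1 h10

theorem exists_normalized_proj (h : PUSetup S K F n) :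
    ∃ π : G →* PSL₂ F, Function.Surjective π ∧ π.ker = K ∧
      (S : Subgroup G).map π = (upperGroup F).map pslMap := by
  obtain ⟨π₀, hπ₀, hker⟩ := h.exists_proj
  haveI : Finite (PSL₂ F) := Finite.of_surjective π₀ hπ₀
  obtain ⟨g, hg⟩ := MulAction.exists_smul_eq (PSL₂ F) (S.mapSurjective hπ₀)
    ((upperSylow : Sylow p SL(2, F)).mapSurjective (LocalEven61.pslMap_surjective (F := F)))
  refine ⟨(MulAut.conj g).toMonoidHom.comp π₀, (MulAut.conj g).surjective.comp hπ₀, ?_, ?_⟩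
  · rw [MonoidHom.ker_comp_of_injective, hker]
    exact (MulAut.conj g).injective
  · rw [← Subgroup.map_map]
    have := congrArg (fun P : Sylow p (PSL₂ F) => (P : Subgroup (PSL₂ F))) hg
    simp only [LocalEven61.sylow_smul_coe, Sylow.coe_mapSurjective, LocalEven61.coe_upperSylow] at this
    exact this

set_option maxHeartbeats 1000000 in
theorem exists_amb (h : PUSetup S K F n)
    (hd : ∀ T : Subgroup ↥(S : Subgroup G), T ≠ ⊥ → T.Characteristic →
      ¬ (T.map (S : Subgroup G).subtype).Normal) :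
    ∃ A : Amb (Equiv.Perm G) F p, A.G = (⊤ : Subgroup G).map (regHom G) ∧
      A.S = (S : Subgroup G).map (regHom G) ∧ A.Q = (Cfsg.pCore p G).map (regHom G) := by
  classical
  obtain ⟨π, hπ, hker, hSmap⟩ := exists_normalized_proj h
  obtain ⟨hSK, hQK⟩ := h.inf_ker_eq
  set Q := Cfsg.pCore p G
  set q := p ^ n with hq
  have hqF : Nat.card F = q := by rw [Nat.card_eq_fintype_card, h.card_field]
  have hQS : Q ≤ (S : Subgroup G) := Thompson.pCore_le_sylow S
  set ι := regHom G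
  have hι : Function.Injective ι := regHom_injective G
  have hpos : ∀ A B : Subgroup G, 0 < A.relIndex B := fun A B =>
    Nat.pos_of_ne_zero (A.subgroupOf B).index_ne_zero_of_finite
  have hmul : ∀ A B : Subgroup G, A ≤ B → Nat.card ↥A * A.relIndex B = Nat.card ↥B := fun A B hAB => by
    rw [← Subgroup.relIndex_bot_left, ← Subgroup.relIndex_bot_left,
      Subgroup.relIndex_mul_relIndex _ _ _ bot_le hAB]
  -- characteristic subgroups
  have hchar : ∀ T : Subgroup G, T ≤ (S : Subgroup G) → T.Normal →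
      (∀ φ : ↥(S : Subgroup G) ≃* ↥(S : Subgroup G), ∀ x : ↥(S : Subgroup G),
        (x : G) ∈ T → ((φ x : ↥(S : Subgroup G)) : G) ∈ T) → T = ⊥ := by
    intro T hT hTn hinv
    by_contra hne
    refine hd (T.subgroupOf S) ?_ ?_ ?_
    · rw [ne_eq, Subgroup.subgroupOf_eq_bot, disjoint_iff, inf_eq_left.2 hT]
      exact hne
    · exact Subgroup.characteristic_iff_le_comap.2 fun φ x hx => hinv φ x hx
    · rw [Subgroup.map_subgroupOf_eq_of_le hT]
      exact hTn
  have hSne : (S : Subgroup G) ≠ ⊥ := by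
    intro h0
    have h1 := LocalEven61.psl_sylow_card (S.mapSurjective hπ)
    rw [Sylow.coe_mapSurjective, h0, Subgroup.map_bot, Subgroup.card_bot, h.card_field] at h1
    have := Nat.one_lt_pow (Nat.one_le_iff_ne_zero.1 h.one_le) (Fact.out : p.Prime).one_lt
    omega
  set Z := omegaCenter S
  set V := Subgroup.normalClosure (Z : Set G)
  have hZS : Z ≤ (S : Subgroup G) := fun x hx => hx.1
  have hZQ : Z ≤ Q := fun x hx => h.charP_cond
    (Subgroup.mem_centralizer_iff.2 fun y hy => hx.2.2 y (hQS hy))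
  have hVQ : V ≤ Q := Subgroup.normalClosure_le_normal hZQ
  have hVC : V ≤ Subgroup.centralizer (Q : Set G) := Subgroup.normalClosure_le_normal fun x hx =>
    Subgroup.mem_centralizer_iff.2 fun y hy => hx.2.2 y (hQS hy)
  have hVab : IsMulCommutative ↥V := Subgroup.le_centralizer_iff_isMulCommutative.1
    (hVC.trans (Subgroup.centralizer_le (fun y hy => hVQ hy)))
  have hVexp : ∀ v ∈ V, v ^ p = 1 := by
    have : V ≤ Subgroup.closure (Group.conjugatesOfSet (Z : Set G)) := le_rfl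
    intro v hv
    induction hv using Subgroup.closure_induction with
    | mem x hx =>
      obtain ⟨z, hz, hzx⟩ := Group.mem_conjugatesOfSet_iff.1 hx
      obtain ⟨c, rfl⟩ := isConj_iff.1 hzx
      rw [conj_pow, (hz : z ∈ Z).2.1, mul_one, mul_inv_cancel]
    | one => exact one_pow p
    | mul x y hx hy ihx ihy =>
      rw [(show Commute x y from congrArg Subtype.val
        (hVab.is_comm.comm ⟨x, hx⟩ ⟨y, hy⟩)).mul_pow, ihx, ihy, one_mul]
    | inv x _ ih => rw [inv_pow, ih, inv_one]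
  have hVelem : Cfsg.IsElementaryAbelian p V := ⟨hVab, hVexp⟩
  have hZV : Z ≤ V := Subgroup.le_normalClosure
  have hVcS : V ⊓ Subgroup.centralizer ((S : Subgroup G) : Set G) = Z := by
    refine le_antisymm (fun x hx => ⟨hQS (hVQ hx.1), hVexp x hx.1,
      fun s hs => Subgroup.mem_centralizer_iff.1 hx.2 s hs⟩) fun x hx => ⟨hZV hx, ?_⟩
    exact Subgroup.mem_centralizer_iff.2 fun s hs => hx.2.2 s hs
  have hne : ¬ V ⊓ Subgroup.centralizer ((S : Subgroup G) : Set G) ≤ Subgroup.center G := by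
    rw [hVcS]
    intro hc
    refine omegaCenter_ne_bot hSne (hchar Z hZS ⟨fun x hx g => ?_⟩ fun φ x hx =>
      ⟨(φ x).2, ?_, fun s hs => ?_⟩)
    · rwa [Subgroup.mem_center_iff.1 (hc hx) g, mul_inv_cancel_right]
    · have : x ^ p = 1 := Subtype.ext hx.2.1
      have e := map_pow φ x p
      rw [this, map_one] at e
      simpa using (congrArg Subtype.val e).symm
    · have hc' : φ.symm ⟨s, hs⟩ * x = x * φ.symm ⟨s, hs⟩ :=
        Subtype.ext (hx.2.2 _ (φ.symm ⟨s, hs⟩).2)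
      have := congrArg φ hc'
      rw [map_mul, map_mul, φ.apply_symm_apply] at this
      exact congrArg Subtype.val this
  obtain ⟨hq1, hq2⟩ := h.relIndex_bound (S.2.to_le (hVQ.trans hQS)) hne
  -- a large elementary abelian subgroup outside `Q`
  obtain ⟨A, hA, hAQ⟩ : ∃ A, Thompson.IsMaxEAIn p A (S : Subgroup G) ∧ ¬ A ≤ Q := by
    by_contra! hall
    have hJQ : Cfsg.thompsonSubgroupOf p (S : Subgroup G) ≤ Q := by
      rw [Thompson.thompsonSubgroupOf_eq]; exact sSup_le hall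
    have hJn : (Cfsg.thompsonSubgroupOf p Q).Normal := by
      have h1 := Thompson.normalizer_le_normalizer_thompsonSubgroupOf (p := p) Q
      rw [Subgroup.normalizer_eq_top] at h1
      exact Subgroup.normalizer_eq_top_iff.1 (top_le_iff.1 h1)
    rw [Thompson.thompsonSubgroupOf_eq_of_le hQS hJQ] at hJn
    refine hd _ ?_ Thompson.instThompsonCharacteristic hJn
    refine Thompson.thompsonSubgroup_ne_bot ?_
    obtain ⟨k, hk⟩ := S.2.exists_card_eq
    rcases Nat.eq_zero_or_pos k with h0 | h0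
    · rw [h0, pow_zero] at hk
      exact absurd (Subgroup.eq_bot_of_card_eq _ hk) hSne
    · exact hk ▸ dvd_pow_self p h0.ne'
  obtain ⟨a, ha, haQ⟩ := SetLike.not_le_iff_exists.1 hAQ
  have hAc : ∀ x ∈ A, ∀ y ∈ A, x * y = y * x := fun x hx y hy =>
    Thompson.elemAb_comm hA.2.1.1 hx hy
  obtain ⟨hc1, hc2⟩ := h.card_inf hA.1
  have hge : q ≤ (A ⊓ V).relIndex V := (hq1 a (hA.1 ha) haQ).trans (Nat.le_of_dvd (hpos _ _)
    (Subgroup.relIndex_dvd_of_le_left V fun x hx =>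
      ⟨hx.2, Subgroup.mem_centralizer_singleton_iff.2 (hAc x hx.1 a ha)⟩))
  have hVn : V.Normal := Subgroup.normalClosure_normal
  have hBcard : Nat.card ↥(A ⊓ Q) * (A ⊓ V).relIndex V ≤ Nat.card ↥A := by
    have he : Cfsg.IsElementaryAbelian p (A ⊓ Q ⊔ V : Subgroup G) :=
      Thompson.isElementaryAbelian_sup (Thompson.isElementaryAbelian_of_le hA.2.1 inf_le_left)
        hVelem (Subgroup.le_centralizer_iff.1 (hVC.trans
          (Subgroup.centralizer_le (fun y hy => (hy : y ∈ A ⊓ Q).2))))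
    refine le_trans (le_of_eq ?_) (hA.2.2 _ (sup_le (inf_le_left.trans hA.1) (hVQ.trans hQS)) he)
    have e1 : (A ⊓ V).relIndex V = (A ⊓ Q).relIndex V := by
      rw [Subgroup.inf_relIndex_right, ← Subgroup.inf_relIndex_right (A ⊓ Q), inf_assoc,
        inf_eq_right.2 hVQ, Subgroup.inf_relIndex_right]
    rw [e1, ← LocalEven61.relIndex_sup_normal_left, sup_comm V]
    exact hmul _ _ le_sup_left
  have heqA : Nat.card ↥A = Nat.card ↥(A ⊓ Q) * q :=
    le_antisymm hc1 ((Nat.mul_le_mul_left _ hge).trans hBcard)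
  have hAVq : (A ⊓ V).relIndex V = q := le_antisymm
    (Nat.le_of_mul_le_mul_left (hBcard.trans heqA.le) Nat.card_pos) hge
  have hAQS := hc2 heqA
  have hdec : ∀ s ∈ (S : Subgroup G), ∃ b ∈ A, ∃ x ∈ Q, s = b * x := fun s hs => by
    rw [← hAQS] at hs
    haveI : Q.Normal := inferInstance
    obtain ⟨b, hb, x, hx, e⟩ := (Subgroup.mem_sup_of_normal_right (s := A) (t := Q)).1 hs
    exact ⟨b, hb, x, hx, e.symm⟩
  have hAV : A ⊓ V = Z := by
    refine le_antisymm ?_ ?_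
    · intro v hv
      refine ⟨hQS (hVQ hv.2), hVexp v hv.2, fun s hs => ?_⟩
      obtain ⟨b, hb, x, hx, rfl⟩ := hdec s hs
      rw [mul_assoc, Subgroup.mem_centralizer_iff.1 (hVC hv.2) x hx, ← mul_assoc, hAc b hb v hv.1,
        mul_assoc]
    · intro v hv
      refine ⟨?_, hZV hv⟩
      exact Thompson.mem_of_centralizes_max (G := ↥(S : Subgroup G)) hA.subgroupOf_mem
        (x := ⟨v, hv.1⟩) (Subgroup.mem_centralizer_iff.2 fun y hy => Subtype.ext
          (hv.2.2 _ y.2)) (Subtype.ext hv.2.1)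
  rw [hAV] at hAVq
  have hfix : ∀ t ∈ (S : Subgroup G), t ∉ Q → ∀ v ∈ V, t * v = v * t → v ∈ Z := by
    intro t ht htQ v hv hc
    obtain ⟨b, hb, x, hx, rfl⟩ := hdec t ht
    have hbQ : b ∉ Q := fun hbQ => htQ (Q.mul_mem hbQ hx)
    have hvb : v ∈ V ⊓ Subgroup.centralizer ({b} : Set G) := by
      refine ⟨hv, Subgroup.mem_centralizer_singleton_iff.2 ?_⟩
      rw [mul_assoc, Subgroup.mem_centralizer_iff.1 (hVC hv) x hx, ← mul_assoc, ← mul_assoc] at hc
      exact (mul_right_cancel hc).symm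
    have hle : Z ≤ V ⊓ Subgroup.centralizer ({b} : Set G) := fun z hz =>
      ⟨hZV hz, Subgroup.mem_centralizer_singleton_iff.2 (hz.2.2 b (hA.1 hb)).symm⟩
    have heq : Z = V ⊓ Subgroup.centralizer ({b} : Set G) := by
      refine Subgroup.eq_of_le_of_card_ge hle ?_
      have h1 := hmul _ _ (inf_le_left : V ⊓ Subgroup.centralizer ({b} : Set G) ≤ V)
      rw [← hmul Z V hZV, hAVq] at h1
      have h2 := hq1 b (hA.1 hb) hbQ
      exact Nat.le_of_mul_le_mul_right ((Nat.mul_le_mul_left _ h2).trans h1.le) (pow_pos (Fact.out : p.Prime).pos n)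
    exact heq ▸ hvb
  have hScard : Nat.card ↥(S : Subgroup G) = Nat.card ↥Q * q := by
    obtain ⟨h1, -⟩ := h.card_inf (le_refl (S : Subgroup G))
    rw [inf_eq_right.2 hQS] at h1
    refine le_antisymm h1 ?_
    have e1 := hmul _ _ (inf_le_left : A ⊓ Q ≤ A)
    rw [heqA] at e1
    have e2 : (A ⊓ Q).relIndex A ≤ Q.relIndex (S : Subgroup G) := by
      rw [Subgroup.inf_relIndex_left]
      exact Subgroup.relIndex_le_of_le_right hA.1 (hpos _ _).ne'
    rw [Nat.eq_of_mul_eq_mul_left Nat.card_pos e1, ← hmul Q _ hQS] at *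
    exact Nat.mul_le_mul_left _ e2
  -- generation
  have hgen : ∀ g : G, ¬ InBorel π g →
      (S : Subgroup G) ⊔ (S : Subgroup G).map (MulAut.conj g).toMonoidHom = ⊤ := fun g hg =>
    h.sup_conj_eq_top hπ hker fun he => hg (inBorel_of_normalizes (by
      have h1 := congrArg (fun P : Sylow p (PSL₂ F) => (P : Subgroup (PSL₂ F))) he
      simp only [LocalEven61.sylow_smul_coe, Sylow.coe_mapSurjective, hSmap] at h1
      exact h1.le ⟨_, ⟨upper 1, ⟨Multiplicative.ofAdd 1, rfl⟩, rfl⟩, rfl⟩))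
  set C := V ⊓ Subgroup.center G
  have hCZ : C ≤ Z := fun c hc => hVcS.le ⟨hc.1, Subgroup.center_le_centralizer _ hc.2⟩
  have hti : ∀ g : G, ¬ InBorel π g → ∀ x ∈ Z, g * x * g⁻¹ ∈ Z → x ∈ C := by
    intro g hg x hx hgx
    have hc : g * x * g⁻¹ ∈ Subgroup.center G := by
      refine LocalEven61.mem_center_of_sup_eq_top (hgen g hg) (fun s hs => hgx.2.2 s hs) ?_
      rintro _ ⟨s, hs, rfl⟩
      show g * s * g⁻¹ * (g * x * g⁻¹) = g * x * g⁻¹ * (g * s * g⁻¹)
      calc g * s * g⁻¹ * (g * x * g⁻¹) = g * (s * x) * g⁻¹ := by group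
        _ = g * (x * s) * g⁻¹ := by rw [hx.2.2 s hs]
        _ = g * x * g⁻¹ * (g * s * g⁻¹) := by group
    refine ⟨hZV hx, ?_⟩
    have := (inferInstance : (Subgroup.center G).Normal).conj_mem _ hc g⁻¹
    rwa [show g⁻¹ * (g * x * g⁻¹) * g⁻¹⁻¹ = x by group] at this
  obtain ⟨w, hw⟩ := hπ (pslMap weyl)
  have hwB : ¬ InBorel π w := by rw [inBorel_iff hw.symm]; simp [weyl]
  have hCq : C.relIndex V = q * q := by
    refine le_antisymm ?_ hq2
    have hle : Z ⊓ Z.map (MulAut.conj w).toMonoidHom ≤ C := by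
      rintro _ ⟨h1, y, hy, rfl⟩
      have hyC : y ∈ C := hti w hwB y hy h1
      show w * y * w⁻¹ ∈ C
      rwa [Subgroup.mem_center_iff.1 hyC.2 w, mul_inv_cancel_right]
    refine (Nat.le_of_dvd (hpos _ _) (Subgroup.relIndex_dvd_of_le_left V hle)).trans
      (Subgroup.relIndex_inf_le.trans (le_of_eq ?_))
    have hVw : V.map (MulAut.conj w).toMonoidHom = V :=
      LocalEven61.map_conj_of_mem_normalizer' (Subgroup.normalizer_eq_top V ▸ Subgroup.mem_top w)
    rw [show (Z.map (MulAut.conj w).toMonoidHom).relIndex V = Z.relIndex V by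
      conv_lhs => arg 2; rw [← hVw]
      exact Subgroup.relIndex_map_map_of_injective _ _ (MulAut.conj w).injective, hAVq]
  have hCZq : C.relIndex Z = q := by
    have h1 := Subgroup.relIndex_mul_relIndex C Z V hCZ hZV
    rw [hAVq, hCq] at h1
    exact Nat.eq_of_mul_eq_mul_right (pow_pos (Fact.out : p.Prime).pos n) h1
  -- transport to `Perm G`
  set G₀ := (⊤ : Subgroup G).map ι
  set S₀ := (S : Subgroup G).map ι
  let e : G ≃* ↥G₀ := (Subgroup.topEquiv.symm).trans ((⊤ : Subgroup G).equivMapOfInjective ι hι)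
  have he : ∀ g : G, ((e g : ↥G₀) : Equiv.Perm G) = ι g := fun g => rfl
  let π₀ : ↥G₀ →* PSL₂ F := π.comp e.symm.toMonoidHom
  have hπ₀ : ∀ g, π₀ (e g) = π g := fun g => congrArg π (e.symm_apply_apply g)
  have hmemι : ∀ (X : Subgroup G) (g : G), ι g ∈ X.map ι ↔ g ∈ X := fun X g =>
    Subgroup.mem_map_iff_mem hι
  have hnorm : ∀ X : Subgroup G, X.Normal → G₀ ≤ Subgroup.normalizer (X.map ι : Set (Equiv.Perm G)) := by
    intro X hX
    refine le_trans ?_ (Subgroup.le_normalizer_map ι)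
    rw [Subgroup.normalizer_eq_top]
  have hmap_le : ∀ X : Subgroup G, X.map ι ≤ G₀ := fun X => Subgroup.map_mono le_top
  have hB₀ : ∀ g : G, InBorel π₀ (e g) ↔ InBorel π g := fun g => by simp only [InBorel, hπ₀]
  have hgen₀ : ∀ g : ↥G₀, ¬ InBorel π₀ g → S₀ ⊔ cj (g : Equiv.Perm G) S₀ = G₀ := by
    intro g hg
    obtain ⟨g, rfl⟩ := e.surjective g
    rw [hB₀] at hg
    have h1 := congrArg (Subgroup.map ι) (hgen g hg)
    rw [Subgroup.map_sup, Subgroup.map_map, show ι.comp (MulAut.conj g).toMonoidHom =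
      (MulAut.conj (ι g)).toMonoidHom.comp ι by ext x; simp, ← Subgroup.map_map] at h1
    exact h1
  have hmap : ∀ τ, ∃ s : ↥G₀, (s : Equiv.Perm G) ∈ S₀ ∧ π₀ s = pslMap (upper τ) := fun τ => by
    obtain ⟨s, hs, hsτ⟩ := hSmap.ge ⟨upper τ, ⟨Multiplicative.ofAdd τ, rfl⟩, rfl⟩
    exact ⟨e s, (hmemι _ s).2 hs, (hπ₀ s).trans hsτ⟩
  have hmap' : ∀ s : ↥G₀, (s : Equiv.Perm G) ∈ S₀ → ∃ τ, π₀ s = pslMap (upper τ) := by
    intro s hs
    obtain ⟨s, rfl⟩ := e.surjective s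
    obtain ⟨u, ⟨τ, rfl⟩, hu⟩ := hSmap.le (Subgroup.mem_map_of_mem π ((hmemι _ s).1 hs))
    exact ⟨τ.toAdd, by rw [hπ₀]; exact hu.symm⟩
  have hcard : ∀ X : Subgroup G, Nat.card ↥(X.map ι) = Nat.card ↥X := fun X =>
    Subgroup.card_map_of_injective hι
  have hQπ : ∀ x ∈ Q, π x = 1 := fun x hx => by rw [← MonoidHom.mem_ker, hker]; exact hQK hx
  have hSπ : ∀ s ∈ (S : Subgroup G), π s = 1 → s ∈ Q := fun s hs h1 =>
    hSK.le ⟨hs, by rw [← hker]; exact h1⟩
  have hcardZ : Nat.card ↥Z = Nat.card ↥C * q := by rw [← hCZq, hmul C Z hCZ]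
  have hcardV : Nat.card ↥V = Nat.card ↥Z * q := by rw [← hAVq, hmul Z V hZV]
  obtain ⟨nat⟩ := exists_sectNat (p := p) (G := G₀) (S := S₀) (X := V.map ι) (Y := C.map ι)
    (L := Z.map ι) (π := π₀) (hπ.comp e.symm.surjective) (hmap_le _) (S.2.map ι) hmap hmap'
    (Subgroup.map_mono hCZ) (Subgroup.map_mono hZV) (hmap_le _) (hnorm V hVn)
    (hnorm C inferInstance)
    (by
      rintro _ ⟨x, hx, rfl⟩ _ ⟨y, hy, rfl⟩
      rw [← map_commutatorElement, commutatorElement_eq_one_iff_mul_comm.2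
        (Thompson.elemAb_comm hVab hx hy), map_one]
      exact one_mem _)
    (by rw [hcard, hcard, hqF, hcardV]) (by rw [hcard, hcard, hqF, hcardZ])
    (by
      rintro _ ⟨s, hs, rfl⟩ _ ⟨x, hx, rfl⟩
      rw [← map_commutatorElement, commutatorElement_eq_one_iff_mul_comm.2 (hx.2.2 s hs), map_one]
      exact one_mem _)
    (by
      intro g hg x' hx' hgx
      obtain ⟨g, rfl⟩ := e.surjective g
      obtain ⟨x, hx, rfl⟩ := hx'
      rw [he, ← map_inv, ← map_mul, ← map_mul, hmemι] at hgx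
      exact (hmemι _ x).2 (hti g (fun hb => hg ((hB₀ g).2 hb)) x hx hgx))
    hgen₀
  have hGel : ∀ g ∈ G₀, ∃ x : G, ι x = g := fun g hg => ⟨hg.choose, hg.choose_spec.2⟩
  have hcomap : ∀ X : Subgroup (Equiv.Perm G), X ≤ G₀ →
      G₀ ≤ Subgroup.normalizer (X : Set (Equiv.Perm G)) →
        (X.comap ι).Normal ∧ (X.comap ι).map ι = X := by
    intro X hX hXn
    refine ⟨⟨fun x hx g => ?_⟩, ?_⟩
    · rw [Subgroup.mem_comap, map_mul, map_mul, map_inv]
      exact ((Subgroup.mem_normalizer_iff.1 (hXn ⟨g, trivial, rfl⟩)) _).1 hx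
    · refine le_antisymm (Subgroup.map_comap_le _ _) fun x hx => ?_
      obtain ⟨a, rfl⟩ := hGel x (hX hx)
      exact ⟨a, hx, rfl⟩
  refine ⟨{ G := G₀, S := S₀, Q := Q.map ι, V := V.map ι, Om := Z.map ι, C := C.map ι,
            proj := π₀, nat := nat, proj_surj := hπ.comp e.symm.surjective, S_le := hmap_le _,
            S_pgroup := S.2.map ι, Q_le := Subgroup.map_mono hQS, V_le := Subgroup.map_mono hVQ,
            Om_le := Subgroup.map_mono hZV, C_le := Subgroup.map_mono hCZ,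
            normQ := hnorm Q inferInstance, normV := hnorm V hVn, normOm := ?_, centC := ?_,
            mem_C := ?_, charP_cond := ?_, V_elem := Thompson.isElementaryAbelian_map ι hVelem,
            V_Q := ?_, S_cent := ?_, Om_S := ?_, fix := ?_, cardS := ?_, cardV := ?_,
            cardOm := ?_, map_mem := hmap, map_S := hmap', proj_Q := ?_, mem_Q := ?_,
            gen := hgen₀, top := ?_, pCore := ?_, bound := ?_, hd := ?_ }, rfl, rfl, rfl⟩
  · -- normOm
    intro σ hσ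
    rw [Subgroup.mem_normalizer_iff]
    have key : ∀ τ ∈ Subgroup.normalizer (S₀ : Set (Equiv.Perm G)), ∀ x ∈ Z.map ι,
        τ * x * τ⁻¹ ∈ Z.map ι := by
      rintro τ hτ _ ⟨x, hx, rfl⟩
      obtain ⟨y, hy, hyx⟩ := ((Subgroup.mem_normalizer_iff.1 hτ) (ι x)).1 ⟨x, hx.1, rfl⟩
      refine ⟨y, ⟨hy, hι ?_, fun s hs => hι ?_⟩, hyx⟩
      · rw [map_pow, hyx, conj_pow, ← map_pow, hx.2.1, map_one, mul_one, mul_inv_cancel]
      · obtain ⟨s', hs', hs'x⟩ :=
          ((Subgroup.mem_normalizer_iff.1 (inv_mem hτ)) (ι s)).1 ⟨s, hs, rfl⟩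
        have hs'' : ι s = τ * ι s' * τ⁻¹ := by rw [hs'x]; group
        rw [map_mul, map_mul, hyx, hs'']
        calc τ * ι s' * τ⁻¹ * (τ * ι x * τ⁻¹) = τ * ι (s' * x) * τ⁻¹ := by rw [map_mul]; group
          _ = τ * ι (x * s') * τ⁻¹ := by rw [hx.2.2 s' hs']
          _ = τ * ι x * τ⁻¹ * (τ * ι s' * τ⁻¹) := by rw [map_mul]; group
    intro x
    refine ⟨key σ hσ x, fun hx => ?_⟩
    simpa [mul_assoc] using key σ⁻¹ (inv_mem hσ) _ hx
  · rintro _ ⟨g, -, rfl⟩ _ ⟨c, hc, rfl⟩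
    rw [← map_mul, Subgroup.mem_center_iff.1 hc.2 g, map_mul]
  · rintro _ ⟨v, hv, rfl⟩ hcomm
    exact ⟨v, ⟨hv, Subgroup.mem_center_iff.2 fun g => hι (by
      rw [map_mul, map_mul, hcomm _ ⟨g, trivial, rfl⟩])⟩, rfl⟩
  · rintro _ ⟨g, -, rfl⟩ hg
    refine (hmemι _ g).2 (h.charP_cond (Subgroup.mem_centralizer_iff.2 fun y hy => hι ?_))
    rw [map_mul, map_mul, hg _ ⟨y, hy, rfl⟩]
  · rintro _ ⟨x, hx, rfl⟩ _ ⟨v, hv, rfl⟩
    rw [← map_mul, Subgroup.mem_centralizer_iff.1 (hVC hv) x hx, map_mul]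
  · rintro _ ⟨s, hs, rfl⟩ hcomm
    refine (hmemι _ s).2 (h.le_pCore_of_centralizes hne ⟨hs, Subgroup.mem_centralizer_iff.2 ?_⟩)
    intro v hv
    exact hι (by rw [map_mul, map_mul, hcomm _ ⟨v, hv, rfl⟩])
  · rintro _ ⟨s, hs, rfl⟩ _ ⟨v, hv, rfl⟩
    rw [← map_mul, hv.2.2 s hs, map_mul]
  · rintro _ ⟨t, ht, rfl⟩ htQ _ ⟨v, hv, rfl⟩ hc
    exact ⟨v, hfix t ht (fun h1 => htQ ⟨t, h1, rfl⟩) v hv (hι (by rw [map_mul, map_mul, hc])), rfl⟩
  · rw [hcard, hcard, hqF, hScard]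
  · rw [hcard, hcard, hqF, hcardV]
  · rw [hcard, hcard, hqF, hcardZ]
  · intro g hg
    obtain ⟨g, rfl⟩ := e.surjective g
    rw [hπ₀, hQπ g ((hmemι _ g).1 hg)]
  · intro g hg h1
    obtain ⟨g, rfl⟩ := e.surjective g
    rw [hπ₀] at h1
    exact (hmemι _ g).2 (hSπ g ((hmemι _ g).1 hg) h1)
  · intro N hN hNn ht
    obtain ⟨hn, hNeq⟩ := hcomap N hN hNn
    obtain ⟨_, ⟨t, ht, rfl⟩, htQ, htN⟩ := ht
    rcases h.inf_le_or_sup_eq_top (N.comap ι) with h1 | h1
    · exact absurd ((hmemι _ t).2 (h1 ⟨ht, htN⟩)) htQ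
    · rw [← hNeq, ← Subgroup.map_sup, h1]
  · intro N hN hNn hNp
    obtain ⟨hn, hNeq⟩ := hcomap N hN hNn
    rw [← hNeq]
    exact Subgroup.map_mono (Thompson.le_pCore hn (hNp.comap_of_injective ι hι))
  · intro X Y hX hY hYX hXQ hC t ht htQ Z' hZ'X hZ'
    have hXG : X ≤ G₀ := hXQ.trans (hmap_le _)
    obtain ⟨hXn, hXeq⟩ := hcomap X hXG hX
    obtain ⟨hYn, hYeq⟩ := hcomap Y (hYX.trans hXG) hY
    obtain ⟨t, ht, rfl⟩ := ht
    have hcomm : ∀ a b : G, ⁅a, b⁆ ∈ Y.comap ι ↔ ⁅ι a, ι b⁆ ∈ Y := fun a b => by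
      rw [Subgroup.mem_comap, map_commutatorElement]
    have hb := section_bound (S := S) π hπ h.one_le h.card_field hQS hQπ hSπ
      (X := X.comap ι) (Y := Y.comap ι) (Subgroup.comap_mono hYX)
      (fun x hx => (hmemι _ x).1 (hXQ hx))
      (fun s hs hsQ => by
        obtain ⟨x, hx, hxs⟩ := hC (ι s) ⟨s, hs, rfl⟩ (fun h1 => hsQ ((hmemι _ s).1 h1))
        obtain ⟨x, rfl⟩ := hGel x (hXG hx)
        exact ⟨x, hx, fun h1 => hxs ((hcomm x s).1 h1)⟩)
      ht (fun h1 => htQ ⟨t, h1, rfl⟩) (Z := Z'.comap ι) (Subgroup.comap_mono hZ'X)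
      (fun z hz => (hcomm z t).2 (hZ' _ hz))
    have hZeq : (Z'.comap ι).map ι = Z' := le_antisymm (Subgroup.map_comap_le _ _) fun x hx => by
      obtain ⟨a, rfl⟩ := hGel x (hXG (hZ'X hx))
      exact ⟨a, hx, rfl⟩
    rw [← hcard, ← hcard, hZeq, hXeq, ← hq, ← hqF] at hb
    exact hb
  · intro T hTS hTN hTG
    obtain ⟨hTn, hTeq⟩ := hcomap T (hTS.trans (hmap_le _)) hTG
    rw [← hTeq, hchar (T.comap ι) (fun x hx => (hmemι _ x).1 (hTS hx)) hTn ?_, Subgroup.map_bot]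
    intro φ x hx
    obtain ⟨σ, hσ, hσφ⟩ := exists_normalizer_extension (S : Subgroup G) φ
    rw [Subgroup.mem_comap, ← hσφ]
    exact ((Subgroup.mem_normalizer_iff.1 (hTN hσ)) _).1 hx

end Cfsg.Agent.PushUp62
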