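import Cfsg.Agent.PushUp62.Common

/-!
The configuration around a critical path of length two.
-/

set_option autoImplicit false
set_option linter.unusedSectionVars false
set_option linter.unusedVariables false
set_option linter.style.haveILetI false

namespace Cfsg.Agent.PushUp62

open scoped commutatorElement

namespace Amb

variable {H : Type*} [Group H] [Finite H] {F : Type} [Field F] [Fintype F] {p : ℕ} [Fact p.Prime]
  [CharP F p] (A : Amb H F p)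

/-- A path of length four made of two overlapping critical paths. -/
structure Cfg (z f x e u g y : H) : Prop where
  zf : A.Inc z f
  xf : A.Inc x f
  xe : A.Inc x e
  ue : A.Inc u e
  ug : A.Inc u g
  yg : A.Inc y g
  nfe : A.Oe f ≠ A.Oe e
  neg : A.Oe e ≠ A.Oe g
  zu : ¬ A.Vv z ≤ A.Qv u
  xy : ¬ A.Vv x ≤ A.Qv y

theorem comm_Se_mem_Qv {x e : H} (hi : A.Inc x e) {a b : H} (ha : a ∈ A.Se e) (hb : b ∈ A.Se e) :
    ⁅a, b⁆ ∈ A.Qv x := by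
  obtain ⟨h, ⟨-, hQ, -, -⟩, ⟨hS, -⟩, -⟩ := A.frame hi
  rw [hS] at ha hb; rw [hQ]
  obtain ⟨a, ha', rfl⟩ := ha
  obtain ⟨b, hb', rfl⟩ := hb
  rw [← map_commutatorElement]
  exact Subgroup.mem_map_of_mem _ (A.comm_S_mem_Q ha' hb')

theorem exists_Se_not_Qv {x e : H} (hi : A.Inc x e) : ∃ t ∈ A.Se e, t ∉ A.Qv x :=
  SetLike.not_le_iff_exists.1 fun h => by
    have h1 := Subgroup.card_le_of_le h
    rw [A.card_Se x e] at h1
    have := A.one_lt_q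
    have h2 : 0 < Nat.card ↥(A.Qv x) := Nat.card_pos
    nlinarith

/-- The path through three vertices. -/
def path2 {a e₁ b e₂ c : H} (h1 : A.Inc a e₁) (h2 : A.Inc b e₁) (h3 : A.Inc b e₂) (h4 : A.Inc c e₂) :
    A.Path 2 where
  x i := match i with
    | 0 => a
    | 1 => b
    | _ => c
  e i := match i with
    | 0 => e₁
    | _ => e₂
  inc₁ i hi := match i with
    | 0 => h1
    | 1 => h3
  inc₂ i hi := match i with
    | 0 => h2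
    | 1 => h4

theorem card_inf_mul {k : ℕ} (hs : A.Short (k + 1)) (P : A.Path (k + 1)) (hc : A.Crit P)
    {X : Subgroup H} (h1 : A.Vv (P.x 0) ≤ X) (h2 : X ≤ A.Se (P.e k)) :
    Nat.card ↥X = Nat.card ↥(X ⊓ A.Qv (P.x (k + 1))) * Nat.card F := by
  set Q := A.Qv (P.x (k + 1))
  have hpos : ∀ B C : Subgroup H, B.relIndex C ≠ 0 := fun B C => Subgroup.index_ne_zero_of_finite
  have e1 := Subgroup.relIndex_mul_relIndex ⊥ Q (A.Se (P.e k)) bot_le (A.Qv_le_Se (P.inc₂ k (by omega)))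
  rw [Subgroup.relIndex_bot_left, Subgroup.relIndex_bot_left, A.card_Se (P.x (k + 1))] at e1
  have hS : Q.relIndex (A.Se (P.e k)) = Nat.card F := Nat.eq_of_mul_eq_mul_left Nat.card_pos e1
  have e2 := Subgroup.relIndex_mul_relIndex ⊥ (A.Vv (P.x 0) ⊓ Q) (A.Vv (P.x 0)) bot_le inf_le_left
  rw [Subgroup.relIndex_bot_left, Subgroup.relIndex_bot_left, Subgroup.inf_relIndex_left,
    A.inf_eq hs P hc, A.card_Vv (P.x 0) (P.e 0)] at e2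
  have hV : Q.relIndex (A.Vv (P.x 0)) = Nat.card F := Nat.eq_of_mul_eq_mul_left Nat.card_pos e2
  have hX : Q.relIndex X = Nat.card F := le_antisymm
    (hS ▸ Subgroup.relIndex_le_of_le_right h2 (hpos _ _))
    (hV ▸ Subgroup.relIndex_le_of_le_right h1 (hpos _ _))
  have e3 := Subgroup.relIndex_mul_relIndex ⊥ (X ⊓ Q) X bot_le inf_le_left
  rw [Subgroup.relIndex_bot_left, Subgroup.relIndex_bot_left, Subgroup.inf_relIndex_left, hX] at e3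
  exact e3.symm

variable (hs : A.Short 2)
include hs

theorem exists_cfg_base (P₀ : A.Path 2) (hc₀ : A.Crit P₀) : ∃ z f x e u g y, A.Cfg z f x e u g y ∧
    A.Gv x = A.G ∧ A.Qv x = A.Q ∧ A.Vv x = A.V ∧ A.Cv x = A.C ∧ A.Se e = A.S ∧ A.Oe e = A.Om := by
  obtain ⟨P₁, hc₁, hp₁⟩ := A.exists_proper (k := 0) hs P₀ hc₀
  obtain ⟨h, hG, hQ, hV, hC, hS, hO⟩ := A.translate P₁
  set P := P₁.smul h
  have hc : A.Crit P := fun h1 => hc₁ (by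
    have := cj_mono h⁻¹ h1
    simp only [P, Path.smul, Vv, Qv, ← cj_mul, inv_mul_cancel_left] at this
    exact this)
  have hne : A.Oe (P.e 0) ≠ A.Oe (P.e 1) := fun h1 => hp₁ 0 Nat.one_lt_two (by
    simp only [P, Path.smul, Oe, cj_mul] at h1
    exact cj_injective h h1)
  obtain ⟨z, f, hf, hz, hfne, hzQ⟩ := A.exists_z (k := 0) hs P hc
  exact ⟨z, f, P.x 0, P.e 0, P.x 1, P.e 1, P.x 2,
    ⟨hz, hf, P.inc₁ 0 two_pos, P.inc₂ 0 two_pos, P.inc₁ 1 one_lt_two, P.inc₂ 1 one_lt_two,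
      hfne, hne, hzQ, hc⟩, hG, hQ, hV, hC, hS, hO⟩

namespace Cfg

variable {A} {z f x e u g y : H} (c : A.Cfg z f x e u g y)
include c

omit hs in
/-- The path `z, x, u`. -/
def left : A.Path 2 := A.path2 c.zf c.xf c.xe c.ue

omit hs in
/-- The path `x, u, y`. -/
def right : A.Path 2 := A.path2 c.xe c.ue c.ug c.yg

omit hs in
theorem crit_left : A.Crit c.left := c.zu

omit hs in
theorem crit_right : A.Crit c.right := c.xy

theorem not_uz : ¬ A.Vv u ≤ A.Qv z := A.crit_rev hs c.left c.crit_left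

theorem not_yx : ¬ A.Vv y ≤ A.Qv x := A.crit_rev hs c.right c.crit_right

theorem symm : A.Cfg y g u e x f z :=
  ⟨c.yg, c.ug, c.ue, c.xe, c.xf, c.zf, c.neg.symm, c.nfe.symm, c.not_yx hs, c.not_uz hs⟩

theorem exists_rot : ∃ g' w, A.Cfg u e x f z g' w := by
  obtain ⟨z', f', hf', hz', hne', hQ'⟩ := A.exists_z (k := 0) hs c.left c.crit_left
  exact ⟨f', z', ⟨c.ue, c.xe, c.xf, c.zf, hf', hz', c.nfe.symm, hne'.symm, c.not_uz hs,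
    A.crit_rev hs _ (A.crit_lshift c.left hf' hz' hQ')⟩⟩

theorem R0_le_Cx : ⁅A.Vv z, A.Vv u⁆ ≤ A.Cv x :=
  A.R_le_C_one (k := 0) hs c.left c.crit_left c.nfe

theorem R0_le_Oe : ⁅A.Vv z, A.Vv u⁆ ≤ A.Oe e := (c.R0_le_Cx hs).trans (A.Cv_le_Oe c.xe)

theorem R1_le_Oe : ⁅A.Vv x, A.Vv y⁆ ≤ A.Oe e := A.R_le hs c.right c.crit_right

theorem Vz_le_Qx : A.Vv z ≤ A.Qv x := A.neighbour hs c.xf c.zf

theorem Vy_le_Se : A.Vv y ≤ A.Se e := A.Vv_le_Se_first hs c.right c.crit_right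

theorem Vx_le_Qu : A.Vv x ≤ A.Qv u := A.neighbour hs c.ue c.xe

theorem Vu_le_Qx : A.Vv u ≤ A.Qv x := A.neighbour hs c.xe c.ue

theorem decomp_S {s : H} (h : s ∈ A.Se e) : ∃ w ∈ A.Vv y, ∃ q ∈ A.Qv x, s = w * q :=
  A.decomp_first hs c.right c.crit_right h

theorem decomp_Q {q : H} (h : q ∈ A.Qv x) :
    ∃ v ∈ A.Vv z, ∃ d ∈ A.Qv x ⊓ A.Qv u, q = v * d := by
  obtain ⟨v, hv, r, hr, e'⟩ := A.decomp hs c.left c.crit_left (s := q) (A.Qv_le_Se c.xe h)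
  refine ⟨v, hv, r, ⟨?_, hr⟩, e'⟩
  rw [show r = v⁻¹ * q by rw [e']; group]
  exact (A.Qv x).mul_mem ((A.Qv x).inv_mem (c.Vz_le_Qx hs hv)) h

theorem comm_D_Vy {d w : H} (hd : d ∈ A.Qv u) (hw : w ∈ A.Vv y) :
    ⁅d, w⁆ ∈ ⁅A.Vv x, A.Vv y⁆ := by
  obtain ⟨v, hv, r, hr, rfl⟩ : ∃ v ∈ A.Vv x, ∃ r ∈ A.Qv y, d = v * r :=
    A.decomp hs c.right c.crit_right (A.Qv_le_Se c.ug hd)
  rw [commutator_mul_left, commutatorElement_eq_one_iff_mul_comm.2 (A.V_Q_v hr hw), mul_one,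
    mul_inv_cancel, one_mul]
  exact Subgroup.commutator_mem_commutator hv hw

theorem comm_D_Vz {d v : H} (hd : d ∈ A.Qv x) (hv : v ∈ A.Vv z) :
    ⁅d, v⁆ ∈ ⁅A.Vv z, A.Vv u⁆ := by
  rw [Subgroup.commutator_comm]
  exact (c.symm hs).comm_D_Vy hs hd hv

theorem W_comm : ∀ a ∈ A.Wat x, ∀ b ∈ A.Wat x, ⁅a, b⁆ ∈ ⁅A.Vv z, A.Vv u⁆ := by
  set R := ⁅A.Vv z, A.Vv u⁆
  have hR : A.Gv x ≤ Subgroup.normalizer (R : Set H) := fun k hk =>
    mem_normalizer_of_cj_eq (A.cj_eq_of_le_Cv hk (c.R0_le_Cx hs))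
  have hWn : A.Wat x ≤ Subgroup.normalizer (R : Set H) :=
    ((A.Wat_le_Qv hs x).trans (A.Qv_le_Gv x)).trans hR
  have key : A.Wat x ≤ centMod (A.Wat x) R := iSup_le fun z₁ => by
    obtain ⟨e₁, hx₁, hz₁⟩ := z₁.2
    refine le_centMod_symm ((A.Vv_le_Wat hx₁ hz₁).trans hWn) (iSup_le fun z₂ => ?_)
    obtain ⟨e₂, hx₂, hz₂⟩ := z₂.2
    refine le_centMod_of_comm ((A.Vv_le_Wat hx₂ hz₂).trans hWn) fun a ha b hb => ?_
    by_cases h12 : A.Vv (z₂ : H) ≤ A.Qv (z₁ : H)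
    · rw [commutatorElement_eq_one_iff_mul_comm.2 (A.V_Q_v (h12 ha) hb)]
      exact R.one_mem
    · have hcan := A.canon (k := 0) hs (A.path2 hz₂ hx₂ hx₁ hz₁) h12 c.left c.crit_left c.nfe rfl
      exact hcan.le (Subgroup.commutator_mem_commutator ha hb)
  exact fun a ha b hb => (key ha).2 b hb

theorem W_le_Se : A.Wat x ≤ A.Se e := A.Wat_le_Se (k := 0) hs c.right c.crit_right

theorem WF_le_centMod : A.Wat x ⊓ A.Qv u ≤ centMod (A.Se e) (A.Vv x) := fun w hw =>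
  A.mem_centMod_of_mem_Qv (k := 0) hs c.right c.crit_right hw.1 hw.2

theorem card_W : Nat.card ↥(A.Wat x) = Nat.card ↥(A.Wat x ⊓ A.Qv u) * Nat.card F :=
  A.card_inf_mul hs c.left c.crit_left (A.Vv_le_Wat c.xf c.zf) (c.W_le_Se hs)

theorem Vu_le_WF : A.Vv u ≤ A.Wat x ⊓ A.Qv u := le_inf (A.Vv_le_Wat c.xe c.ue) (A.Vv_le_Qv u)

theorem card_WF : Nat.card ↥(A.Wat x ⊓ A.Qv u) =
    Nat.card ↥(A.Wat x ⊓ A.Qv u ⊓ A.Qv z) * Nat.card F :=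
  A.card_inf_mul hs c.left.rev (A.crit_rev hs _ c.crit_left) (c.Vu_le_WF hs)
    ((inf_le_left.trans (A.Wat_le_Qv hs x)).trans (A.Qv_le_Se c.xf))

theorem decomp_WF {w : H} (hw : w ∈ A.Wat x ⊓ A.Qv u) :
    ∃ v ∈ A.Vv u, ∃ r ∈ A.Wat x ⊓ A.Qv u ⊓ A.Qv z, w = v * r := by
  obtain ⟨v, hv, r, hr, e'⟩ : ∃ v ∈ A.Vv u, ∃ r ∈ A.Qv z, w = v * r :=
    A.decomp_first hs c.left c.crit_left (A.Qv_le_Se c.xf (A.Wat_le_Qv hs x hw.1))
  refine ⟨v, hv, r, ⟨?_, hr⟩, e'⟩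
  rw [show r = v⁻¹ * w by rw [e']; group]
  exact (A.Wat x ⊓ A.Qv u).mul_mem ((A.Wat x ⊓ A.Qv u).inv_mem (c.Vu_le_WF hs hv)) hw

theorem Vx_le_Wc : A.Vv x ≤ A.Wat x ⊓ A.Qv u ⊓ A.Qv z :=
  le_inf (le_inf (A.Vv_le_Wat c.xe c.xe) (c.Vx_le_Qu hs)) (A.neighbour hs c.zf c.xf)

theorem Wc_central : A.Wat x ⊓ A.Qv u ⊓ A.Qv z ≤ centMod (A.Gv x) (A.Vv x) := by
  obtain ⟨g', w', c'⟩ := c.exists_rot hs
  have hn : A.Gv x ≤ Subgroup.normalizer (A.Vv x : Set H) := A.Gv_le_normalizer_Vv x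
  refine le_centMod_symm ((inf_le_left.trans inf_le_left).trans
    (((A.Wat_le_Qv hs x).trans (A.Qv_le_Gv x)).trans hn)) ?_
  rw [← A.gen_v c.xe c.xf c.nfe]
  exact sup_le
    (le_centMod_symm ((A.Se_le_Gv c.xe).trans hn) (inf_le_left.trans (c.WF_le_centMod hs)))
    (le_centMod_symm ((A.Se_le_Gv c.xf).trans hn) fun w hw => c'.WF_le_centMod hs ⟨hw.1.1, hw.2⟩)

theorem Wc_normal : A.Gv x ≤ Subgroup.normalizer ((A.Wat x ⊓ A.Qv u ⊓ A.Qv z : Subgroup H) : Set H) := by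
  refine le_normalizer_of_conj fun k hk w hw => ?_
  rw [show k * w * k⁻¹ = ⁅k, w⁆ * w by rw [commutatorElement_def]; group]
  exact (A.Wat x ⊓ A.Qv u ⊓ A.Qv z).mul_mem
    (c.Vx_le_Wc hs (commutator_mem_symm ((c.Wc_central hs hw).2 k hk))) hw

theorem W_moves {s : H} (hs' : s ∈ A.Se e) (hsQ : s ∉ A.Qv x) :
    ∃ w ∈ A.Wat x, ⁅w, s⁆ ∉ A.Vv x := by
  by_contra! hall
  obtain ⟨a, ⟨hG, hQ, -, -⟩, ⟨hS, -⟩, hxa, -⟩ := A.frame c.xe
  obtain ⟨b, -, ⟨hS', -⟩, hxb, -⟩ := A.frame c.xf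
  have hk : b * a⁻¹ ∈ A.Gv x := by
    rw [Gv, mem_cj]
    have := A.G.mul_mem hxb (A.G.inv_mem hxa)
    simpa [mul_assoc] using this
  set k := b * a⁻¹
  have hks : k * s * k⁻¹ ∈ A.Se f := by
    rw [hS', mem_cj]
    rw [hS, mem_cj] at hs'
    simpa [k, mul_assoc] using hs'
  have hksQ : k * s * k⁻¹ ∉ A.Qv x := fun h => hsQ (by
    have := conj_mem_of_le_normalizer' (A.Gv_le_normalizer_Qv x) ((A.Gv x).inv_mem hk) h
    simpa [mul_assoc] using this)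
  refine A.Wedge_not_normalized c.xf (A.normalized_of_centralized c.xf (A.Gv_le_normalizer_Wat x)
    (A.Gv_le_normalizer_Vv x) hks hksQ (fun w hw => ?_) (A.Wedge_le_Wat c.xf) (A.Vv_le_Wedge c.xf)
    (Subgroup.le_normalizer.trans (A.normalizer_Se_le_normalizer_Wedge f)))
  have h1 := hall _ (conj_mem_of_le_normalizer' (A.Gv_le_normalizer_Wat x) ((A.Gv x).inv_mem hk) hw)
  have h2 := conj_mem_of_le_normalizer' (A.Gv_le_normalizer_Vv x) hk h1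
  rw [conj_commutator] at h2
  simpa [mul_assoc] using h2

/-- The fixed points of `S` on `W / V`. -/
theorem fixW {t w : H} (ht : t ∈ A.Se e) (htQ : t ∉ A.Qv x) (hw : w ∈ A.Wat x)
    (h : ⁅w, t⁆ ∈ A.Vv x) : w ∈ A.Wat x ⊓ A.Qv u :=
  A.exact_fix c.xe (A.Gv_le_normalizer_Wat x) (A.Gv_le_normalizer_Vv x) (A.Wat_le_Qv hs x)
    inf_le_left (le_inf (A.Vv_le_Wat c.xe c.xe) (c.Vx_le_Qu hs)) (c.WF_le_centMod hs) (c.card_W hs)
    (fun s h1 h2 => c.W_moves hs h1 h2) ht htQ hw h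

theorem mem_Wc {w : H} (hw : w ∈ A.Wat x ⊓ A.Qv u) (h : ∀ k ∈ A.Gv x, ⁅w, k⁆ ∈ A.Vv x) :
    w ∈ A.Wat x ⊓ A.Qv u ⊓ A.Qv z := by
  obtain ⟨g', w', c'⟩ := c.exists_rot hs
  obtain ⟨t, ht, htQ⟩ := A.exists_Se_not_Qv c.xf
  exact ⟨hw, (c'.fixW hs ht htQ hw.1 (h t (A.Se_le_Gv c.xf ht))).2⟩

theorem WF_normalized : A.Se e ≤
    Subgroup.normalizer ((A.Wat x ⊓ A.Qv u : Subgroup H) : Set H) := by
  refine le_normalizer_of_conj fun s hs' w hw => ⟨?_, ?_⟩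
  · exact conj_mem_of_le_normalizer' (A.Gv_le_normalizer_Wat x) (A.Se_le_Gv c.xe hs') hw.1
  · exact conj_mem_of_le_normalizer' (A.Gv_le_normalizer_Qv u) (A.Se_le_Gv c.ue hs') hw.2

/-- The fixed points of `S` on `W / Wc`. -/
theorem fixWc {t w : H} (ht : t ∈ A.Se e) (htQ : t ∉ A.Qv x) (hw : w ∈ A.Wat x)
    (h : ⁅w, t⁆ ∈ A.Wat x ⊓ A.Qv u ⊓ A.Qv z) : w ∈ A.Wat x ⊓ A.Qv u := by
  have hn : A.Gv x ≤ Subgroup.normalizer (A.Vv x : Set H) := A.Gv_le_normalizer_Vv x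
  have hcen : A.Wat x ⊓ A.Qv u ≤ centMod (A.Se e) (A.Wat x ⊓ A.Qv u ⊓ A.Qv z) :=
    le_centMod_of_comm (((inf_le_left.trans (A.Wat_le_Qv hs x)).trans (A.Qv_le_Gv x)).trans
      (c.Wc_normal hs)) fun a ha b hb => c.Vx_le_Wc hs ((c.WF_le_centMod hs ha).2 b hb)
  refine A.exact_fix c.xe (A.Gv_le_normalizer_Wat x) (c.Wc_normal hs) (A.Wat_le_Qv hs x)
    inf_le_left inf_le_left hcen (c.card_W hs) (fun s hs' hsQ => ?_) ht htQ hw h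
  by_contra! hall
  obtain ⟨g', w', c'⟩ := c.exists_rot hs
  have hWF : A.Gv x ≤ Subgroup.normalizer ((A.Wat x ⊓ A.Qv u : Subgroup H) : Set H) :=
    A.normalized_of_centralized c.xe (A.Gv_le_normalizer_Wat x) (c.Wc_normal hs) hs' hsQ
      (fun y hy => hall y hy) inf_le_left inf_le_left (c.WF_normalized hs)
  obtain ⟨a, -, ⟨hS, -⟩, hxa, -⟩ := A.frame c.xe
  obtain ⟨b, -, ⟨hS', -⟩, hxb, -⟩ := A.frame c.xf
  have hk : b * a⁻¹ ∈ A.Gv x := by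
    rw [Gv, mem_cj]
    have := A.G.mul_mem hxb (A.G.inv_mem hxa)
    simpa [mul_assoc] using this
  set k := b * a⁻¹
  obtain ⟨v, hv, hvQ⟩ := SetLike.not_le_iff_exists.1 (c.not_uz hs)
  obtain ⟨t', ht', ht'Q⟩ := A.exists_Se_not_Qv c.xf
  refine hvQ (c'.fixW hs ht' ht'Q (A.Vv_le_Wat c.xe c.ue hv) ?_).2
  have hk' := conj_mem_of_le_normalizer' hWF ((A.Gv x).inv_mem hk) (c.Vu_le_WF hs hv)
  have ht'' : k⁻¹ * t' * k ∈ A.Se e := by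
    rw [hS, mem_cj]
    rw [hS', mem_cj] at ht'
    simpa [k, mul_assoc] using ht'
  have h2 := conj_mem_of_le_normalizer' hn hk ((c.WF_le_centMod hs hk').2 _ ht'')
  rw [conj_commutator] at h2
  simpa [mul_assoc] using h2

theorem comm_Vz_Vy_mem {a t : H} (ha : a ∈ A.Vv z) (ht : t ∈ A.Vv y) :
    ⁅a, t⁆ ∈ A.Wat x ⊓ A.Qv u := by
  have hWa := A.Vv_le_Wat c.xf c.zf ha
  refine ⟨?_, A.comm_Se_mem_Qv c.ue (A.Qv_le_Se c.xe (c.Vz_le_Qx hs ha)) (c.Vy_le_Se hs ht)⟩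
  rw [show ⁅a, t⁆ = a * (t * a⁻¹ * t⁻¹) by rw [commutatorElement_def]; group]
  exact (A.Wat x).mul_mem hWa (conj_mem_of_le_normalizer' (A.Gv_le_normalizer_Wat x)
    (A.Se_le_Gv c.xe (c.Vy_le_Se hs ht)) ((A.Wat x).inv_mem hWa))

/-- The double commutator is outside the centre. -/
theorem double_comm {a t : H} (ha : a ∈ A.Vv z) (haQ : a ∉ A.Qv u) (ht : t ∈ A.Vv y)
    (htQ : t ∉ A.Qv x) : ⁅⁅a, t⁆, t⁆ ∉ A.Cv x := by
  have c' := c.symm hs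
  have h1 : ⁅a, t⁆ ∈ A.Wat u ⊓ A.Qv x := by
    rw [← commutatorElement_inv t a]
    exact (A.Wat u ⊓ A.Qv x).inv_mem (c'.comm_Vz_Vy_mem hs ht ha)
  obtain ⟨v, hv, r, hr, e'⟩ := c'.decomp_WF hs h1
  have hvO : v ∉ A.Oe e := by
    intro hvO
    have hinf : A.Oe e ≤ A.Qv y := (A.inf_eq hs c.right c.crit_right).ge.trans inf_le_right
    have hmem : ⁅a, t⁆ ∈ A.Wat u ⊓ A.Qv x ⊓ A.Qv y :=
      ⟨h1, e' ▸ (A.Qv y).mul_mem (hinf hvO) hr.2⟩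
    refine htQ (c'.fixWc hs (A.Qv_le_Se c.xe (c.Vz_le_Qx hs ha)) haQ (A.Vv_le_Wat c.ug c.yg ht) ?_).2
    rw [← commutatorElement_inv a t]
    exact Subgroup.inv_mem _ hmem
  intro hmem
  apply hvO
  refine A.fixC_v c.xe (c.Vy_le_Se hs ht) htQ hv ?_
  rw [e', commutator_mul_left, commutatorElement_eq_one_iff_mul_comm.2 (A.V_Q_v hr.2 ht), mul_one,
    mul_inv_cancel, one_mul] at hmem
  exact commutator_mem_symm hmem

theorem comm_c_a {a t : H} (ha : a ∈ A.Vv z) (ht : t ∈ A.Vv y) : ⁅⁅a, t⁆, a⁆ ∈ A.Cv x :=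
  c.R0_le_Cx hs (c.W_comm hs _ (c.comm_Vz_Vy_mem hs ha ht).1 _ (A.Vv_le_Wat c.xf c.zf ha))

end Cfg

end Amb

end Cfsg.Agent.PushUp62
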