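import Mathlib

/-!
An additive map from a finite field that commutes with inversion is multiplicative.
-/

set_option autoImplicit false

namespace Cfsg.Agent.PushUp62

variable {F : Type*} [Field F] {R : Type*} [Ring R] (φ ψ : F →+ R)

theorem hua_step (h1 : ∀ x, x ≠ 0 → φ x * ψ x⁻¹ = 1) (h2 : ∀ x, x ≠ 0 → ψ x⁻¹ * φ x = 1) (a b : F) :
    φ (a * b * a) = φ a * ψ b * φ a := by
  by_cases ha : a = 0
  · simp [ha]
  by_cases hb : b = 0
  · simp [hb]
  by_cases hab : a * b = 1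
  · rw [hab, one_mul, show b = a⁻¹ from (inv_eq_of_mul_eq_one_right hab).symm, h1 a ha, one_mul]
  have hd : b⁻¹ - a ≠ 0 := sub_ne_zero.2 fun h => hab (by rw [← h, inv_mul_cancel₀ hb])
  have hc : a - a * b * a ≠ 0 := by
    rw [show a - a * b * a = a * (1 - a * b) by ring]
    exact mul_ne_zero ha (sub_ne_zero.2 (Ne.symm hab))
  have hid : (a - a * b * a)⁻¹ = a⁻¹ + (b⁻¹ - a)⁻¹ := by
    refine inv_eq_of_mul_eq_one_right ?_
    field_simp
    ring
  have e1 : φ b⁻¹ * ψ b = 1 := by simpa using h1 b⁻¹ (inv_ne_zero hb)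
  have e2 : ψ (b⁻¹ - a)⁻¹ * φ (b⁻¹ - a) = 1 := h2 _ hd
  have e3 : ψ a⁻¹ * φ a = 1 := h2 a ha
  set Di := ψ (b⁻¹ - a)⁻¹
  set P := φ a
  set B := ψ b
  have hD : Di * φ b⁻¹ = 1 + Di * P := by
    rw [map_sub, mul_sub, sub_eq_iff_eq_add] at e2
    exact e2
  have hZ : ψ (a - a * b * a)⁻¹ * (P - P * B * P) = 1 := by
    rw [hid, map_add]
    calc (ψ a⁻¹ + Di) * (P - P * B * P)
        = ψ a⁻¹ * P - ψ a⁻¹ * P * (B * P) + Di * P - Di * P * (B * P) := by noncomm_ring
      _ = 1 + Di * P - (1 + Di * P) * (B * P) := by rw [e3]; noncomm_ring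
      _ = 1 := by
        rw [← hD, show Di * φ b⁻¹ * (B * P) = Di * (φ b⁻¹ * B) * P by noncomm_ring, e1, mul_one,
          hD]
        noncomm_ring
  have hX := congrArg (φ (a - a * b * a) * ·) hZ
  simp only [← mul_assoc, h1 _ hc, one_mul, mul_one] at hX
  rw [map_sub] at hX
  exact (sub_right_injective hX).symm

theorem hua [Finite F] (hone : φ 1 = 1) (h1 : ∀ x, x ≠ 0 → φ x * ψ x⁻¹ = 1)
    (h2 : ∀ x, x ≠ 0 → ψ x⁻¹ * φ x = 1) : (∀ x, ψ x = φ x) ∧ ∀ x y, φ (x * y) = φ x * φ y := by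
  have heq : ∀ x, ψ x = φ x := fun x => by simpa [hone] using (hua_step φ ψ h1 h2 1 x).symm
  refine ⟨heq, fun x y => ?_⟩
  by_cases hx : x = 0
  · simp [hx]
  by_cases hy : y = 0
  · simp [hy]
  obtain ⟨g, hg⟩ := IsCyclic.exists_monoid_generator (α := Fˣ)
  have hpow : ∀ k : ℕ, φ ((g : F) ^ k) = φ (g : F) ^ k := by
    intro k
    induction k using Nat.strong_induction_on with
    | _ k ih =>
      match k with
      | 0 => simp [hone]
      | 1 => simp
      | j + 2 =>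
        rw [show (g : F) ^ (j + 2) = g * g ^ j * g by ring, hua_step φ ψ h1 h2, heq, ih j (by omega),
          pow_succ, pow_succ']
  obtain ⟨i, hi⟩ := Submonoid.mem_powers_iff _ _ |>.1 (hg (Units.mk0 x hx))
  obtain ⟨j, hj⟩ := Submonoid.mem_powers_iff _ _ |>.1 (hg (Units.mk0 y hy))
  have hi' : (g : F) ^ i = x := by simpa using congrArg Units.val hi
  have hj' : (g : F) ^ j = y := by simpa using congrArg Units.val hj
  rw [← hi', ← hj', ← pow_add, hpow, hpow, hpow, pow_add]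

end Cfsg.Agent.PushUp62
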