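import Cfsg.Agent.PushUp62.Split

/-!
A maximal `p`-local subgroup that is not pushed up.
-/

set_option autoImplicit false
set_option linter.unusedSectionVars false
set_option linter.unusedVariables false
set_option linter.style.haveILetI false

namespace Cfsg.Agent.PushUp62

open scoped MatrixGroups commutatorElement
open Cfsg.Agent.LocalEven61 (PUSetup)

variable {H : Type*} [Group H]

/-- An element normalising the image of `S` induces an automorphism of `S`. -/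
theorem exists_induced_aut (G : Subgroup H) (S : Subgroup ↥G) {b : H}
    (hb : b ∈ Subgroup.normalizer ((S.map G.subtype : Subgroup H) : Set H)) :
    ∃ σ : ↥S ≃* ↥S, ∀ s : ↥S, (((σ s : ↥S) : ↥G) : H) = b * ((s : ↥G) : H) * b⁻¹ := by
  have key : ∀ c ∈ Subgroup.normalizer ((S.map G.subtype : Subgroup H) : Set H), ∀ s : ↥S,
      ∃ t : ↥S, ((t : ↥G) : H) = c * ((s : ↥G) : H) * c⁻¹ := fun c hc s => by
    obtain ⟨t, ht, hts⟩ := ((Subgroup.mem_normalizer_iff.1 hc) _).1 ⟨(s : ↥G), s.2, rfl⟩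
    exact ⟨⟨t, ht⟩, hts⟩
  choose f hf using key b hb
  choose g hg using key b⁻¹ (inv_mem hb)
  refine ⟨{ toFun := f, invFun := g, left_inv := fun s => ?_, right_inv := fun s => ?_,
            map_mul' := fun s t => ?_ }, hf⟩
  · refine Subtype.ext (Subtype.ext ?_)
    rw [hg, hf]; group
  · refine Subtype.ext (Subtype.ext ?_)
    rw [hf, hg]; group
  · refine Subtype.ext (Subtype.ext ?_)
    rw [hf]
    simp only [Subgroup.coe_mul, hf]
    group

variable [Finite H] {p : ℕ} [Fact p.Prime] {F : Type} [Field F] [Fintype F] [CharP F p] {n : ℕ}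
  {G : Subgroup H} {S : Sylow p ↥G} {K : Subgroup ↥G} [K.Normal]

theorem isPGroup_le_pCore (p : ℕ) [Fact p.Prime] (G : Subgroup H) {T : Subgroup ↥G}
    (hT : T ≤ Cfsg.pCore p ↥G) : IsPGroup p ↥(T.map G.subtype) :=
  ((Cfsg.Agent.Thompson.isPGroup_pCore (p := p) (G := ↥G)).to_le hT).map _

set_option maxHeartbeats 1000000 in
theorem local_qd (hp : 5 ≤ p)
    (hmax : ∀ R : Subgroup H, IsPGroup p ↥R → R ≠ ⊥ → G ≤ Subgroup.normalizer (R : Set H) →
      Subgroup.normalizer (R : Set H) = G)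
    (h : PUSetup S K F n)
    (hN : ¬ Subgroup.normalizer (((S : Subgroup ↥G).map G.subtype : Subgroup H) : Set H) ≤ G) :
    ∃ G₀ E : Subgroup H, Cfsg.IsInternalDirectProduct G₀ E G ∧ Cfsg.IsElementaryAbelian p E ∧
      Nonempty (↥G₀ ≃* ↥(Cfsg.qdOver F)) := by
  classical
  set N := Subgroup.normalizer (((S : Subgroup ↥G).map G.subtype : Subgroup H) : Set H)
  have hsub : Function.Injective G.subtype := G.subtype_injective
  have hlocal : ∀ T : Subgroup ↥G, T.Normal → T ≠ ⊥ → IsPGroup p ↥(T.map G.subtype) →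
      Subgroup.normalizer (T.map G.subtype : Set H) = G := by
    intro T hT hne hp'
    refine hmax _ hp' (by rwa [ne_eq, Subgroup.map_eq_bot_iff_of_injective _ hsub]) ?_
    calc G = (⊤ : Subgroup ↥G).map G.subtype := by rw [← MonoidHom.range_eq_map, Subgroup.range_subtype]
      _ ≤ _ := by
        refine le_trans ?_ (Subgroup.le_normalizer_map G.subtype)
        rw [Subgroup.normalizer_eq_top]
  have hd : ∀ T : Subgroup ↥(S : Subgroup ↥G), T ≠ ⊥ → T.Characteristic →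
      ¬ (T.map (S : Subgroup ↥G).subtype).Normal := by
    intro T hne hchar hn
    apply hN
    intro b hb
    rw [← hlocal _ hn (by rwa [ne_eq, Subgroup.map_eq_bot_iff_of_injective _ (Subgroup.subtype_injective _)])
      ((S.2.to_le (Subgroup.map_subtype_le T)).map _)]
    obtain ⟨σ, hσ⟩ := exists_induced_aut G (S : Subgroup ↥G) hb
    refine mem_normalizer_of_cj_eq (Subgroup.eq_of_le_of_card_ge ?_ (card_cj _ _).ge)
    refine cj_le_iff.2 ?_
    rintro _ ⟨_, ⟨t, ht, rfl⟩, rfl⟩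
    exact ⟨_, ⟨σ t, Subgroup.characteristic_iff_le_comap.1 hchar σ ht, rfl⟩, hσ t⟩
  obtain ⟨ρ, C, V, D, hρ, hD⟩ := pushing_up_one h hd (by omega)
  set Q := Cfsg.pCore p ↥G
  have hQS : Q ≤ (S : Subgroup ↥G) := Thompson.pCore_le_sylow S
  -- some element of `N` moves `V` out of `Q`
  obtain ⟨b, hb, v, hv, hbv⟩ : ∃ b ∈ N, ∃ v ∈ V, b * (v : H) * b⁻¹ ∉ Q.map G.subtype := by
    by_contra! hall
    apply hN
    let T : Subgroup H := ⨆ b : ↥N, cj (b : H) (V.map G.subtype)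
    have hTQ : T ≤ Q.map G.subtype := iSup_le fun b => cj_le_iff.2 (by
      rintro _ ⟨v, hv, rfl⟩
      exact hall b b.2 v hv)
    have hVT : V.map G.subtype ≤ T :=
      le_trans (cj_one _).ge (le_iSup (fun b : ↥N => cj (b : H) (V.map G.subtype)) 1)
    have hTn : N ≤ Subgroup.normalizer (T : Set H) := le_normalizer_of_conj fun c hc t ht => by
      have : T ≤ T.comap (MulAut.conj c).toMonoidHom := iSup_le fun b => by
        rw [← Subgroup.map_le_iff_le_comap]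
        show cj c (cj (b : H) _) ≤ T
        rw [← cj_mul]
        exact le_iSup (fun b : ↥N => cj (b : H) (V.map G.subtype)) (⟨c, hc⟩ * b)
      exact this ht
    set T' := T.comap G.subtype
    have hT'Q : T' ≤ Q := fun x hx => (Subgroup.mem_map_iff_mem hsub).1 (hTQ hx)
    have hT'n : T'.Normal := hD.normal_of T' (fun x hx => hVT ⟨x, hx, rfl⟩) hT'Q fun s hs => by
      have h1 : (s : H) ∈ N := Subgroup.le_normalizer ⟨s, hs, rfl⟩
      exact Subgroup.mem_normalizer_iff.2 fun x => (Subgroup.mem_normalizer_iff.1 (hTn h1) (x : H))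
    have hTeq : T'.map G.subtype = T := le_antisymm (Subgroup.map_comap_le _ _) fun x hx => by
      obtain ⟨a, -, rfl⟩ := hTQ hx
      exact ⟨a, hx, rfl⟩
    have hne : T' ≠ ⊥ := fun h0 => by
      obtain ⟨x, hx, hxu⟩ := D.crd_surj ![1, 0]
      have : x ∈ T' := hVT ⟨x, hx, rfl⟩
      rw [h0, Subgroup.mem_bot] at this
      rw [this, D.crd_one] at hxu
      simpa using congrFun hxu 0
    calc N ≤ Subgroup.normalizer (T : Set H) := hTn
      _ = G := hTeq ▸ hlocal T' hT'n hne (isPGroup_le_pCore p G hT'Q)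
  have hbG : b ∉ G := fun hbG => hbv ⟨⟨b, hbG⟩ * v * ⟨b, hbG⟩⁻¹,
    hD.V_le (D.normX.conj_mem v hv _), rfl⟩
  obtain ⟨σ, hσ⟩ := exists_induced_aut G (S : Subgroup ↥G) hb
  obtain ⟨h1, h2⟩ := hD.moved σ ⟨⟨v, hQS (hD.V_le hv)⟩, hv, fun h' => hbv ⟨_, h', hσ _⟩⟩
  have hQQ : ⁅Q, Q⁆ = ⊥ := by
    by_contra hne
    apply hbG
    have hle : ⁅Q, Q⁆ ≤ Q := Subgroup.commutator_le_left Q Q
    rw [← hlocal _ inferInstance hne (isPGroup_le_pCore p G hle)]
    refine mem_normalizer_of_cj_eq (Subgroup.eq_of_le_of_card_ge ?_ (card_cj _ _).ge)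
    refine cj_le_iff.2 ?_
    rintro _ ⟨x, hx, rfl⟩
    exact ⟨_, h1 ⟨x, hQS (hle hx)⟩ hx, hσ _⟩
  have hab : ∀ x ∈ Q, ∀ y ∈ Q, x * y = y * x := fun x hx y hy =>
    commutatorElement_eq_one_iff_mul_comm.1
      (Subgroup.mem_bot.1 (hQQ ▸ Subgroup.commutator_mem_commutator hx hy))
  obtain ⟨G₀, E, ⟨-, -, hc, hinf, hsup⟩, ⟨hEc, hEe⟩, ⟨f⟩⟩ := split_qd hp S ρ hρ D hD hab (h2 hQQ)
  refine ⟨G₀.map G.subtype, E.map G.subtype, ⟨Subgroup.map_subtype_le _, Subgroup.map_subtype_le _,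
    ?_, ?_, ?_⟩, ⟨?_, ?_⟩, ⟨(G₀.equivMapOfInjective _ hsub).symm.trans f⟩⟩
  · rintro _ ⟨a, ha, rfl⟩ _ ⟨c, hc', rfl⟩
    rw [← map_mul, hc a ha c hc', map_mul]
  · rw [← Subgroup.map_inf _ _ _ hsub, hinf, Subgroup.map_bot]
  · rw [← Subgroup.map_sup, hsup, ← MonoidHom.range_eq_map, Subgroup.range_subtype]
  · refine ⟨⟨?_⟩⟩
    rintro ⟨_, a, ha, rfl⟩ ⟨_, c, hc', rfl⟩
    exact Subtype.ext (congrArg (fun x : ↥E => ((x : ↥G) : H))
      (hEc.is_comm.comm ⟨a, ha⟩ ⟨c, hc'⟩))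
  · rintro _ ⟨a, ha, rfl⟩
    rw [← map_pow, hEe a ha, map_one]

end Cfsg.Agent.PushUp62
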