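import Cfsg.Agent.PushUp62.Shift

/-!
The minimal distance of a critical pair is one or two.
-/

set_option autoImplicit false
set_option linter.unusedSectionVars false
set_option linter.unusedVariables false
set_option linter.style.haveILetI false

namespace Cfsg.Agent.PushUp62

open scoped commutatorElement

variable {H : Type*} [Group H] [Finite H] {F : Type} [Field F] [Fintype F] {p : ℕ} [Fact p.Prime]
  [CharP F p]

namespace Amb

variable (A : Amb H F p)

theorem no_long {k : ℕ} (hs : A.Short (k + 3)) (P₀ : A.Path (k + 3)) (hc₀ : A.Crit P₀) : False := by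
  obtain ⟨P, hc, hp⟩ := A.exists_proper (k := k + 1) hs P₀ hc₀
  obtain ⟨P1, hc1, hp1, hx1, he1⟩ := A.exists_right_proper hs P hc hp
  obtain ⟨z, f, hf, hz, hne, hzQ⟩ := A.exists_z hs P hc
  obtain ⟨g, hg, hgQ⟩ := SetLike.not_le_iff_exists.1 hzQ
  have hzx0 : A.Vv z ≤ A.Qv (P.x 0) := A.neighbour hs hf hz
  have hzS : A.Vv z ≤ A.Se (P.e (k + 1)) :=
    (A.Vv_le_Wat hf hz).trans (A.Wat_le_Se hs P hc)
  have hi1 : A.Inc (P.x (k + 2)) (P.e (k + 1)) := P.inc₂ (k + 1) (by omega)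
  have hi2 : A.Inc (P.x (k + 2)) (P.e (k + 2)) := P.inc₁ (k + 2) (by omega)
  have hgG : g ∈ A.Gv (P.x (k + 2)) := A.Se_le_Gv hi1 (hzS hg)
  have hline : A.Oe (g * P.e (k + 2)) ≠ A.Oe (P.e (k + 2)) :=
    A.moveS_v hi1 hi2 (hp (k + 1) (by omega)).symm (hzS hg) hgQ
  let P' : A.Path (k + 3) :=
    { x := fun i => if i = k + 3 then g * P.x i else P.x i
      e := fun i => if i = k + 2 then g * P.e i else P.e i
      inc₁ := fun i hi => by
        rw [if_neg (by omega : i ≠ k + 3)]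
        split_ifs with h
        · subst h; exact Inc.of_mem_Gv A hi2 hgG
        · exact P.inc₁ i hi
      inc₂ := fun i hi => by
        by_cases h : i = k + 2
        · subst h
          rw [if_pos rfl, if_pos rfl]
          exact Inc.mul_left A (P.inc₂ _ hi) g
        · rw [if_neg h, if_neg (by omega : i + 1 ≠ k + 3)]
          exact P.inc₂ i hi }
  have hc' : A.Crit P' := by
    intro h
    apply hc
    simp only [P', if_neg (show (0 : ℕ) ≠ k + 3 by omega), if_pos] at h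
    rw [Qv, cj_mul] at h
    have hn : g⁻¹ ∈ Subgroup.normalizer (A.Vv (P.x 0) : Set H) :=
      inv_mem (A.Gv_le_normalizer_Vv _ (A.Qv_le_Gv _ (hzx0 hg)))
    have := cj_mono g⁻¹ h
    rwa [cj_eq_of_mem_normalizer hn, ← cj_mul, inv_mul_cancel, cj_one] at this
  have hinv : g * P.e (k + 2) = P'.e (k + 2) := by simp [P']
  have hp' : A.Proper P' := by
    intro i hi
    by_cases h : i + 1 = k + 2
    · obtain rfl : i = k + 1 := by omega
      simp only [P', if_neg (show k + 1 ≠ k + 2 by omega), if_pos]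
      intro heq
      -- the element `g` fixes the previous line
      have hfix : A.Oe (g * P.e (k + 1)) = A.Oe (P.e (k + 1)) := by
        rw [Oe, cj_mul, Se] at *
        exact cj_eq_of_mem_normalizer (mem_normalizer_cj (A.normOm
          (Subgroup.le_normalizer (mem_cj.1 (hzS hg)))))
      refine hp (k + 1) (by omega) (cj_injective g ?_)
      show cj g (A.Oe (P.e (k + 1))) = cj g (A.Oe (P.e (k + 2)))
      rw [Oe, Oe, ← cj_mul, ← cj_mul]
      exact hfix.trans heq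
    · simp only [P', if_neg h, if_neg (show i ≠ k + 2 by omega)]
      exact hp i hi
  obtain ⟨P1', hc1', hp1', hx1', he1'⟩ := A.exists_right_proper hs P' hc' hp'
  have e0 : A.R P1' = A.R P1 := by
    rw [A.R_eq hs P1' hc1', A.R_eq hs P1 hc1, hx1' 0 (by omega), he1' 0 (by omega), hx1 0 (by omega),
      he1 0 (by omega)]
    simp [P']
  have hy : A.R P1 ≤ A.Cv (P.x (k + 3)) := by
    have h := A.R_le_C_last (k := k + 1) hs P1 hc1 (hp1 (k + 1) (by omega))
    rwa [hx1 (k + 2) le_rfl] at h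
  have hy' : A.R P1 ≤ A.Cv (g * P.x (k + 3)) := by
    have h := A.R_le_C_last (k := k + 1) hs P1' hc1' (hp1' (k + 1) (by omega))
    rw [e0, hx1' (k + 2) le_rfl] at h
    simpa [P'] using h
  have hle : A.R P1 ≤ A.Cv (P.x (k + 2)) := fun r hr =>
    A.inter_v hi2 (Inc.of_mem_Gv A hi2 hgG) hline (A.Cv_le_Oe (P.inc₂ (k + 2) (by omega)) (hy hr))
      (A.Cv_le_Oe (Inc.mul_left A (P.inc₂ (k + 2) (by omega)) g) (hy' hr))
  have key : ∀ j, j ≤ k + 2 → ∃ Pj : A.Path (k + 3), A.Crit Pj ∧ A.Proper Pj ∧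
      (∀ i, i + j ≤ k + 3 → Pj.x i = P.x (i + j)) ∧ (∀ i, i + j ≤ k + 2 → Pj.e i = P.e (i + j)) := by
    intro j
    induction j with
    | zero => exact fun _ => ⟨P, hc, hp, fun i _ => rfl, fun i _ => rfl⟩
    | succ j ih =>
      intro hj
      obtain ⟨Pj, hcj, hpj, hxj, hej⟩ := ih (by omega)
      obtain ⟨Pn, hcn, hpn, hxn, hen⟩ := A.exists_right_proper (k := k + 1) hs Pj hcj hpj
      refine ⟨Pn, hcn, hpn, fun i hi => ?_, fun i hi => ?_⟩
      · rw [hxn i (by omega), hxj (i + 1) (by omega)]; congr 1; omega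
      · rw [hen i (by omega), hej (i + 1) (by omega)]; congr 1; omega
  obtain ⟨Pe, hce, hpe, hxe, hee⟩ := key (k + 2) le_rfl
  have hcanon : A.R P1.rev = A.R Pe := by
    refine A.canon hs P1.rev (A.crit_rev hs P1 hc1) Pe hce (hpe 0 (by omega)) ?_
    rw [hxe 1 (by omega)]
    simp only [Path.rev]
    rw [show k + 3 - 1 = k + 2 by omega, hx1 (k + 2) le_rfl]
    congr 1; omega
  refine A.R_not_le hs Pe hce ?_
  rw [← hcanon, A.R_rev, hxe 0 (by omega), Nat.zero_add]
  exact hle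

theorem translate {k : ℕ} (P : A.Path (k + 1)) : ∃ h : H, A.Gv (h * P.x 0) = A.G ∧
    A.Qv (h * P.x 0) = A.Q ∧ A.Vv (h * P.x 0) = A.V ∧ A.Cv (h * P.x 0) = A.C ∧
    A.Se (h * P.e 0) = A.S ∧ A.Oe (h * P.e 0) = A.Om := by
  obtain ⟨a, ha1, ha2⟩ := P.inc₁ 0 (by omega)
  refine ⟨a⁻¹, ?_⟩
  have hi : A.Inc (a⁻¹ * P.x 0) (a⁻¹ * P.e 0) := Inc.mul_left A (P.inc₁ 0 (by omega)) a⁻¹
  have h1 : (a⁻¹ * P.x 0)⁻¹ * 1 ∈ A.G := by simpa using ha1
  have h2 : (a⁻¹ * P.e 0)⁻¹ * 1 ∈ Subgroup.normalizer (A.S : Set H) := by simpa using ha2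
  refine ⟨?_, ?_, ?_, ?_, ?_, ?_⟩
  · rw [Gv, cj_congr (Subgroup.le_normalizer h1), cj_one]
  · rw [Qv, cj_congr (A.normQ h1), cj_one]
  · rw [Vv, cj_congr (A.normV h1), cj_one]
  · rw [Cv, cj_congr (A.G_le_normalizer_C h1), cj_one]
  · rw [Se, cj_congr h2, cj_one]
  · rw [Oe, cj_congr (A.normOm h2), cj_one]

end Amb

end Cfsg.Agent.PushUp62
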