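import Cfsg.Agent.PushUp62.Vertex

/-!
Paths in the coset graph and critical pairs at minimal distance.
-/

set_option autoImplicit false
set_option linter.unusedSectionVars false
set_option linter.unusedVariables false
set_option linter.style.haveILetI false

namespace Cfsg.Agent.PushUp62

open scoped commutatorElement

variable {H : Type*} [Group H] [Finite H] {F : Type} [Field F] [Fintype F] {p : ℕ} [Fact p.Prime]
  [CharP F p]

namespace Amb

variable (A : Amb H F p)

/-- A path of length `n`. -/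
structure Path (n : ℕ) where
  /-- the vertices -/
  x : ℕ → H
  /-- the edges -/
  e : ℕ → H
  inc₁ : ∀ i < n, A.Inc (x i) (e i)
  inc₂ : ∀ i < n, A.Inc (x (i + 1)) (e i)

/-- The first module is not inside the last `O_p`. -/
def Crit {n : ℕ} (P : A.Path n) : Prop := ¬ A.Vv (P.x 0) ≤ A.Qv (P.x n)

/-- No critical path is shorter than `n`. -/
def Short (n : ℕ) : Prop := ∀ d < n, ∀ P : A.Path d, A.Vv (P.x 0) ≤ A.Qv (P.x d)

variable {A}

/-- The reversed path. -/
def Path.rev {n : ℕ} (P : A.Path n) : A.Path n where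
  x i := P.x (n - i)
  e i := P.e (n - 1 - i)
  inc₁ i hi := by
    have h := P.inc₂ (n - 1 - i) (by omega)
    rwa [show n - 1 - i + 1 = n - i by omega] at h
  inc₂ i hi := by
    have h := P.inc₁ (n - 1 - i) (by omega)
    rwa [show n - 1 - i = n - (i + 1) by omega] at h ⊢

/-- A segment of a path. -/
def Path.sub {n : ℕ} (P : A.Path n) (i d : ℕ) (h : i + d ≤ n) : A.Path d where
  x j := P.x (i + j)
  e j := P.e (i + j)
  inc₁ j hj := P.inc₁ (i + j) (by omega)
  inc₂ j hj := P.inc₂ (i + j) (by omega)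

/-- A new first vertex. -/
def Path.cons {n : ℕ} (P : A.Path n) (z f : H) (hz : A.Inc z f) (hf : A.Inc (P.x 0) f) :
    A.Path (n + 1) where
  x i := match i with
    | 0 => z
    | j + 1 => P.x j
  e i := match i with
    | 0 => f
    | j + 1 => P.e j
  inc₁ i hi := match i with
    | 0 => hz
    | j + 1 => P.inc₁ j (by omega)
  inc₂ i hi := match i with
    | 0 => hf
    | j + 1 => P.inc₂ j (by omega)

/-- A translated path. -/
def Path.smul {n : ℕ} (P : A.Path n) (g : H) : A.Path n where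
  x i := g * P.x i
  e i := g * P.e i
  inc₁ i hi := Inc.mul_left A (P.inc₁ i hi) g
  inc₂ i hi := Inc.mul_left A (P.inc₂ i hi) g

variable (A)

/-- Reachability in the coset graph. -/
def Conn (a b : H) : Prop := ∃ n, ∃ P : A.Path n, P.x 0 = a ∧ P.x n = b

/-- A shortest critical path exists. -/
theorem exists_crit : ∃ m, A.Short (m + 1) ∧ ∃ P : A.Path (m + 1), A.Crit P := by
  classical
  have hex : ∃ n, ∃ P : A.Path n, A.Crit P := by
    by_contra! hno
    simp only [Crit, not_not] at hno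
    let T : Subgroup H := ⨆ y : {y : H // A.Conn 1 y}, A.Vv y
    have hQ1 : A.Qv 1 = A.Q := cj_one A.Q
    have hTQ : T ≤ A.Q := iSup_le fun y => by
      obtain ⟨n, P, h0, hn⟩ := y.2
      have h := hno n P.rev
      simp only [Path.rev, Nat.sub_zero, Nat.sub_self, h0, hn, hQ1] at h
      exact h
    have hle : ∀ (g : H), (∀ y, A.Conn 1 y → A.Conn 1 (g * y)) → ∀ t ∈ T, g * t * g⁻¹ ∈ T := by
      intro g hg t ht
      have : T ≤ T.comap (MulAut.conj g).toMonoidHom := iSup_le fun y => by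
        rw [← Subgroup.map_le_iff_le_comap]
        show cj g (A.Vv y) ≤ T
        rw [Vv, ← cj_mul]
        exact le_iSup (fun y : {y : H // A.Conn 1 y} => A.Vv y) ⟨_, hg _ y.2⟩
      exact this ht
    have hV : A.Vv 1 ≤ T := le_iSup (fun y : {y : H // A.Conn 1 y} => A.Vv y)
      ⟨1, 0, ⟨fun _ => 1, fun _ => 1, fun i hi => absurd hi (Nat.not_lt_zero i),
        fun i hi => absurd hi (Nat.not_lt_zero i)⟩, rfl, rfl⟩
    have h11 : A.Inc 1 1 := ⟨1, by simp, by simp⟩
    refine A.Vv_ne_bot 1 (le_bot_iff.1 (hV.trans (le_of_eq (A.hd T (hTQ.trans A.Q_le) ?_ ?_))))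
    · refine le_normalizer_of_conj fun a ha => hle a fun y hy => ?_
      obtain ⟨n, P, h0, hn⟩ := hy
      have ha1 : A.Inc a 1 := ⟨a, by simp, by simpa using ha⟩
      let P' := (P.smul a).cons 1 1 h11 (by simpa [Path.smul, h0] using ha1)
      exact ⟨n + 1, P', rfl, by simp [P', Path.cons, Path.smul, hn]⟩
    · refine le_normalizer_of_conj fun g hg => hle g fun y hy => ?_
      obtain ⟨n, P, h0, hn⟩ := hy
      match n, P, hn with
      | 0, P, hn =>
        have hg1 : A.Inc g 1 := ⟨1, by simpa using A.G.inv_mem hg, by simp⟩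
        exact ⟨1, ⟨fun i => if i = 0 then 1 else g * y, fun _ => 1,
          fun i hi => by
            obtain rfl : i = 0 := by omega
            simpa using h11,
          fun i hi => by
            obtain rfl : i = 0 := by omega
            simpa [hn.symm.trans h0] using hg1⟩, rfl, by simp⟩
      | m + 1, P, hn =>
        refine ⟨m + 1, ⟨fun i => if i = 0 then 1 else g * P.x i, fun i => g * P.e i, ?_, ?_⟩,
          rfl, by simp [hn]⟩
        · intro i hi
          by_cases h : i = 0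
          · subst h
            obtain ⟨k, hk1, hk2⟩ := P.inc₁ 0 hi
            rw [h0, inv_one, one_mul] at hk1
            simp only
            exact ⟨g * k, by simpa using A.G.mul_mem hg hk1, by simpa [mul_assoc] using hk2⟩
          · simp only [if_neg h]
            exact Inc.mul_left A (P.inc₁ i hi) g
        · intro i hi
          simp only [if_neg (Nat.succ_ne_zero i)]
          exact Inc.mul_left A (P.inc₂ i hi) g
  have hn0 : Nat.find hex ≠ 0 := fun h => by
    have hh := Nat.find_spec hex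
    rw [h] at hh
    obtain ⟨P, hP⟩ := hh
    exact hP (A.Vv_le_Qv _)
  obtain ⟨m, hm⟩ := Nat.exists_eq_succ_of_ne_zero hn0
  refine ⟨m, fun d hd P => by_contra fun h => Nat.find_min hex (hm ▸ hd) ⟨P, h⟩, ?_⟩
  have := Nat.find_spec hex
  rwa [hm] at this

variable {m : ℕ} (hs : A.Short (m + 1))
include hs

theorem le_Qv_of_lt {n : ℕ} (P : A.Path n) (i j : ℕ) (hij : i ≤ j) (hj : j ≤ n)
    (hlt : j - i < m + 1) : A.Vv (P.x i) ≤ A.Qv (P.x j) ∧ A.Vv (P.x j) ≤ A.Qv (P.x i) := by
  have h1 := hs (j - i) hlt (P.sub i (j - i) (by omega))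
  have h2 := hs (j - i) hlt (P.sub i (j - i) (by omega)).rev
  simp only [Path.sub, Path.rev, Nat.add_zero, Nat.sub_zero, Nat.sub_self,
    Nat.add_sub_cancel' hij] at h1 h2
  exact ⟨h1, h2⟩

variable (P : A.Path (m + 1)) (hc : A.Crit P)
include hc

theorem Vv_le_Se_last : A.Vv (P.x 0) ≤ A.Se (P.e m) :=
  ((A.le_Qv_of_lt hs P 0 m (by omega) (by omega) (by omega)).1).trans
    (A.Qv_le_Se (P.inc₁ m (by omega)))

theorem crit_rev : A.Crit P.rev := by
  simp only [Crit, Path.rev, Nat.sub_zero, Nat.sub_self]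
  intro h
  refine hc fun v hv => A.S_cent_v (P.inc₂ m (by omega)) (A.Vv_le_Se_last hs P hc hv) fun w hw => ?_
  exact (A.V_Q_v (h hw) hv).symm

theorem Vv_le_Se_first : A.Vv (P.x (m + 1)) ≤ A.Se (P.e 0) := by
  have h := A.Vv_le_Se_last hs P.rev (A.crit_rev hs P hc)
  simpa [Path.rev] using h

theorem inf_eq : A.Vv (P.x 0) ⊓ A.Qv (P.x (m + 1)) = A.Oe (P.e 0) := by
  have hi := P.inc₁ 0 (by omega)
  have hle : A.Vv (P.x 0) ⊓ A.Qv (P.x (m + 1)) ≤ A.Oe (P.e 0) := by
    have hr := A.crit_rev hs P hc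
    simp only [Crit, Path.rev, Nat.sub_zero, Nat.sub_self] at hr
    obtain ⟨t, ht, htQ⟩ := SetLike.not_le_iff_exists.1 hr
    rintro v ⟨hv, hvQ⟩
    exact A.fix_v hi (A.Vv_le_Se_first hs P hc ht) htQ hv (A.V_Q_v hvQ ht).symm
  refine Subgroup.eq_of_le_of_card_ge hle ?_
  have hS := A.Qv_le_Se (P.inc₂ m (by omega))
  have h1 : (A.Qv (P.x (m + 1))).relIndex (A.Vv (P.x 0)) ≤ Nat.card F := by
    refine (Subgroup.relIndex_le_of_le_right (A.Vv_le_Se_last hs P hc)
      (Nat.pos_of_ne_zero Subgroup.index_ne_zero_of_finite).ne').trans (le_of_eq ?_)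
    have e1 := Subgroup.relIndex_mul_relIndex ⊥ (A.Qv (P.x (m + 1))) (A.Se (P.e m)) bot_le hS
    rw [Subgroup.relIndex_bot_left, Subgroup.relIndex_bot_left, A.card_Se (P.x (m + 1))] at e1
    exact Nat.eq_of_mul_eq_mul_left Nat.card_pos e1
  have e2 := Subgroup.relIndex_mul_relIndex ⊥ (A.Vv (P.x 0) ⊓ A.Qv (P.x (m + 1))) (A.Vv (P.x 0))
    bot_le inf_le_left
  rw [Subgroup.relIndex_bot_left, Subgroup.relIndex_bot_left, Subgroup.inf_relIndex_left,
    A.card_Vv (P.x 0) (P.e 0)] at e2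
  exact Nat.le_of_mul_le_mul_right (e2.symm.trans_le (Nat.mul_le_mul_left _ h1)) Nat.card_pos

theorem decomp {s : H} (h : s ∈ A.Se (P.e m)) :
    ∃ v ∈ A.Vv (P.x 0), ∃ q ∈ A.Qv (P.x (m + 1)), s = v * q := by
  have hS := A.Qv_le_Se (P.inc₂ m (by omega))
  have hV := A.Vv_le_Se_last hs P hc
  have hn : A.Vv (P.x 0) ≤ Subgroup.normalizer (A.Qv (P.x (m + 1)) : Set H) :=
    (hV.trans (A.Se_le_Gv (P.inc₂ m (by omega)))).trans (A.Gv_le_normalizer_Qv _)
  refine mem_sup_of_le_normalizer hn ?_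
  suffices A.Vv (P.x 0) ⊔ A.Qv (P.x (m + 1)) = A.Se (P.e m) by rwa [this]
  refine Subgroup.eq_of_le_of_card_ge (sup_le hV hS) ?_
  set V := A.Vv (P.x 0)
  set Q := A.Qv (P.x (m + 1))
  have e1 := Subgroup.relIndex_mul_relIndex ⊥ Q (V ⊔ Q) bot_le le_sup_right
  rw [Subgroup.relIndex_bot_left, Subgroup.relIndex_bot_left] at e1
  rw [← e1, A.card_Se (P.x (m + 1))]
  refine Nat.mul_le_mul_left _ ?_
  have e2 := Subgroup.relIndex_mul_relIndex ⊥ (V ⊓ Q) V bot_le inf_le_left
  rw [Subgroup.relIndex_bot_left, Subgroup.relIndex_bot_left, Subgroup.inf_relIndex_left,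
    A.inf_eq hs P hc, A.card_Vv (P.x 0) (P.e 0)] at e2
  rw [← Nat.eq_of_mul_eq_mul_left Nat.card_pos e2]
  exact Subgroup.relIndex_le_of_le_right le_sup_left
    (Nat.pos_of_ne_zero Subgroup.index_ne_zero_of_finite).ne'

theorem decomp_first {s : H} (h : s ∈ A.Se (P.e 0)) :
    ∃ w ∈ A.Vv (P.x (m + 1)), ∃ q ∈ A.Qv (P.x 0), s = w * q := by
  have := A.decomp hs P.rev (A.crit_rev hs P hc) (s := s) (by simpa [Path.rev] using h)
  simpa [Path.rev] using this

omit hs hc in
/-- The commutator group of the ends. -/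
def R {n : ℕ} (P : A.Path n) : Subgroup H := ⁅A.Vv (P.x 0), A.Vv (P.x n)⁆

omit hs hc in
theorem R_rev {n : ℕ} (P : A.Path n) : A.R P.rev = A.R P := by
  simp only [R, Path.rev, Nat.sub_zero, Nat.sub_self, Subgroup.commutator_comm]

theorem R_le : A.R P ≤ A.Oe (P.e 0) := Subgroup.commutator_le.2 fun v hv w hw =>
  commutator_mem_symm (A.quad_v (P.inc₁ 0 (by omega)) (A.Vv_le_Se_first hs P hc hw) hv)

theorem R_le_last : A.R P ≤ A.Oe (P.e m) := by
  rw [← A.R_rev]
  exact (A.R_le hs P.rev (A.crit_rev hs P hc)).trans (le_of_eq (by simp [Path.rev]))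

theorem R_eq : A.R P = ⁅A.Vv (P.x 0), A.Se (P.e 0)⁆ := by
  refine le_antisymm (Subgroup.commutator_mono le_rfl (A.Vv_le_Se_first hs P hc))
    (Subgroup.commutator_le.2 fun v hv s hmem => ?_)
  obtain ⟨w, hw, q, hq, rfl⟩ := A.decomp_first hs P hc hmem
  rw [commutator_mul_right, commutatorElement_eq_one_iff_mul_comm.2 (A.V_Q_v hq hv).symm, mul_one,
    mul_inv_cancel, mul_one]
  exact Subgroup.commutator_mem_commutator hv hw

theorem R_not_le : ¬ A.R P ≤ A.Cv (P.x 0) := by
  intro h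
  have hi := P.inc₁ 0 (by omega)
  have hr := A.crit_rev hs P hc
  simp only [Crit, Path.rev, Nat.sub_zero, Nat.sub_self] at hr
  obtain ⟨t, ht, htQ⟩ := SetLike.not_le_iff_exists.1 hr
  have hle : A.Vv (P.x 0) ≤ A.Oe (P.e 0) := fun v hv =>
    A.fixC_v hi (A.Vv_le_Se_first hs P hc ht) htQ hv
      (commutator_mem_symm (h (Subgroup.commutator_mem_commutator hv ht)))
  have h1 := Subgroup.card_le_of_le hle
  rw [A.card_Vv (P.x 0) (P.e 0)] at h1
  have := Nat.le_of_mul_le_mul_left (h1.trans (mul_one _).ge) Nat.card_pos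
  have := A.one_lt_q
  omega

end Amb

end Cfsg.Agent.PushUp62
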