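import Cfsg.Agent.PushUp62.Hua
import Cfsg.Agent.LocalEven61.PSLSylow
import Cfsg.Agent.Lib.LinearGroup.Generation

/-!
A module of order `q²` for a group over `PSL₂(q)`, with pairwise disjoint lines fixed by the
conjugates of a `p`-subgroup, is the natural `SL₂(q)`-module.
-/

set_option autoImplicit false
set_option linter.unusedSectionVars false
set_option linter.style.haveILetI false

namespace Cfsg.Agent.PushUp62

open scoped MatrixGroups
open Cfsg.Agent.PLocalB (upper lower)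
open Cfsg.Agent.LocalEven61 (pslMap)

variable {H : Type*} [Group H] {F : Type} [Field F] [Fintype F]

/-- `PSL₂(F)`. -/
abbrev PSL₂ (F : Type) [Field F] := Matrix.ProjectiveSpecialLinearGroup (Fin 2) F

/-- The image of `g` lies in the image of the upper triangular matrices. -/
def InBorel (π : H →* PSL₂ F) (g : H) : Prop := ∃ A : SL(2, F), pslMap A = π g ∧ A 1 0 = 0

theorem exists_scalar {A B : SL(2, F)} (h : pslMap A = pslMap B) :
    ∃ r : F, r ≠ 0 ∧ ∀ i j, B i j = A i j * r := by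
  have hz : pslMap (A⁻¹ * B) = 1 := by rw [map_mul, map_inv, h, inv_mul_cancel]
  obtain ⟨r, hr, hs⟩ :=
    Matrix.SpecialLinearGroup.mem_center_iff.1 ((QuotientGroup.eq_one_iff _).1 hz)
  rw [Fintype.card_fin] at hr
  refine ⟨r, fun h0 => by simp [h0] at hr, fun i j => ?_⟩
  have hB : (B : Matrix (Fin 2) (Fin 2) F) = A * Matrix.scalar (Fin 2) r := by
    rw [hs, ← Matrix.SpecialLinearGroup.coe_mul, mul_inv_cancel_left]
  rw [hB, Matrix.scalar_apply, Matrix.mul_diagonal]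

theorem upper_eq_of_psl {τ σ : F} (h : pslMap (upper τ) = pslMap (upper σ)) : τ = σ := by
  obtain ⟨r, -, hr⟩ := exists_scalar h
  have h00 : r = 1 := by simpa using (hr 0 0).symm
  simpa [h00] using (hr 0 1).symm

theorem inBorel_iff {π : H →* PSL₂ F} {g : H} {A : SL(2, F)} (hA : pslMap A = π g) :
    InBorel π g ↔ A 1 0 = 0 := by
  refine ⟨fun ⟨B, hB, h10⟩ => ?_, fun h => ⟨A, hA, h⟩⟩
  obtain ⟨r, hr0, hr⟩ := exists_scalar (hA.trans hB.symm)
  rw [hr 1 0, mul_eq_zero] at h10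
  exact h10.resolve_right hr0

/-- `!![0, -1; 1, 0]`. -/
def weyl : SL(2, F) := ⟨!![0, -1; 1, 0], by simp [Matrix.det_fin_two]⟩

@[simp] theorem coe_weyl : (weyl : SL(2, F)).1 = !![0, -1; 1, 0] := rfl

theorem weyl_upper_weyl (σ : F) : weyl * upper (-σ) * weyl⁻¹ = lower σ := by
  rw [mul_inv_eq_iff_eq_mul]
  apply Subtype.ext
  rw [Matrix.SpecialLinearGroup.coe_mul, Matrix.SpecialLinearGroup.coe_mul, coe_weyl,
    PLocalB.coe_upper, PLocalB.coe_lower, Matrix.mul_fin_two, Matrix.mul_fin_two]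
  simp

theorem coe_upper_weyl (τ : F) : (upper τ * weyl).1 = !![τ, -1; 1, 0] := by
  rw [Matrix.SpecialLinearGroup.coe_mul, coe_weyl, PLocalB.coe_upper, Matrix.mul_fin_two]
  simp

theorem upper_weyl_inv_mul (τ : F) (A : SL(2, F)) :
    ((upper τ * weyl)⁻¹ * A) 1 0 = τ * A 1 0 - A 0 0 := by
  rw [Matrix.SpecialLinearGroup.coe_mul, Matrix.SpecialLinearGroup.coe_inv, coe_upper_weyl,
    Matrix.adjugate_fin_two]
  simp [Matrix.mul_apply, Fin.sum_univ_two]
  ring

theorem exists_not_fixed {p : ℕ} [Fact p.Prime] {S : Subgroup H} (hS : IsPGroup p ↥S) {M : Type*}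
    [AddCommGroup M] [Finite M] [DistribMulAction H M] (hM : ∃ k, Nat.card M = p ^ k)
    (X : AddSubgroup M) (hX : ∀ s ∈ S, ∀ x ∈ X, s • x ∈ X) (hne : X ≠ ⊤) :
    ∃ v, v ∉ X ∧ ∀ s ∈ S, s • v - v ∈ X := by
  letI : MulAction ↥S (M ⧸ X) :=
    { smul := fun s => QuotientAddGroup.map X X (DistribSMul.toAddMonoidHom M (s : H))
        fun x hx => hX _ s.2 x hx
      one_smul := fun m => by
        induction m using QuotientAddGroup.induction_on with
        | _ v => exact congrArg QuotientAddGroup.mk (one_smul H v)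
      mul_smul := fun s t m => by
        induction m using QuotientAddGroup.induction_on with
        | _ v => exact congrArg QuotientAddGroup.mk (mul_smul (s : H) (t : H) v) }
  have hdvd : p ∣ Nat.card (M ⧸ X) := by
    obtain ⟨k, hk⟩ := hM
    have h1 : Nat.card (M ⧸ X) ∣ p ^ k := hk ▸ AddSubgroup.card_quotient_dvd_card X
    obtain ⟨j, -, hj⟩ := (Nat.dvd_prime_pow Fact.out).1 h1
    rcases Nat.eq_zero_or_pos j with h0 | h0
    · rw [h0, pow_zero] at hj
      exact absurd (AddSubgroup.index_eq_one.1 hj) hne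
    · exact hj ▸ dvd_pow_self p h0.ne'
  obtain ⟨m, hm, hm0⟩ := hS.exists_fixed_point_of_prime_dvd_card_of_fixed_point (M ⧸ X) hdvd
    (a := 0) (fun s => map_zero _)
  induction m using QuotientAddGroup.induction_on with
  | _ v =>
    refine ⟨v, fun hv => hm0 ((QuotientAddGroup.eq_zero_iff v).2 hv).symm, fun s hs => ?_⟩
    exact (QuotientAddGroup.eq_iff_sub_mem).1 (hm ⟨s, hs⟩)

/-- The hypotheses of the recognition theorem. -/
structure RecogData (p : ℕ) (π : H →* PSL₂ F) (S : Subgroup H) (M : Type*) [AddCommGroup M]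
    [DistribMulAction H M] (L : AddSubgroup M) : Prop where
  surj : Function.Surjective π
  pgroup : IsPGroup p ↥S
  mem_map : ∀ τ : F, ∃ s ∈ S, π s = pslMap (upper τ)
  map_le : ∀ s ∈ S, ∃ τ : F, π s = pslMap (upper τ)
  cardM : Nat.card M = Nat.card F * Nat.card F
  cardL : Nat.card ↥L = Nat.card F
  fixL : ∀ s ∈ S, ∀ x ∈ L, s • x = x
  ti : ∀ g, ¬ InBorel π g → ∀ x ∈ L, g • x ∈ L → x = 0
  gen : ∀ g, ¬ InBorel π g → S ⊔ S.map (MulAut.conj g).toMonoidHom = ⊤

namespace RecogData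

variable {p : ℕ} [Fact p.Prime] [CharP F p] {π : H →* PSL₂ F} {S : Subgroup H} {M : Type*}
  [AddCommGroup M] [Finite M] [DistribMulAction H M] {L : AddSubgroup M}
  (D : RecogData p π S M L)
include D

/-- A lift of `upper τ` in `S`. -/
noncomputable def a (τ : F) : H := (D.mem_map τ).choose

theorem a_mem (τ : F) : D.a τ ∈ S := (D.mem_map τ).choose_spec.1

theorem a_map (τ : F) : π (D.a τ) = pslMap (upper τ) := (D.mem_map τ).choose_spec.2

/-- A lift of `weyl`. -/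
noncomputable def w : H := (D.surj (pslMap weyl)).choose

theorem w_map : π D.w = pslMap weyl := (D.surj (pslMap weyl)).choose_spec

theorem aw_map (τ : F) : π (D.a τ * D.w) = pslMap (upper τ * weyl) := by
  rw [map_mul, map_mul, D.a_map, D.w_map]

theorem line_not_L (τ : F) {x : M} (hx : x ∈ L) (h : (D.a τ * D.w) • x ∈ L) : x = 0 := by
  refine D.ti _ ?_ x hx h
  rw [inBorel_iff (D.aw_map τ).symm, coe_upper_weyl]
  simp

theorem line_inj {τ σ : F} {x y : M} (hx : x ∈ L) (hy : y ∈ L) (hx0 : x ≠ 0)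
    (h : (D.a τ * D.w) • x = (D.a σ * D.w) • y) : τ = σ ∧ x = y := by
  have key : τ = σ := by
    by_contra hne
    apply hx0
    refine D.ti ((D.a σ * D.w)⁻¹ * (D.a τ * D.w)) ?_ x hx (by rwa [mul_smul, h, inv_smul_smul])
    have hA : pslMap ((upper σ * weyl)⁻¹ * (upper τ * weyl)) =
        π ((D.a σ * D.w)⁻¹ * (D.a τ * D.w)) := by
      rw [map_mul (pslMap (F := F)), map_inv (pslMap (F := F)), map_mul π ((D.a σ * D.w)⁻¹), map_inv π, D.aw_map,
        D.aw_map]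
    rw [inBorel_iff hA, upper_weyl_inv_mul, coe_upper_weyl]
    simpa [sub_eq_zero] using Ne.symm hne
  exact ⟨key, smul_left_cancel _ (key ▸ h)⟩

theorem cover {v : M} (hv : v ∉ L) : ∃ τ : F, ∃ x ∈ L, (D.a τ * D.w) • x = v := by
  classical
  haveI := Fintype.ofFinite M
  let f : F × {x : M // x ∈ L ∧ x ≠ 0} → {v : M // v ∉ L} := fun t =>
    ⟨(D.a t.1 * D.w) • (t.2 : M), fun h => t.2.2.2 (D.line_not_L t.1 t.2.2.1 h)⟩
  have hinj : Function.Injective f := by
    rintro ⟨τ, x, hx⟩ ⟨σ, y, hy⟩ h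
    obtain ⟨h1, h2⟩ := D.line_inj hx.1 hy.1 hx.2 (congrArg Subtype.val h)
    exact Prod.ext h1 (Subtype.ext h2)
  have hL : Fintype.card {x : M // x ∈ L} = Nat.card F := by
    rw [← Nat.card_eq_fintype_card]; exact D.cardL
  have hL0 : Fintype.card {x : M // x ∈ L ∧ x ≠ 0} = Nat.card F - 1 := by
    rw [← hL, Fintype.card_subtype, Fintype.card_subtype,
      show Finset.univ.filter (fun x : M => x ∈ L ∧ x ≠ 0) =
        (Finset.univ.filter (fun x : M => x ∈ L)).erase 0 by ext; simp [and_comm],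
      Finset.card_erase_of_mem (by simp)]
  have hcard : Fintype.card (F × {x : M // x ∈ L ∧ x ≠ 0}) = Fintype.card {v : M // v ∉ L} := by
    rw [Fintype.card_prod, hL0, Fintype.card_subtype_compl, hL, ← Nat.card_eq_fintype_card (α := F),
      ← Nat.card_eq_fintype_card (α := M), D.cardM, Nat.mul_sub, mul_one]
  obtain ⟨⟨τ, x, hx⟩, h⟩ := ((Fintype.bijective_iff_injective_and_card f).2 ⟨hinj, hcard⟩).2 ⟨v, hv⟩
  exact ⟨τ, x, hx.1, congrArg Subtype.val h⟩

theorem stab {g : H} (hg : InBorel π g) {x : M} (hx : x ∈ L) : g • x ∈ L := by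
  by_contra hv
  obtain ⟨τ, y, hy, h⟩ := D.cover hv
  obtain ⟨A, hA, h10⟩ := hg
  have hz : x = 0 := by
    refine D.ti ((D.a τ * D.w)⁻¹ * g) ?_ x hx (by rwa [mul_smul, ← h, inv_smul_smul])
    have hA' : pslMap ((upper τ * weyl)⁻¹ * A) = π ((D.a τ * D.w)⁻¹ * g) := by
      rw [map_mul (pslMap (F := F)), map_inv (pslMap (F := F)), map_mul π ((D.a τ * D.w)⁻¹), map_inv π, D.aw_map, hA]
    rw [inBorel_iff hA', upper_weyl_inv_mul, h10]
    have hd := PLocalB.det_entries A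
    intro h0
    simp at h0
    simp [h0, h10] at hd
  exact hv (by rw [hz, smul_zero]; exact L.zero_mem)

theorem smul_a_self (τ : F) {x : M} (hx : x ∈ L) : D.a τ • x = x := D.fixL _ (D.a_mem τ) x hx

theorem smul_w_L {x : M} (hx : x ∈ L) (k : H) (hk : π k = 1) : ∃ y ∈ L, k • D.w • x = D.w • y := by
  refine ⟨(D.w⁻¹ * k * D.w) • x, D.stab ⟨1, ?_, by simp⟩ hx, ?_⟩
  · simp [map_mul, map_inv, hk]
  · rw [← mul_smul, ← mul_smul]; congr 1; group

theorem inf_w {v x : M} (hv : v ∈ L) (hx : x ∈ L) (h : v = D.w • x) : v = 0 := by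
  have : x = 0 := by
    refine D.ti D.w ?_ x hx (h ▸ hv)
    rw [inBorel_iff D.w_map.symm]
    simp [weyl]
  rw [h, this, smul_zero]

theorem exists_decomp (v : M) : ∃ x ∈ L, ∃ y ∈ L, v = x + D.w • y := by
  let f : ↥L × ↥L → M := fun t => (t.1 : M) + D.w • (t.2 : M)
  have hinj : Function.Injective f := by
    rintro ⟨x, y⟩ ⟨x', y'⟩ h
    have h0 : (x : M) - x' = D.w • ((y' : M) - y) := by
      rw [smul_sub, sub_eq_sub_iff_add_eq_add]
      exact h.trans (add_comm _ _)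
    have h1 := D.inf_w (L.sub_mem x.2 x'.2) (L.sub_mem y'.2 y.2) h0
    rw [h1, eq_comm, smul_eq_zero_iff_eq, sub_eq_zero] at h0
    exact Prod.ext (Subtype.ext (sub_eq_zero.1 h1)) (Subtype.ext h0.symm)
  obtain ⟨⟨x, y⟩, h⟩ := ((Nat.bijective_iff_injective_and_card f).2
    ⟨hinj, by rw [Nat.card_prod, D.cardL, D.cardM]⟩).2 v
  exact ⟨x, x.2, y, y.2, h.symm⟩

theorem smul_eq_of_map_eq_one {k : H} (hk : k ∈ S) (hk1 : π k = 1) (v : M) : k • v = v := by
  obtain ⟨x, hx, y, hy, rfl⟩ := D.exists_decomp v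
  rw [smul_add, D.fixL k hk x hx, add_right_inj]
  by_cases hy0 : y = 0
  · simp [hy0]
  obtain ⟨x₀, hx₀, hne⟩ : ∃ x₀ ∈ L, x₀ ≠ 0 := by
    haveI : Nontrivial ↥L := Finite.one_lt_card_iff_nontrivial.1 (D.cardL ▸ Finite.one_lt_card)
    obtain ⟨⟨x₀, h⟩, h'⟩ := exists_ne (0 : ↥L)
    exact ⟨x₀, h, fun h0 => h' (Subtype.ext h0)⟩
  have hnL : x₀ + D.w • y ∉ L := fun h => hy0 (by
    have := D.inf_w (by simpa using L.sub_mem h hx₀) hy rfl
    simpa [smul_eq_zero_iff_eq] using this)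
  obtain ⟨τ, z, hz, hzv⟩ := D.cover hnL
  obtain ⟨y', hy', hky⟩ := D.smul_w_L hy k hk1
  set g := D.a τ * D.w with hg
  have hkz : (g⁻¹ * k * g) • z ∈ L :=
    D.stab ⟨1, by simp [map_mul, map_inv, hk1], by simp⟩ hz
  have hnB : ¬ InBorel π (D.w⁻¹ * g) := fun hB => hne (by
    refine D.inf_w hx₀ (L.sub_mem (D.stab hB hz) hy) ?_
    rw [smul_sub, mul_smul, smul_inv_smul, hzv, add_sub_cancel_right])
  have e1 : D.w • y' = D.w • y + (g • (g⁻¹ * k * g) • z - g • z) := by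
    rw [← mul_smul, show g * (g⁻¹ * k * g) = k * g by group, mul_smul, hzv, smul_add,
      D.fixL k hk x₀ hx₀, hky]
    abel
  have e2 : (D.w⁻¹ * g) • ((g⁻¹ * k * g) • z - z) = y' - y := by
    rw [mul_smul, inv_smul_eq_iff, smul_sub, smul_sub, e1]
    abel
  have e3 := D.ti _ hnB _ (L.sub_mem hkz hz) (e2 ▸ L.sub_mem hy' hy)
  rw [hky, e1, ← smul_sub g, e3, smul_zero, add_zero]

theorem smul_eq_of_map_eq {s t : H} (hs : s ∈ S) (ht : t ∈ S) (h : π s = π t) (v : M) :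
    s • v = t • v := by
  have := D.smul_eq_of_map_eq_one (S.mul_mem (S.inv_mem ht) hs)
    (by rw [map_mul, map_inv, h, inv_mul_cancel]) v
  rwa [mul_smul, inv_smul_eq_iff] at this

theorem a_add (τ σ : F) (v : M) : D.a (τ + σ) • v = D.a τ • D.a σ • v := by
  rw [← mul_smul]
  refine D.smul_eq_of_map_eq (D.a_mem _) (S.mul_mem (D.a_mem _) (D.a_mem _)) ?_ v
  rw [D.a_map, map_mul, D.a_map, D.a_map, ← map_mul, PLocalB.upper_mul]

theorem a_zero (v : M) : D.a 0 • v = v := D.smul_eq_of_map_eq_one (D.a_mem 0) (by simp [D.a_map]) v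

theorem mem_L_of_fixed {τ : F} (hτ : τ ≠ 0) {v : M} (h : D.a τ • v = v) : v ∈ L := by
  by_contra hv
  obtain ⟨σ, x, hx, rfl⟩ := D.cover hv
  have hx0 : x ≠ 0 := fun h0 => hv (by rw [h0, smul_zero]; exact L.zero_mem)
  rw [mul_smul, ← D.a_add, ← mul_smul, ← mul_smul] at h
  exact hτ (add_eq_right.1 (D.line_inj hx hx hx0 h).1)

theorem exists_pow_card : ∃ k, Nat.card M = p ^ k := by
  obtain ⟨n, -, hn⟩ := FiniteField.card F p
  exact ⟨n + n, by rw [D.cardM, Nat.card_eq_fintype_card, hn, pow_add]⟩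

/-- The action of `S` is quadratic. -/
theorem quad (τ : F) (v : M) : D.a τ • v - v ∈ L := by
  by_contra hnot
  let V₁ : AddSubgroup M :=
    { carrier := {v | ∀ σ : F, D.a σ • v - v ∈ L}
      add_mem' := fun {x y} hx hy σ => by
        rw [smul_add, show D.a σ • x + D.a σ • y - (x + y) = (D.a σ • x - x) + (D.a σ • y - y) by abel]
        exact L.add_mem (hx σ) (hy σ)
      zero_mem' := fun σ => by rw [smul_zero, sub_zero]; exact L.zero_mem
      neg_mem' := fun {x} hx σ => by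
        rw [smul_neg, show -(D.a σ • x) - -x = -(D.a σ • x - x) by abel]
        exact L.neg_mem (hx σ) }
  have hLV : L ≤ V₁ := fun x hx σ => by rw [D.smul_a_self σ hx, sub_self]; exact L.zero_mem
  have hinv : ∀ s ∈ S, ∀ x ∈ V₁, s • x ∈ V₁ := fun s hs x hx => by
    obtain ⟨σ, hσ⟩ := D.map_le s hs
    rw [D.smul_eq_of_map_eq hs (D.a_mem σ) (hσ.trans (D.a_map σ).symm),
      show D.a σ • x = x + (D.a σ • x - x) by abel]
    exact V₁.add_mem hx (hLV (hx σ))
  obtain ⟨u, hu, huV⟩ := exists_not_fixed D.pgroup D.exists_pow_card V₁ hinv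
    fun htop => hnot ((htop ▸ AddSubgroup.mem_top v : v ∈ V₁) τ)
  have hinjN : ∀ δ : F, δ ≠ 0 → D.a δ • u - u ∉ L := by
    intro δ hδ hmem
    refine hu fun σ => D.mem_L_of_fixed hδ ?_
    have e := D.smul_a_self σ hmem
    rw [smul_sub, ← D.a_add, add_comm σ δ] at e
    rw [smul_sub, ← D.a_add, sub_eq_sub_iff_sub_eq_sub, e]
  let f : F × ↥L → ↥V₁ := fun t =>
    ⟨(D.a t.1 • u - u) + t.2, V₁.add_mem (huV _ (D.a_mem _)) (hLV t.2.2)⟩
  have hinj : Function.Injective f := by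
    rintro ⟨σ, x⟩ ⟨σ', y⟩ h
    have h' : D.a σ • u - D.a σ' • u = (y : M) - x := by
      have := congrArg Subtype.val h
      simp only [f] at this
      rw [← sub_eq_zero] at this
      rw [← sub_eq_zero, ← this]
      abel
    have hσ : σ = σ' := by
      by_contra hne
      refine hinjN (σ - σ') (sub_ne_zero.2 hne) ?_
      have h1 : D.a σ' • (D.a (σ - σ') • u - u) = (y : M) - x := by
        rw [smul_sub, ← D.a_add, add_sub_cancel, h']
      rw [smul_eq_iff_eq_inv_smul] at h1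
      rw [h1, D.fixL _ (S.inv_mem (D.a_mem σ')) _ (L.sub_mem y.2 x.2)]
      exact L.sub_mem y.2 x.2
    subst hσ
    rw [sub_self, eq_comm, sub_eq_zero] at h'
    exact Prod.ext rfl (Subtype.ext h'.symm)
  have h1 := Nat.card_le_card_of_injective f hinj
  rw [Nat.card_prod, D.cardL, ← D.cardM] at h1
  exact hu ((AddSubgroup.eq_top_of_le_card V₁ h1) ▸ AddSubgroup.mem_top u)

/-- The opposite root group. -/
noncomputable def b (σ : F) : H := D.w * D.a (-σ) * D.w⁻¹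

theorem b_map (σ : F) : π (D.b σ) = pslMap (lower σ) := by
  rw [b, map_mul π, map_mul π, map_inv π, D.w_map, D.a_map, ← weyl_upper_weyl, map_mul (pslMap (F := F)),
    map_mul (pslMap (F := F)), map_inv (pslMap (F := F))]

theorem b_smul_w (σ : F) {y : M} (hy : y ∈ L) : D.b σ • D.w • y = D.w • y := by
  rw [b, mul_smul, mul_smul, inv_smul_smul, D.smul_a_self _ hy]

theorem b_add (σ σ' : F) (v : M) : D.b (σ + σ') • v = D.b σ • D.b σ' • v := by
  simp only [b, mul_smul, inv_smul_smul, ← D.a_add, neg_add]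

theorem pslMap_comp_unique (ρ₁ ρ₂ : H →* SL(2, F)) (h1 : ∀ g, pslMap (ρ₁ g) = π g)
    (h2 : ∀ g, pslMap (ρ₂ g) = π g) (hS : ∀ s ∈ S, ρ₁ s = ρ₂ s) : ρ₁ = ρ₂ := by
  have hc : ∀ g, (ρ₂ g)⁻¹ * ρ₁ g ∈ Subgroup.center SL(2, F) := fun g => by
    refine (QuotientGroup.eq_one_iff _).1 ?_
    show pslMap ((ρ₂ g)⁻¹ * ρ₁ g) = 1
    rw [map_mul, map_inv, h1, h2, inv_mul_cancel]
  have hgen : S ⊔ S.map (MulAut.conj D.w).toMonoidHom = ⊤ := D.gen _ (by
    rw [inBorel_iff D.w_map.symm]; simp [weyl])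
  refine MonoidHom.eq_of_eqOn_top ?_
  rw [← hgen]
  intro g hg
  refine (sup_le (fun s hs => hS s hs) ?_ : _ ≤ MonoidHom.eqLocus ρ₁ ρ₂) hg
  rintro _ ⟨s, hs, rfl⟩
  show ρ₁ (D.w * s * D.w⁻¹) = ρ₂ (D.w * s * D.w⁻¹)
  have e : ρ₁ D.w = ρ₂ D.w * ((ρ₂ D.w)⁻¹ * ρ₁ D.w) := by group
  simp only [map_mul, map_inv]
  rw [e, hS s hs, mul_assoc (ρ₂ D.w), ← Subgroup.mem_center_iff.1 (hc D.w) (ρ₂ s)]
  group

end RecogData

end Cfsg.Agent.PushUp62
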