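import Cfsg.Agent.PushUp62.Recog

/-!
The coordinates and the representation of the recognition theorem.
-/

set_option autoImplicit false
set_option linter.unusedSectionVars false
set_option linter.style.haveILetI false

namespace Cfsg.Agent.PushUp62

open scoped MatrixGroups
open Cfsg.Agent.PLocalB (upper lower)
open Cfsg.Agent.LocalEven61 (pslMap sl2_smul_apply)

theorem eq_top_of_upper_lower {F : Type*} [Field F] {K : Subgroup SL(2, F)}
    (hu : ∀ τ, upper τ ∈ K) (hl : ∀ τ, lower τ ∈ K) : K = ⊤ := by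
  refine LinearGroup.eq_top_of_transvection_mem fun i j hij c => ?_
  fin_cases i <;> fin_cases j
  · exact absurd rfl hij
  · convert hu c using 1
    ext a b; fin_cases a <;> fin_cases b <;> simp [upper, Matrix.SpecialLinearGroup.transvection, Matrix.transvection]
  · convert hl c using 1
    ext a b; fin_cases a <;> fin_cases b <;> simp [lower, Matrix.SpecialLinearGroup.transvection, Matrix.transvection]
  · exact absurd rfl hij

variable {H : Type*} [Group H] {F : Type} [Field F] [Fintype F]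

/-- The coordinates given by the recognition theorem. -/
structure Natural (π : H →* PSL₂ F) (S : Subgroup H) (M : Type*) [AddCommGroup M]
    [DistribMulAction H M] (L : AddSubgroup M) where
  /-- the representation -/
  rep : H →* SL(2, F)
  /-- the coordinates -/
  crd : M ≃+ (Fin 2 → F)
  surj : Function.Surjective rep
  smul_crd : ∀ g v, crd (g • v) = (rep g).1.mulVec (crd v)
  psl_rep : ∀ g, pslMap (rep g) = π g
  rep_S : ∀ s ∈ S, rep s ∈ LocalEven61.upperGroup F
  mem_L : ∀ v, v ∈ L ↔ crd v 1 = 0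

namespace Natural

variable {π : H →* PSL₂ F} {S : Subgroup H} {M : Type*} [AddCommGroup M]
    [DistribMulAction H M] {L : AddSubgroup M} (N : Natural π S M L)

theorem rep_eq_one_iff (g : H) : N.rep g = 1 ↔ ∀ v : M, g • v = v := by
  refine ⟨fun h v => N.crd.injective (by rw [N.smul_crd, h]; simp), fun h => ?_⟩
  refine Subtype.ext (Matrix.ext_of_mulVec_single fun j => ?_)
  have := N.smul_crd g (N.crd.symm (Pi.single j 1))
  rw [h, AddEquiv.apply_symm_apply] at this
  rw [Matrix.SpecialLinearGroup.coe_one, Matrix.one_mulVec, ← this]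

end Natural

namespace RecogData

variable {p : ℕ} [Fact p.Prime] [CharP F p] {π : H →* PSL₂ F} {S : Subgroup H} {M : Type*}
  [AddCommGroup M] [Finite M] [DistribMulAction H M] {L : AddSubgroup M}
  (D : RecogData p π S M L)
include D

theorem exists_natural : Nonempty (Natural π S M L) := by
  classical
  set Lw : AddSubgroup M := L.map (DistribSMul.toAddMonoidHom M D.w) with hLw
  have hmemw : ∀ x : ↥Lw, ∃ z ∈ L, D.w • z = (x : M) := fun x => x.2
  have hLwbot : ∀ v ∈ L, v ∈ Lw → v = 0 := by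
    rintro v hv ⟨z, hz, rfl⟩
    exact D.inf_w hv hz rfl
  have hcardw : Nat.card ↥Lw = Nat.card F := by
    rw [← D.cardL]
    exact (Nat.card_congr (L.equivMapOfInjective (DistribSMul.toAddMonoidHom M D.w)
      (MulAction.injective D.w)).toEquiv).symm
  have hbw : ∀ σ, ∀ x : ↥Lw, D.b σ • (x : M) = x := fun σ x => by
    obtain ⟨z, hz, hzx⟩ := hmemw x
    rw [← hzx]; exact D.b_smul_w σ hz
  -- the root maps
  let T : F → (↥Lw →+ ↥L) := fun τ => AddMonoidHom.mk'
    (fun x => ⟨D.a τ • (x : M) - x, D.quad τ _⟩) fun x y => Subtype.ext (by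
      simp only [AddSubgroup.coe_add, smul_add]; abel)
  let U : F → (↥L →+ ↥Lw) := fun σ => AddMonoidHom.mk'
    (fun x => ⟨D.b σ • (x : M) - x, ⟨_, D.quad (-σ) (D.w⁻¹ • (x : M)), by
      simp [RecogData.b, smul_sub, mul_smul, smul_inv_smul]⟩⟩) fun x y => Subtype.ext (by
      simp only [AddSubgroup.coe_add, smul_add]; abel)
  have hT : ∀ τ x, (T τ x : M) = D.a τ • (x : M) - x := fun _ _ => rfl
  have hU : ∀ σ x, (U σ x : M) = D.b σ • (x : M) - x := fun _ _ => rfl
  have hTadd : ∀ τ σ, T (τ + σ) = T τ + T σ := fun τ σ => AddMonoidHom.ext fun x => Subtype.ext (by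
    have e := D.smul_a_self τ (D.quad σ (x : M))
    rw [smul_sub, ← D.a_add] at e
    simp only [AddMonoidHom.add_apply, AddSubgroup.coe_add, hT]
    rw [← e]; abel)
  have hUadd : ∀ τ σ, U (τ + σ) = U τ + U σ := fun τ σ => AddMonoidHom.ext fun x => Subtype.ext (by
    have e : D.b τ • (D.b σ • (x : M) - x) = D.b σ • (x : M) - x := hbw τ (U σ x)
    rw [smul_sub, ← D.b_add] at e
    simp only [AddMonoidHom.add_apply, AddSubgroup.coe_add, hU]
    rw [← e]; abel)
  have hTinj : ∀ τ, τ ≠ 0 → Function.Injective (T τ) := fun τ hτ => by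
    rw [injective_iff_map_eq_zero]
    intro x hx
    exact Subtype.ext (hLwbot _ (D.mem_L_of_fixed hτ (sub_eq_zero.1 (congrArg Subtype.val hx))) x.2)
  have hUT : ∀ τ, τ ≠ 0 → ∀ x, U τ⁻¹ (T τ x) = x := fun τ hτ x => by
    have hB : InBorel π (D.b (-τ⁻¹) * (D.a τ * D.w)) := by
      refine ⟨lower (-τ⁻¹) * (upper τ * weyl), ?_, ?_⟩
      · rw [map_mul (pslMap (F := F)), ← D.b_map, ← D.aw_map, ← map_mul π]
      · rw [Matrix.SpecialLinearGroup.coe_mul, coe_upper_weyl, PLocalB.coe_lower]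
        simp [Matrix.mul_apply, Fin.sum_univ_two, hτ]
    obtain ⟨z, hz, hzx⟩ := hmemw x
    have hmem := D.stab hB hz
    rw [mul_smul, mul_smul, hzx, show D.a τ • (x : M) = (T τ x : M) + x by rw [hT]; abel,
      smul_add, hbw] at hmem
    have e : D.b (-τ⁻¹) • (T τ x : M) = (U (-τ⁻¹) (T τ x) : M) + T τ x := by rw [hU]; abel
    rw [e, add_right_comm, AddSubgroup.add_mem_cancel_right L (T τ x).2] at hmem
    have h0 := hLwbot _ hmem (Lw.add_mem (U _ _).2 x.2)
    have hneg : U (-τ⁻¹) = -U τ⁻¹ := map_neg (AddMonoidHom.mk' U hUadd) _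
    refine Subtype.ext ?_
    rw [hneg, AddMonoidHom.neg_apply, AddSubgroup.coe_neg, neg_add_eq_zero] at h0
    exact h0
  have hbij : Function.Bijective (T 1) := (Nat.bijective_iff_injective_and_card _).2
    ⟨hTinj 1 one_ne_zero, by rw [hcardw, D.cardL]⟩
  let T1 : ↥Lw ≃+ ↥L := AddEquiv.ofBijective (T 1) hbij
  let φ : F →+ AddMonoid.End ↥Lw := AddMonoidHom.mk' (fun x => T1.symm.toAddMonoidHom.comp (T x))
    fun x y => by rw [hTadd, AddMonoidHom.comp_add]; rfl
  let ψ : F →+ AddMonoid.End ↥Lw := AddMonoidHom.mk' (fun x => (U x).comp T1.toAddMonoidHom)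
    fun x y => by rw [hUadd, AddMonoidHom.add_comp]; rfl
  have hφ : ∀ τ v, φ τ v = T1.symm (T τ v) := fun _ _ => rfl
  have hψ : ∀ σ v, ψ σ v = U σ (T1 v) := fun _ _ => rfl
  have h2 : ∀ x, x ≠ 0 → ψ x⁻¹ * φ x = 1 := fun x hx => AddMonoidHom.ext fun v => by
    show ψ x⁻¹ (φ x v) = v
    rw [hφ, hψ, AddEquiv.apply_symm_apply, hUT x hx]
  have h1 : ∀ x, x ≠ 0 → φ x * ψ x⁻¹ = 1 := fun x hx => AddMonoidHom.ext fun v => by
    show φ x (ψ x⁻¹ v) = v
    obtain ⟨u, hu⟩ := ((Nat.bijective_iff_injective_and_card (T x)).2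
      ⟨hTinj x hx, by rw [hcardw, D.cardL]⟩).2 (T1 v)
    rw [hψ, ← hu, hUT x hx, hφ, hu, AddEquiv.symm_apply_apply]
  have hone : φ 1 = 1 := AddMonoidHom.ext fun v => T1.symm_apply_apply v
  obtain ⟨heq, hmul⟩ := hua φ ψ hone h1 h2
  haveI : Nontrivial ↥Lw := Finite.one_lt_card_iff_nontrivial.1 (hcardw ▸ Finite.one_lt_card)
  obtain ⟨e, he⟩ := exists_ne (0 : ↥Lw)
  have hφ0 : ∀ x, φ x e = 0 → x = 0 := fun x hx => by
    by_contra h0
    apply he
    have := DFunLike.congr_fun (h2 x h0) e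
    rw [AddMonoid.End.coe_mul, Function.comp_apply, hx, map_zero] at this
    exact this.symm
  have hTφ : ∀ τ x, T τ (φ x e) = T (τ * x) e := fun τ x => by
    apply T1.symm.injective
    rw [← hφ, ← hφ, hmul]
    rfl
  have hUT' : ∀ σ x, U σ (T x e) = φ (σ * x) e := fun σ x => by
    have : T x e = T1 (φ x e) := by rw [hφ, AddEquiv.apply_symm_apply]
    rw [this, ← hψ, heq, hmul]
    rfl
  have hφadd : ∀ x y (v : ↥Lw), (φ (x + y) v : M) = (φ x v : M) + (φ y v : M) := fun x y v => by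
    rw [map_add]; rfl
  -- coordinates
  let pt : (Fin 2 → F) →+ M := AddMonoidHom.mk' (fun u => (T (u 0) e : M) + (φ (u 1) e : M))
    fun u v => by
      simp only [Pi.add_apply, hTadd, hφadd, AddMonoidHom.add_apply, AddSubgroup.coe_add]
      abel
  have hpt : ∀ u, pt u = (T (u 0) e : M) + (φ (u 1) e : M) := fun _ => rfl
  have hptinj : Function.Injective pt := by
    rw [injective_iff_map_eq_zero]
    intro u hu
    rw [hpt, add_eq_zero_iff_eq_neg] at hu
    have h0 := hLwbot _ (T (u 0) e).2 (hu ▸ Lw.neg_mem (φ (u 1) e).2)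
    have h10 : u 1 = 0 := hφ0 _ (Subtype.ext (by simpa [h0] using hu.symm))
    have h00 : u 0 = 0 := hφ0 _ (by
      rw [hφ, show T (u 0) e = 0 from Subtype.ext h0, map_zero])
    funext i; fin_cases i <;> simp [h00, h10]
  have hptbij : Function.Bijective pt := (Nat.bijective_iff_injective_and_card _).2
    ⟨hptinj, by rw [Nat.card_fun, Nat.card_fin, D.cardM, sq]⟩
  let crd : M ≃+ (Fin 2 → F) := (AddEquiv.ofBijective pt hptbij).symm
  have hcrd : ∀ u, crd (pt u) = u := fun u => (AddEquiv.ofBijective pt hptbij).symm_apply_apply u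
  -- generators
  have hA : ∀ τ u, D.a τ • pt u = pt ((upper τ).1.mulVec u) := fun τ u => by
    rw [hpt, hpt, sl2_smul_apply, sl2_smul_apply, smul_add, D.smul_a_self _ (T (u 0) e).2,
      show D.a τ • (φ (u 1) e : M) = (T τ (φ (u 1) e) : M) + φ (u 1) e by rw [hT]; abel, hTφ]
    simp only [upper, one_mul, zero_mul, zero_add, Matrix.of_apply, Matrix.cons_val', Matrix.cons_val_zero,
      Matrix.cons_val_one, Matrix.empty_val', Matrix.cons_val_fin_one, hTadd, AddMonoidHom.add_apply,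
      AddSubgroup.coe_add]
    abel
  have hB : ∀ σ u, D.b σ • pt u = pt ((lower σ).1.mulVec u) := fun σ u => by
    rw [hpt, hpt, sl2_smul_apply, sl2_smul_apply, smul_add, hbw,
      show D.b σ • (T (u 0) e : M) = (U σ (T (u 0) e) : M) + T (u 0) e by rw [hU]; abel, hUT']
    simp only [lower, one_mul, zero_mul, add_zero, Matrix.of_apply, Matrix.cons_val', Matrix.cons_val_zero,
      Matrix.cons_val_one, Matrix.empty_val', Matrix.cons_val_fin_one, hφadd]
    abel
  -- every element is linear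
  let K : Subgroup H :=
    { carrier := {g | ∃ A : SL(2, F), ∀ u, g • pt u = pt (A.1.mulVec u)}
      one_mem' := ⟨1, fun u => by simp⟩
      mul_mem' := fun {g h} ⟨A, hA⟩ ⟨B, hB⟩ => ⟨A * B, fun u => by
        rw [mul_smul, hB, hA, Matrix.SpecialLinearGroup.coe_mul, Matrix.mulVec_mulVec]⟩
      inv_mem' := fun {g} ⟨A, hA⟩ => ⟨A⁻¹, fun u => by
        rw [inv_smul_eq_iff, hA, Matrix.mulVec_mulVec, ← Matrix.SpecialLinearGroup.coe_mul,
          mul_inv_cancel, Matrix.SpecialLinearGroup.coe_one, Matrix.one_mulVec]⟩ }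
  have hSa : ∀ s ∈ S, ∃ τ, π s = pslMap (upper τ) ∧ ∀ v : M, s • v = D.a τ • v := fun s hs => by
    obtain ⟨τ, hτ⟩ := D.map_le s hs
    exact ⟨τ, hτ, D.smul_eq_of_map_eq hs (D.a_mem τ) (hτ.trans (D.a_map τ).symm)⟩
  have hSw : ∀ s ∈ S, ∃ σ, π (D.w * s * D.w⁻¹) = pslMap (lower σ) ∧
      ∀ v : M, (D.w * s * D.w⁻¹) • v = D.b σ • v := fun s hs => by
    obtain ⟨τ, hτ, hact⟩ := hSa s hs
    refine ⟨-τ, ?_, fun v => ?_⟩
    · rw [← D.b_map, RecogData.b, neg_neg, map_mul π, map_mul π, map_mul π, map_mul π, hτ, D.a_map]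
    · rw [RecogData.b, neg_neg, mul_smul, mul_smul, hact, ← mul_smul, ← mul_smul]
  have hgen : S ⊔ S.map (MulAut.conj D.w).toMonoidHom = ⊤ := D.gen _ (by
    rw [inBorel_iff D.w_map.symm]; simp [weyl])
  have hK : ∀ g : H, ∃ A : SL(2, F), ∀ u, g • pt u = pt (A.1.mulVec u) := by
    have : (⊤ : Subgroup H) ≤ K := hgen ▸ sup_le
      (fun s hs => by
        obtain ⟨τ, -, hact⟩ := hSa s hs
        exact ⟨upper τ, fun u => by rw [hact, hA]⟩)
      (by
        rintro _ ⟨s, hs, rfl⟩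
        obtain ⟨σ, -, hact⟩ := hSw s hs
        exact ⟨lower σ, fun u => by
          show (D.w * s * D.w⁻¹) • pt u = _
          rw [hact, hB]⟩)
    exact fun g => this (Subgroup.mem_top g)
  choose R hR using hK
  have huniq : ∀ g A, (∀ u, g • pt u = pt (A.1.mulVec u)) → R g = A := fun g A h =>
    Subtype.ext (Matrix.ext_of_mulVec_single fun j => hptinj (by rw [← hR, h]))
  let rep : H →* SL(2, F) := MonoidHom.mk' R fun g h => huniq _ _ fun u => by
    rw [mul_smul, hR h, hR g, Matrix.SpecialLinearGroup.coe_mul, Matrix.mulVec_mulVec]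
  have hrepS : ∀ s ∈ S, ∃ τ, rep s = upper τ ∧ π s = pslMap (upper τ) := fun s hs => by
    obtain ⟨τ, hτ, hact⟩ := hSa s hs
    exact ⟨τ, huniq _ _ fun u => by rw [hact, hA], hτ⟩
  refine ⟨{ rep := rep, crd := crd, surj := ?_, smul_crd := ?_, psl_rep := ?_, rep_S := ?_,
            mem_L := ?_ }⟩
  · rw [← MonoidHom.range_eq_top]
    refine eq_top_of_upper_lower (fun τ => ⟨D.a τ, huniq _ _ (hA τ)⟩) fun τ => ⟨D.b τ, huniq _ _ (hB τ)⟩
  · intro g v
    obtain ⟨u, rfl⟩ := hptbij.2 v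
    rw [hR, hcrd, hcrd]
    rfl
  · intro g
    have : (⊤ : Subgroup H) ≤ MonoidHom.eqLocus ((pslMap (F := F)).comp rep) π := hgen ▸ sup_le
      (fun s hs => by
        obtain ⟨τ, hτ, hτ'⟩ := hrepS s hs
        show pslMap (rep s) = π s
        rw [hτ, hτ'])
      (by
        rintro _ ⟨s, hs, rfl⟩
        obtain ⟨σ, hσ, hact⟩ := hSw s hs
        show pslMap (R (D.w * s * D.w⁻¹)) = π (D.w * s * D.w⁻¹)
        rw [huniq _ _ (fun u => by rw [hact, hB]), hσ])
    exact this (Subgroup.mem_top g)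
  · intro s hs
    obtain ⟨τ, hτ, -⟩ := hrepS s hs
    exact ⟨Multiplicative.ofAdd τ, hτ.symm⟩
  · intro v
    obtain ⟨u, rfl⟩ := hptbij.2 v
    rw [hcrd, hpt, AddSubgroup.add_mem_cancel_left L (T (u 0) e).2]
    refine ⟨fun h => hφ0 _ (Subtype.ext (hLwbot _ h (φ (u 1) e).2)), fun h => ?_⟩
    simp [h]

end RecogData

end Cfsg.Agent.PushUp62
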