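import Cfsg.Agent.PushUp62.RecogMain

/-!
Abelian sections that are natural `SL₂`-modules, described inside an ambient group.
-/

set_option autoImplicit false
set_option linter.unusedSectionVars false
set_option linter.style.haveILetI false

namespace Cfsg.Agent.PushUp62

open scoped MatrixGroups commutatorElement
open Cfsg.Agent.PLocalB (upper lower)
open Cfsg.Agent.LocalEven61 (pslMap sl2_smul_apply)

variable {H : Type*} [Group H] {F : Type} [Field F] [Fintype F]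

/-- Conjugate of a subgroup. -/
def cj (g : H) (X : Subgroup H) : Subgroup H := X.map (MulAut.conj g).toMonoidHom

theorem mem_cj {g x : H} {X : Subgroup H} : x ∈ cj g X ↔ g⁻¹ * x * g ∈ X := by
  constructor
  · rintro ⟨y, hy, rfl⟩
    simpa [mul_assoc] using hy
  · exact fun h => ⟨_, h, by simp [mul_assoc]⟩

theorem conj_mem_cj {g x : H} {X : Subgroup H} (hx : x ∈ X) : g * x * g⁻¹ ∈ cj g X :=
  ⟨x, hx, rfl⟩

theorem cj_mul (g h : H) (X : Subgroup H) : cj (g * h) X = cj g (cj h X) := by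
  ext x
  simp [mem_cj, mul_assoc]

theorem cj_one (X : Subgroup H) : cj 1 X = X := by
  ext x
  simp [mem_cj]

theorem cj_mono (g : H) {X Y : Subgroup H} (h : X ≤ Y) : cj g X ≤ cj g Y := Subgroup.map_mono h

theorem cj_le_iff {g : H} {X Y : Subgroup H} : cj g X ≤ Y ↔ ∀ x ∈ X, g * x * g⁻¹ ∈ Y := by
  constructor
  · exact fun h x hx => h (conj_mem_cj hx)
  · rintro h _ ⟨x, hx, rfl⟩; exact h x hx

theorem cj_eq_of_mem_normalizer {g : H} {X : Subgroup H}
    (hg : g ∈ Subgroup.normalizer (X : Set H)) : cj g X = X := by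
  ext x
  rw [mem_cj]
  exact ((Subgroup.mem_normalizer_iff''.1 hg) x).symm

theorem mem_normalizer_of_cj_eq {g : H} {X : Subgroup H} (h : cj g X = X) :
    g ∈ Subgroup.normalizer (X : Set H) := by
  rw [Subgroup.mem_normalizer_iff'']
  intro x
  rw [← mem_cj, h]

theorem card_cj (g : H) (X : Subgroup H) : Nat.card ↥(cj g X) = Nat.card ↥X :=
  Subgroup.card_map_of_injective (MulAut.conj g).injective

/-- The section `X / Y` is a natural module for `G`, the preimage of the fixed line being `L`. -/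
structure SectNat (G S : Subgroup H) (π : ↥G →* PSL₂ F) (X Y L : Subgroup H) where
  /-- the representation -/
  rep : ↥G →* SL(2, F)
  /-- the coordinates -/
  crd : H → (Fin 2 → F)
  crd_mul : ∀ {x y}, x ∈ X → y ∈ X → crd (x * y) = crd x + crd y
  crd_surj : ∀ u, ∃ x ∈ X, crd x = u
  crd_eq_zero : ∀ {x}, x ∈ X → (crd x = 0 ↔ x ∈ Y)
  crd_conj : ∀ (g : ↥G) {x}, x ∈ X → crd (g * x * (g : H)⁻¹) = (rep g).1.mulVec (crd x)
  surj : Function.Surjective rep
  psl_rep : ∀ g, pslMap (rep g) = π g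
  rep_S : ∀ g : ↥G, (g : H) ∈ S → rep g ∈ LocalEven61.upperGroup F
  mem_L : ∀ {x}, x ∈ X → (x ∈ L ↔ crd x 1 = 0)

theorem exists_sectNat {p : ℕ} [Fact p.Prime] [CharP F p] [Finite H] {G S X Y L : Subgroup H}
    {π : ↥G →* PSL₂ F}
    (hπ : Function.Surjective π) (hSG : S ≤ G) (hS : IsPGroup p ↥S)
    (hmap : ∀ τ, ∃ s : ↥G, (s : H) ∈ S ∧ π s = pslMap (upper τ))
    (hmap' : ∀ s : ↥G, (s : H) ∈ S → ∃ τ, π s = pslMap (upper τ))
    (hYL : Y ≤ L) (hLX : L ≤ X) (hXG : X ≤ G)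
    (hGX : G ≤ Subgroup.normalizer (X : Set H)) (hGY : G ≤ Subgroup.normalizer (Y : Set H))
    (hab : ∀ x ∈ X, ∀ y ∈ X, ⁅x, y⁆ ∈ Y)
    (hX : Nat.card ↥X = Nat.card ↥L * Nat.card F)
    (hL : Nat.card ↥L = Nat.card ↥Y * Nat.card F)
    (hfix : ∀ s ∈ S, ∀ x ∈ L, ⁅s, x⁆ ∈ Y)
    (hti : ∀ g : ↥G, ¬ InBorel π g → ∀ x ∈ L, (g : H) * x * (g : H)⁻¹ ∈ L → x ∈ Y)
    (hgen : ∀ g : ↥G, ¬ InBorel π g → S ⊔ cj (g : H) S = G) :
    Nonempty (SectNat G S π X Y L) := by
  classical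
  set Y₀ := Y.subgroupOf G
  haveI hY₀ : Y₀.Normal := by
    refine ⟨fun y hy g => ?_⟩
    exact ((Subgroup.mem_normalizer_iff.1 (hGY g.2)) y).1 hy
  haveI hX₀ : (X.subgroupOf G).Normal := by
    refine ⟨fun y hy g => ?_⟩
    exact ((Subgroup.mem_normalizer_iff.1 (hGX g.2)) y).1 hy
  set mk := QuotientGroup.mk' Y₀
  set X' := (X.subgroupOf G).map mk
  haveI : X'.Normal := Subgroup.Normal.map hX₀ _ (QuotientGroup.mk'_surjective _)
  have hmk : ∀ a b : ↥G, mk a = mk b ↔ (a : H)⁻¹ * b ∈ Y := fun a b => QuotientGroup.eq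
  have hcomm : ∀ a b : ↥X', a * b = b * a := by
    rintro ⟨_, x, hx, rfl⟩ ⟨_, y, hy, rfl⟩
    refine Subtype.ext ?_
    show mk x * mk y = mk y * mk x
    rw [← map_mul, ← map_mul, hmk]
    have h := hab _ (inv_mem hy) _ (inv_mem hx)
    rw [commutatorElement_def, inv_inv, inv_inv] at h
    simpa [mul_assoc] using h
  letI : CommGroup ↥X' := { (inferInstance : Group ↥X') with mul_comm := hcomm }
  let act : ↥G →* MulAut ↥X' := MulAut.conjNormal.comp mk
  letI : DistribMulAction ↥G (Additive ↥X') :=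
    { smul := fun g v => Additive.ofMul (act g v.toMul)
      one_smul := fun v => by show Additive.ofMul (act 1 v.toMul) = v; simp
      mul_smul := fun g h v => by
        show Additive.ofMul (act (g * h) v.toMul) = Additive.ofMul (act g (act h v.toMul))
        simp
      smul_zero := fun g => by show Additive.ofMul (act g 1) = 0; simp
      smul_add := fun g v w => by
        show Additive.ofMul (act g (v.toMul * w.toMul)) = _
        rw [map_mul]; rfl }
  -- the classes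
  let cl : ∀ x, x ∈ X → Additive ↥X' := fun x hx =>
    Additive.ofMul ⟨mk ⟨x, hXG hx⟩, ⟨⟨x, hXG hx⟩, hx, rfl⟩⟩
  have cl_surj : ∀ v, ∃ x hx, cl x hx = v := fun v => by
    obtain ⟨a, ha, h⟩ := v.toMul.2
    exact ⟨a, ha, congrArg Additive.ofMul (Subtype.ext h)⟩
  have cl_eq : ∀ x y hx hy, cl x hx = cl y hy ↔ x⁻¹ * y ∈ Y := fun x y hx hy =>
    (Additive.ofMul.injective.eq_iff.trans Subtype.ext_iff).trans (hmk _ _)
  have cl_smul : ∀ (g : ↥G) x hx hx', g • cl x hx = cl (g * x * (g : H)⁻¹) hx' := fun g x hx hx' =>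
    congrArg Additive.ofMul (Subtype.ext (by
      show mk g * mk ⟨x, hXG hx⟩ * (mk g)⁻¹ = _
      rw [← map_inv, ← map_mul, ← map_mul]
      rfl))
  have hconjX : ∀ (g : ↥G) x, x ∈ X → (g : H) * x * (g : H)⁻¹ ∈ X := fun g x hx =>
    ((Subgroup.mem_normalizer_iff.1 (hGX g.2)) x).1 hx
  let L' : AddSubgroup (Additive ↥X') :=
    { carrier := {v | ∃ x hx, x ∈ L ∧ cl x hx = v}
      zero_mem' := ⟨1, X.one_mem, L.one_mem, congrArg Additive.ofMul (Subtype.ext (map_one mk))⟩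
      add_mem' := by
        rintro _ _ ⟨x, hx, hxL, rfl⟩ ⟨y, hy, hyL, rfl⟩
        exact ⟨x * y, X.mul_mem hx hy, L.mul_mem hxL hyL,
          congrArg Additive.ofMul (Subtype.ext (map_mul mk ⟨x, hXG hx⟩ ⟨y, hXG hy⟩))⟩
      neg_mem' := by
        rintro _ ⟨x, hx, hxL, rfl⟩
        exact ⟨x⁻¹, X.inv_mem hx, L.inv_mem hxL,
          congrArg Additive.ofMul (Subtype.ext (map_inv mk ⟨x, hXG hx⟩))⟩ }
  have cl_mem : ∀ x hx, cl x hx ∈ L' → x ∈ L := fun x hx h => by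
    obtain ⟨y, hy, hyL, he⟩ := h
    have := L.mul_mem hyL (hYL ((cl_eq y x hy hx).1 he))
    rwa [mul_inv_cancel_left] at this
  -- orders
  have hcardZ : ∀ Z : Subgroup H, Y ≤ Z → Z ≤ G →
      Nat.card ↥Z = Nat.card ↥((Z.subgroupOf G).map mk) * Nat.card ↥Y := fun Z hYZ hZG => by
    rw [← Nat.card_congr (Subgroup.subgroupOfEquivOfLe hZG).toEquiv,
      ← Nat.card_congr (Subgroup.subgroupOfEquivOfLe (hYZ.trans hZG)).toEquiv]
    let f := mk.comp (Z.subgroupOf G).subtype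
    have hk : f.ker = Y₀.subgroupOf (Z.subgroupOf G) := by
      ext z
      exact QuotientGroup.eq_one_iff _
    rw [Subgroup.card_eq_card_quotient_mul_card_subgroup f.ker,
      Nat.card_congr (QuotientGroup.quotientKerEquivRange f).toEquiv, hk,
      Nat.card_congr (Subgroup.subgroupOfEquivOfLe
        (fun y (hy : y ∈ Y₀) => (hYZ hy : y ∈ Z.subgroupOf G))).toEquiv,
      MonoidHom.range_comp, Subgroup.range_subtype]
  have hq0 : 0 < Nat.card ↥Y := Nat.card_pos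
  have hML : Nat.card ↥L' = Nat.card F := by
    have e : Nat.card ↥L' = Nat.card ↥((L.subgroupOf G).map mk) := Nat.card_congr
      { toFun := fun v => ⟨(v.1.toMul : ↥G ⧸ Y₀), by
          obtain ⟨x, hx, hxL, h⟩ := v.2
          exact ⟨⟨x, hXG hx⟩, hxL, by rw [← h]; rfl⟩⟩
        invFun := fun v => ⟨Additive.ofMul ⟨v.1, by
            obtain ⟨a, ha, h⟩ := v.2
            exact ⟨a, hLX ha, h⟩⟩, by
          obtain ⟨a, ha, h⟩ := v.2
          exact ⟨a, hLX ha, ha, congrArg Additive.ofMul (Subtype.ext h)⟩⟩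
        left_inv := fun v => rfl
        right_inv := fun v => rfl }
    have h := hcardZ L hYL (hLX.trans hXG)
    rw [hL, mul_comm] at h
    exact e.trans (Nat.eq_of_mul_eq_mul_right hq0 h).symm
  have hMcard : Nat.card (Additive ↥X') = Nat.card F * Nat.card F := by
    have h := hcardZ X (hYL.trans hLX) hXG
    rw [hX, hL, mul_assoc, mul_comm] at h
    exact (Nat.card_congr Additive.toMul).trans (Nat.eq_of_mul_eq_mul_right hq0 h).symm
  have hfix' : ∀ (s : ↥G), (s : H) ∈ S → ∀ v ∈ L', s • v = v := by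
    rintro s hs _ ⟨x, hx, hxL, rfl⟩
    rw [cl_smul s x hx (hconjX s x hx), cl_eq _ x (hconjX s x hx) hx]
    have h := hfix s hs x⁻¹ (L.inv_mem hxL)
    rw [commutatorElement_def, inv_inv] at h
    simpa [mul_assoc] using h
  have D : RecogData p π (S.subgroupOf G) (Additive ↥X') L' :=
    { surj := hπ
      pgroup := hS.comap_of_injective G.subtype G.subtype_injective
      mem_map := hmap
      map_le := hmap'
      cardM := hMcard
      cardL := hML
      fixL := hfix'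
      ti := fun g hg v hv hgv => by
        obtain ⟨x, hx, hxL, rfl⟩ := hv
        rw [cl_smul g x hx (hconjX g x hx)] at hgv
        have hxY := hti g hg x hxL (cl_mem _ (hconjX g x hx) hgv)
        exact ((cl_eq 1 x X.one_mem hx).2 (by simpa using hxY)).symm.trans
          (congrArg Additive.ofMul (Subtype.ext (map_one mk)))
      gen := fun g hg => Subgroup.map_injective G.subtype_injective (by
        rw [Subgroup.map_sup, Subgroup.map_subgroupOf_eq_of_le hSG, Subgroup.map_map,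
          show G.subtype.comp (MulAut.conj g).toMonoidHom =
            (MulAut.conj (g : H)).toMonoidHom.comp G.subtype from rfl,
          ← Subgroup.map_map, Subgroup.map_subgroupOf_eq_of_le hSG, ← MonoidHom.range_eq_map,
          Subgroup.range_subtype]
        exact hgen g hg) }
  obtain ⟨N⟩ := D.exists_natural
  let crd : H → (Fin 2 → F) := fun x => if hx : x ∈ X then N.crd (cl x hx) else 0
  have hcrd : ∀ x hx, crd x = N.crd (cl x hx) := fun x hx => dif_pos hx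
  refine ⟨{ rep := N.rep, crd := crd, crd_mul := ?_, crd_surj := ?_, crd_eq_zero := ?_,
            crd_conj := ?_, surj := N.surj, psl_rep := N.psl_rep, rep_S := N.rep_S, mem_L := ?_ }⟩
  · intro x y hx hy
    rw [hcrd x hx, hcrd y hy, hcrd _ (X.mul_mem hx hy), ← map_add]
    exact congrArg N.crd
      (congrArg Additive.ofMul (Subtype.ext (map_mul mk ⟨x, hXG hx⟩ ⟨y, hXG hy⟩)))
  · intro u
    obtain ⟨x, hx, h⟩ := cl_surj (N.crd.symm u)
    exact ⟨x, hx, by rw [hcrd x hx, h, AddEquiv.apply_symm_apply]⟩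
  · intro x hx
    have h0 : cl 1 X.one_mem = 0 := congrArg Additive.ofMul (Subtype.ext (map_one mk))
    rw [hcrd x hx, map_eq_zero_iff N.crd N.crd.injective, ← h0, eq_comm, cl_eq 1 x X.one_mem hx, inv_one, one_mul]
  · intro g x hx
    rw [hcrd x hx, hcrd _ (hconjX g x hx), ← cl_smul g x hx (hconjX g x hx), N.smul_crd]
  · intro x hx
    rw [hcrd x hx, ← N.mem_L]
    exact ⟨fun h => ⟨x, hx, h, rfl⟩, cl_mem x hx⟩

namespace SectNat

variable {G S X Y L : Subgroup H} {π : ↥G →* PSL₂ F} (D : SectNat G S π X Y L)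
include D

theorem crd_one : D.crd 1 = 0 := by
  have := D.crd_mul X.one_mem X.one_mem
  rw [mul_one] at this
  simpa using this

theorem crd_inv {x : H} (hx : x ∈ X) : D.crd x⁻¹ = - D.crd x := by
  have := D.crd_mul (X.inv_mem hx) hx
  rw [inv_mul_cancel, D.crd_one] at this
  exact eq_neg_of_add_eq_zero_left this.symm

theorem crd_comm (hGX : G ≤ Subgroup.normalizer (X : Set H)) (g : ↥G) {x : H} (hx : x ∈ X) :
    D.crd ⁅(g : H), x⁆ = (D.rep g).1.mulVec (D.crd x) - D.crd x := by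
  rw [commutatorElement_def, D.crd_mul (((Subgroup.mem_normalizer_iff.1 (hGX g.2)) x).1 hx)
    (X.inv_mem hx), D.crd_inv hx, D.crd_conj g hx, sub_eq_add_neg]

theorem exists_upper (g : ↥G) (hg : (g : H) ∈ S) : ∃ τ, D.rep g = upper τ := by
  obtain ⟨a, ha⟩ := D.rep_S g hg
  exact ⟨a.toAdd, ha.symm⟩

theorem comm_mem_Y_iff (hGX : G ≤ Subgroup.normalizer (X : Set H)) (g : ↥G) {x : H} (hx : x ∈ X) :
    ⁅(g : H), x⁆ ∈ Y ↔ (D.rep g).1.mulVec (D.crd x) = D.crd x := by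
  have hm : ⁅(g : H), x⁆ ∈ X :=
    X.mul_mem (((Subgroup.mem_normalizer_iff.1 (hGX g.2)) x).1 hx) (X.inv_mem hx)
  rw [← D.crd_eq_zero hm, D.crd_comm hGX g hx, sub_eq_zero]

theorem comm_mem_L (hGX : G ≤ Subgroup.normalizer (X : Set H)) (g : ↥G) (hg : (g : H) ∈ S)
    {x : H} (hx : x ∈ X) : ⁅(g : H), x⁆ ∈ L := by
  obtain ⟨τ, hτ⟩ := D.exists_upper g hg
  have hm : ⁅(g : H), x⁆ ∈ X :=
    X.mul_mem (((Subgroup.mem_normalizer_iff.1 (hGX g.2)) x).1 hx) (X.inv_mem hx)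
  rw [D.mem_L hm, D.crd_comm hGX g hx, hτ, Pi.sub_apply, sl2_smul_apply]
  simp [upper]

theorem mem_L_of_comm_mem (hGX : G ≤ Subgroup.normalizer (X : Set H)) (g : ↥G) (hg : (g : H) ∈ S)
    (hπ : π g ≠ 1) {x : H} (hx : x ∈ X) (h : ⁅(g : H), x⁆ ∈ Y) : x ∈ L := by
  obtain ⟨τ, hτ⟩ := D.exists_upper g hg
  have hτ0 : τ ≠ 0 := fun h0 => hπ (by rw [← D.psl_rep, hτ, h0]; simp)
  rw [D.comm_mem_Y_iff hGX g hx, hτ] at h
  have h0 := congrFun h 0
  rw [sl2_smul_apply] at h0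
  rw [D.mem_L hx]
  simpa [upper, hτ0] using h0

theorem mem_Y_of_forall (g : ↥G) (hg : ¬ InBorel π g) {x : H} (hx : x ∈ X) (hxL : x ∈ L)
    (hgx : (g : H) * x * (g : H)⁻¹ ∈ L) (hgxX : (g : H) * x * (g : H)⁻¹ ∈ X) : x ∈ Y := by
  rw [D.mem_L hgxX, D.crd_conj g hx, sl2_smul_apply, (D.mem_L hx).1 hxL] at hgx
  rw [inBorel_iff (D.psl_rep g)] at hg
  rw [← D.crd_eq_zero hx]
  simp only [mul_zero, add_zero, mul_eq_zero] at hgx
  funext i
  fin_cases i
  · exact hgx.resolve_left hg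
  · exact (D.mem_L hx).1 hxL

theorem stab (hGX : G ≤ Subgroup.normalizer (X : Set H)) (hLX : L ≤ X) (g : ↥G)
    (hg : InBorel π g) : cj (g : H) L ≤ L := by
  rw [cj_le_iff]
  intro x hx
  rw [inBorel_iff (D.psl_rep g)] at hg
  rw [D.mem_L (((Subgroup.mem_normalizer_iff.1 (hGX g.2)) x).1 (hLX hx)), D.crd_conj g (hLX hx),
    sl2_smul_apply, (D.mem_L (hLX hx)).1 hx, hg]
  simp

/-- The only `G`-invariant subgroups between `Y` and `X` are `Y` and `X`. -/
theorem eq_or_eq {Z : Subgroup H} (hYZ : Y ≤ Z) (hZX : Z ≤ X)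
    (hGZ : G ≤ Subgroup.normalizer (Z : Set H)) : Z = Y ∨ Z = X := by
  by_cases hall : Z ≤ Y
  · exact Or.inl (le_antisymm hall hYZ)
  obtain ⟨x, hx, hxY⟩ := SetLike.not_le_iff_exists.1 hall
  refine Or.inr (le_antisymm hZX fun y hy => ?_)
  let P : Set (Fin 2 → F) := {u | ∃ z ∈ Z, D.crd z = u}
  have hadd : ∀ u ∈ P, ∀ v ∈ P, u + v ∈ P := by
    rintro _ ⟨a, ha, rfl⟩ _ ⟨b, hb, rfl⟩
    exact ⟨a * b, Z.mul_mem ha hb, D.crd_mul (hZX ha) (hZX hb)⟩
  have hneg : ∀ u ∈ P, -u ∈ P := by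
    rintro _ ⟨a, ha, rfl⟩
    exact ⟨a⁻¹, Z.inv_mem ha, D.crd_inv (hZX ha)⟩
  have hact : ∀ A : SL(2, F), ∀ u ∈ P, A.1.mulVec u ∈ P := by
    rintro A _ ⟨a, ha, rfl⟩
    obtain ⟨g, rfl⟩ := D.surj A
    exact ⟨_, ((Subgroup.mem_normalizer_iff.1 (hGZ g.2)) a).1 ha, D.crd_conj g (hZX ha)⟩
  set u := D.crd x
  have hu : u ∈ P := ⟨x, hx, rfl⟩
  have hu0 : u 0 ≠ 0 ∨ u 1 ≠ 0 := by
    by_contra! h
    exact hxY ((D.crd_eq_zero (hZX hx)).1 (by funext i; fin_cases i <;> simp [u, h.1, h.2]))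
  have hU : ∀ v ∈ P, ∀ c : F, ![c * v 1, 0] ∈ P := fun v hv c => by
    convert hadd _ (hact (upper c) v hv) _ (hneg v hv) using 1
    funext i; rw [Pi.add_apply, Pi.neg_apply, sl2_smul_apply]; fin_cases i <;> simp [upper]
  have hL : ∀ v ∈ P, ∀ c : F, ![0, c * v 0] ∈ P := fun v hv c => by
    convert hadd _ (hact (lower c) v hv) _ (hneg v hv) using 1
    funext i; rw [Pi.add_apply, Pi.neg_apply, sl2_smul_apply]; fin_cases i <;> simp [lower]
  have hP : ∀ v, v ∈ P := by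
    intro v
    obtain ⟨w, hw, hw1⟩ : ∃ w ∈ P, w 1 ≠ 0 := by
      rcases hu0 with h | h
      · exact ⟨_, hL u hu 1, by simpa using h⟩
      · exact ⟨u, hu, h⟩
    have hh := hU w hw ((w 1)⁻¹)
    rw [inv_mul_cancel₀ hw1] at hh
    convert hadd _ (hU w hw (v 0 * (w 1)⁻¹)) _ (hL _ hh (v 1)) using 1
    funext i; fin_cases i <;> simp [hw1]
  obtain ⟨z, hz, hzy⟩ := hP (D.crd y)
  have : z⁻¹ * y ∈ Y := by
    rw [← D.crd_eq_zero (X.mul_mem (X.inv_mem (hZX hz)) hy),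
      D.crd_mul (X.inv_mem (hZX hz)) hy, D.crd_inv (hZX hz), hzy, neg_add_cancel]
  simpa using Z.mul_mem hz (hYZ this)

/-- Two natural sections give the same representation. -/
theorem rep_eq {p : ℕ} [Fact p.Prime] [CharP F p] {X' Y' L' : Subgroup H}
    (D' : SectNat G S π X' Y' L') (w : ↥G)
    (hgen : S ⊔ cj (w : H) S = G) : D.rep = D'.rep := by
  have hc : ∀ g, (D'.rep g)⁻¹ * D.rep g ∈ Subgroup.center SL(2, F) := fun g => by
    refine (QuotientGroup.eq_one_iff _).1 ?_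
    show pslMap ((D'.rep g)⁻¹ * D.rep g) = 1
    rw [map_mul, map_inv, D.psl_rep, D'.psl_rep, inv_mul_cancel]
  have hS : ∀ g : ↥G, (g : H) ∈ S → D.rep g = D'.rep g := fun g hg => by
    obtain ⟨τ, hτ⟩ := D.exists_upper g hg
    obtain ⟨σ, hσ⟩ := D'.exists_upper g hg
    rw [hτ, hσ, upper_eq_of_psl (τ := τ) (σ := σ) (by rw [← hτ, ← hσ, D.psl_rep, D'.psl_rep])]
  have hle : G ≤ (MonoidHom.eqLocus D.rep D'.rep).map G.subtype := by
    have hSG : S ≤ G := hgen ▸ le_sup_left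
    calc G = S ⊔ cj (w : H) S := hgen.symm
      _ ≤ _ := by
        refine sup_le (fun s hs => ⟨⟨s, hSG hs⟩, hS _ hs, rfl⟩) ?_
        rintro _ ⟨s, hs, rfl⟩
        refine ⟨w * ⟨s, hSG hs⟩ * w⁻¹, ?_, rfl⟩
        show D.rep (w * ⟨s, hSG hs⟩ * w⁻¹) = D'.rep (w * ⟨s, hSG hs⟩ * w⁻¹)
        have e : D.rep w = D'.rep w * ((D'.rep w)⁻¹ * D.rep w) := by group
        simp only [map_mul, map_inv]
        rw [e, hS ⟨s, hSG hs⟩ hs, mul_assoc (D'.rep w),
          ← Subgroup.mem_center_iff.1 (hc w) (D'.rep ⟨s, hSG hs⟩)]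
        group
  refine MonoidHom.ext fun g => ?_
  obtain ⟨a, ha, hag⟩ := hle g.2
  rwa [show a = g from Subtype.ext hag] at ha

end SectNat

end Cfsg.Agent.PushUp62
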