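import Cfsg.Agent.PushUp62.Path

/-!
Shifting critical paths; the minimal distance is at most two.
-/

set_option autoImplicit false
set_option linter.unusedSectionVars false
set_option linter.unusedVariables false
set_option linter.style.haveILetI false

namespace Cfsg.Agent.PushUp62

open scoped commutatorElement

variable {H : Type*} [Group H] [Finite H] {F : Type} [Field F] [Fintype F] {p : ℕ} [Fact p.Prime]
  [CharP F p]

namespace Amb

variable (A : Amb H F p)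

/-- Consecutive edges of the path have different lines. -/
def Proper {n : ℕ} (P : A.Path n) : Prop := ∀ i, i + 1 < n → A.Oe (P.e i) ≠ A.Oe (P.e (i + 1))

theorem Wedge_normalized_of_central {x e f : H} (he : A.Inc x e) (hf : A.Inc x f)
    (hne : A.Oe f ≠ A.Oe e) (h : A.Wedge f ≤ centMod (A.Se e) (A.Vv x)) : False := by
  refine A.Wedge_not_normalized hf ?_
  rw [← A.gen_v he hf hne]
  refine sup_le ?_ ((Subgroup.le_normalizer (H := A.Se f)).trans (A.normalizer_Se_le_normalizer_Wedge f))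
  refine le_normalizer_of_conj fun s hs w hw => ?_
  rw [show s * w * s⁻¹ = ⁅s, w⁆ * w by rw [commutatorElement_def]; group]
  exact (A.Wedge f).mul_mem (A.Vv_le_Wedge hf (commutator_mem_symm ((h hw).2 s hs))) hw

variable {k : ℕ} (hs : A.Short (k + 2))
include hs

theorem neighbour {x e z : H} (he : A.Inc x e) (hz : A.Inc z e) : A.Vv z ≤ A.Qv x := by
  let P : A.Path 1 := ⟨fun i => if i = 0 then z else x, fun _ => e,
    fun i hi => by obtain rfl : i = 0 := (by omega); simpa using hz,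
    fun i hi => by obtain rfl : i = 0 := (by omega); simpa using he⟩
  simpa [P] using hs 1 (by omega) P

theorem Wat_le_Qv (x : H) : A.Wat x ≤ A.Qv x := iSup_le fun z => by
  obtain ⟨e, he, hz⟩ := z.2
  exact A.neighbour hs he hz

theorem Wat_normalizes (x : H) : A.Wat x ≤ Subgroup.normalizer (A.Vv x : Set H) :=
  (A.Wat_le_Qv hs x).trans ((A.Qv_le_Gv x).trans (A.Gv_le_normalizer_Vv x))

theorem Wat_le_centMod_Qv (x : H) : A.Wat x ≤ centMod (A.Qv x) (A.Vv x) := iSup_le fun z => by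
  obtain ⟨e, he, hz⟩ := z.2
  intro v hv
  refine ⟨A.Wat_normalizes hs x (A.Vv_le_Wat he hz hv), fun q hq => ?_⟩
  exact A.Oe_le_Vv he (commutator_mem_symm (A.quad_v hz (A.Qv_le_Se he hq) hv))

variable (P : A.Path (k + 2)) (hc : A.Crit P)
include hc

theorem Wat_le_Se : A.Wat (P.x 0) ≤ A.Se (P.e k) := iSup_le fun z => by
  obtain ⟨f, hf, hz⟩ := z.2
  have h := hs (k + 1) (by omega) ((P.sub 0 k (by omega)).cons z f hz (by simpa [Path.sub] using hf))
  simp only [Path.cons, Path.sub, Nat.zero_add] at h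
  exact h.trans (A.Qv_le_Se (P.inc₁ k (by omega)))

theorem mem_centMod_of_mem_Qv {w : H} (hw : w ∈ A.Wat (P.x 0)) (hwQ : w ∈ A.Qv (P.x (k + 1))) :
    w ∈ centMod (A.Se (P.e 0)) (A.Vv (P.x 0)) := by
  refine ⟨A.Wat_normalizes hs _ hw, fun s hs' => ?_⟩
  obtain ⟨t, ht, q, hq, rfl⟩ := A.decomp_first hs P hc hs'
  have hV : A.Qv (P.x 0) ≤ Subgroup.normalizer (A.Vv (P.x 0) : Set H) :=
    (A.Qv_le_Gv _).trans (A.Gv_le_normalizer_Vv _)
  have htn : t ∈ Subgroup.normalizer (A.Vv (P.x 0) : Set H) :=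
    A.Gv_le_normalizer_Vv _ (A.Se_le_Gv (P.inc₁ 0 (by omega)) (A.Vv_le_Se_first hs P hc ht))
  rw [commutator_mul_right]
  refine (A.Vv (P.x 0)).mul_mem ?_
    (((Subgroup.mem_normalizer_iff.1 htn) _).1 ((A.Wat_le_centMod_Qv hs _ hw).2 q hq))
  obtain ⟨v, hv, r, hr, rfl⟩ := A.decomp hs P hc (A.Qv_le_Se (P.inc₁ (k + 1) (by omega)) hwQ)
  rw [commutator_mul_left, commutatorElement_eq_one_iff_mul_comm.2 (A.V_Q_v hr ht), mul_one,
    mul_inv_cancel, one_mul]
  exact A.Oe_le_Vv (P.inc₁ 0 (by omega))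
    (A.R_le hs P hc (Subgroup.commutator_mem_commutator hv ht))

theorem exists_z : ∃ z f, A.Inc (P.x 0) f ∧ A.Inc z f ∧ A.Oe f ≠ A.Oe (P.e 0) ∧
    ¬ A.Vv z ≤ A.Qv (P.x (k + 1)) := by
  obtain ⟨f, hf, hne⟩ := A.exists_edge (P.inc₁ 0 (by omega))
  by_contra! hall
  refine A.Wedge_normalized_of_central (P.inc₁ 0 (by omega)) hf hne (iSup_le fun z v hv => ?_)
  exact A.mem_centMod_of_mem_Qv hs P hc (A.Vv_le_Wat hf z.2 hv) (hall z f hf z.2 hne hv)

omit hs hc in
/-- The path shifted to the left. -/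
def Path.lshift {A : Amb H F p} {k : ℕ} (P : A.Path (k + 2)) (z f : H) (hf : A.Inc (P.x 0) f)
    (hz : A.Inc z f) : A.Path (k + 2) :=
  (P.sub 0 (k + 1) (by omega)).cons z f hz (by simpa [Path.sub] using hf)

omit hs hc in
theorem crit_lshift {z f : H} (hf : A.Inc (P.x 0) f) (hz : A.Inc z f)
    (h : ¬ A.Vv z ≤ A.Qv (P.x (k + 1))) : A.Crit (P.lshift z f hf hz) := by
  simpa [Crit, Path.lshift, Path.cons, Path.sub] using h

theorem not_centMod {z f : H} (hf : A.Inc (P.x 0) f) (hz : A.Inc z f)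
    (hzQ : ¬ A.Vv z ≤ A.Qv (P.x (k + 1))) : ¬ A.Vv z ≤ centMod (A.Se (P.e 0)) (A.Vv (P.x 0)) := by
  intro hle
  obtain ⟨g, hg, hne⟩ := A.exists_edge (P.inc₁ 0 (by omega))
  refine A.Wedge_normalized_of_central (P.inc₁ 0 (by omega)) hg hne
    ((A.Wedge_le_Wat hg).trans fun w hw => ?_)
  obtain ⟨v, hv, q, hq, rfl⟩ := A.decomp hs _ (A.crit_lshift P hf hz hzQ)
    (s := w) (by simpa [Path.lshift, Path.cons, Path.sub] using A.Wat_le_Se hs P hc hw)
  simp only [Path.lshift, Path.cons, Path.sub, Nat.zero_add] at hv hq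
  have hqW : q ∈ A.Wat (P.x 0) := by
    simpa using (A.Wat (P.x 0)).mul_mem ((A.Wat (P.x 0)).inv_mem (A.Vv_le_Wat hf hz hv)) hw
  exact (centMod _ _).mul_mem (hle hv) (A.mem_centMod_of_mem_Qv hs P hc hqW hq)

theorem R_lshift_le {z f : H} (hf : A.Inc (P.x 0) f) (hz : A.Inc z f)
    (hzQ : ¬ A.Vv z ≤ A.Qv (P.x (k + 1))) (hne : A.Oe f ≠ A.Oe (P.e 0)) :
    ⁅A.Vv z, A.Vv (P.x (k + 1))⁆ ≤ A.Cv (P.x 0) := by
  have hc' := A.crit_lshift P hf hz hzQ
  have h1 := A.R_le hs _ hc'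
  have h2 := A.R_le_last hs _ hc'
  simp only [R, Path.lshift, Path.cons, Path.sub, Nat.zero_add] at h1 h2
  intro r hr
  have hrV : r ∈ A.Vv (P.x (k + 1)) := A.Oe_le_Vv (P.inc₂ k (by omega)) (h2 hr)
  have hr' := A.crit_rev hs P hc
  simp only [Crit, Path.rev, Nat.sub_zero, Nat.sub_self] at hr'
  obtain ⟨t, ht, htQ⟩ := SetLike.not_le_iff_exists.1 hr'
  refine A.inter_v (P.inc₁ 0 (by omega)) hf hne ?_ (h1 hr)
  refine A.fix_v (P.inc₁ 0 (by omega)) (A.Vv_le_Se_first hs P hc ht) htQ (A.Oe_le_Vv hf (h1 hr)) ?_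
  exact (A.V_Q_v ((A.le_Qv_of_lt hs P (k + 1) (k + 2) (by omega) le_rfl (by omega)).2 ht) hrV)

theorem exists_left : ∃ P' : A.Path (k + 2), A.Crit P' ∧
    (∀ i, i ≤ k + 1 → P'.x (i + 1) = P.x i) ∧ (∀ i, i ≤ k → P'.e (i + 1) = P.e i) ∧
    A.Oe (P'.e 0) ≠ A.Oe (P.e 0) := by
  obtain ⟨z, f, hf, hz, hne, hzQ⟩ := A.exists_z hs P hc
  exact ⟨P.lshift z f hf hz, A.crit_lshift P hf hz hzQ, fun i _ => by simp [Path.lshift, Path.cons, Path.sub],
    fun i _ => by simp [Path.lshift, Path.cons, Path.sub], by simpa [Path.lshift, Path.cons] using hne⟩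

theorem exists_right : ∃ P' : A.Path (k + 2), A.Crit P' ∧
    (∀ i, i ≤ k + 1 → P'.x i = P.x (i + 1)) ∧ (∀ i, i ≤ k → P'.e i = P.e (i + 1)) ∧
    A.Oe (P'.e (k + 1)) ≠ A.Oe (P.e (k + 1)) := by
  obtain ⟨P', hc', hx, he, hne⟩ := A.exists_left hs P.rev (A.crit_rev hs P hc)
  refine ⟨P'.rev, A.crit_rev hs P' hc', fun i hi => ?_, fun i hi => ?_, ?_⟩
  · simp only [Path.rev]
    rw [show k + 2 - i = (k + 1 - i) + 1 by omega, hx _ (by omega)]
    simp only [Path.rev]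
    congr 1; omega
  · simp only [Path.rev]
    rw [show k + 2 - 1 - i = (k - i) + 1 by omega, he _ (by omega)]
    simp only [Path.rev]
    congr 1; omega
  · simpa [Path.rev] using hne

/-- `R ≤ C(x₁)` when the first two lines differ. -/
theorem R_le_C_one (hne : A.Oe (P.e 0) ≠ A.Oe (P.e 1)) : A.R P ≤ A.Cv (P.x 1) := by
  obtain ⟨P', hc', hx, he, -⟩ := A.exists_right hs P hc
  have h := A.R_lshift_le hs P' hc' (z := P.x 0) (f := P.e 0)
    (by rw [hx 0 (by omega)]; exact P.inc₂ 0 (by omega)) (P.inc₁ 0 (by omega))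
    (by rw [hx (k + 1) le_rfl]; exact hc) (by rw [he 0 (by omega)]; exact hne)
  rwa [hx (k + 1) le_rfl, hx 0 (by omega)] at h

theorem R_le_C_last (hne : A.Oe (P.e k) ≠ A.Oe (P.e (k + 1))) : A.R P ≤ A.Cv (P.x (k + 1)) := by
  have h := A.R_le_C_one hs P.rev (A.crit_rev hs P hc) (by simpa [Path.rev] using hne.symm)
  rw [A.R_rev] at h
  simpa [Path.rev] using h

theorem proper_rev (hp : A.Proper P) : A.Proper P.rev := fun i hi => by
  simp only [Path.rev]
  have := hp (k + 2 - 1 - (i + 1)) (by omega)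
  rw [show k + 2 - 1 - (i + 1) + 1 = k + 2 - 1 - i by omega] at this
  exact this.symm

theorem exists_right_proper (hp : A.Proper P) : ∃ P' : A.Path (k + 2), A.Crit P' ∧ A.Proper P' ∧
    (∀ i, i ≤ k + 1 → P'.x i = P.x (i + 1)) ∧ (∀ i, i ≤ k → P'.e i = P.e (i + 1)) := by
  obtain ⟨P', hc', hx, he, hne⟩ := A.exists_right hs P hc
  refine ⟨P', hc', fun i hi => ?_, hx, he⟩
  rcases eq_or_lt_of_le (show i ≤ k by omega) with rfl | h
  · rw [he i le_rfl]; exact hne.symm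
  · rw [he i (by omega), he (i + 1) (by omega)]
    exact hp (i + 1) (by omega)

theorem exists_proper : ∃ P' : A.Path (k + 2), A.Crit P' ∧ A.Proper P' := by
  suffices ∀ j, j ≤ k + 1 → ∃ P' : A.Path (k + 2), A.Crit P' ∧
      ∀ i, i < j → A.Oe (P'.e i) ≠ A.Oe (P'.e (i + 1)) by
    obtain ⟨P', hc', hp⟩ := this (k + 1) le_rfl
    exact ⟨P', hc', fun i hi => hp i (by omega)⟩
  intro j
  induction j with
  | zero => exact fun _ => ⟨P, hc, fun i hi => absurd hi (Nat.not_lt_zero i)⟩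
  | succ j ih =>
    intro hj
    obtain ⟨P', hc', hp⟩ := ih (by omega)
    obtain ⟨P'', hc'', -, he, hne⟩ := A.exists_left hs P' hc'
    refine ⟨P'', hc'', fun i hi => ?_⟩
    match i with
    | 0 => rw [he 0 (by omega)]; exact hne
    | i + 1 =>
      rw [he i (by omega), he (i + 1) (by omega)]
      exact hp i (by omega)

/-- The commutator group of a critical path is determined by its second vertex. -/
theorem canon (P' : A.Path (k + 2)) (hc' : A.Crit P') (hne : A.Oe (P'.e 0) ≠ A.Oe (P'.e 1))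
    (hx1 : P'.x 1 = P.x 1) : A.R P = A.R P' := by
  obtain ⟨Pp, hcp, hxp, hep, -⟩ := A.exists_right hs P hc
  obtain ⟨Pq, hcq, hxq, heq, -⟩ := A.exists_right hs P' hc'
  have hiu : A.Inc (P.x 1) (P.e 0) := P.inc₂ 0 (by omega)
  have hiu1 : A.Inc (P.x 1) (P.e 1) := P.inc₁ 1 (by omega)
  have hiu' : A.Inc (P.x 1) (P'.e 0) := hx1 ▸ P'.inc₂ 0 (by omega)
  obtain ⟨g, hg, hgQ⟩ : ∃ g ∈ A.Gv (P.x 1), ¬ cj g (A.Vv (P'.x 0)) ≤ A.Qv (P.x (k + 2)) := by
    by_contra! hall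
    have hnot := A.not_centMod hs Pq hcq (z := P'.x 0) (f := P'.e 0)
      (by rw [hxq 0 (by omega)]; exact P'.inc₂ 0 (by omega)) (P'.inc₁ 0 (by omega))
      (by rw [hxq (k + 1) le_rfl]; exact hc')
    rw [hxq 0 (by omega), heq 0 (by omega), hx1] at hnot
    apply hnot
    set Y := A.Vv (P.x 1)
    have hYn : A.Gv (P.x 1) ≤ Subgroup.normalizer (Y : Set H) := A.Gv_le_normalizer_Vv _
    have hVW : ∀ g ∈ A.Gv (P.x 1), cj g (A.Vv (P'.x 0)) ≤ centMod (A.Se (P.e 1)) Y := by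
      intro g hg w hw
      have hwW : w ∈ A.Wat (Pp.x 0) := by
        rw [hxp 0 (by omega)]
        have : cj g (A.Vv (P'.x 0)) ≤ A.Wat (P.x 1) := by
          rw [Vv, ← cj_mul]
          exact A.Vv_le_Wat (Inc.of_mem_Gv A hiu' hg) (Inc.mul_left A (P'.inc₁ 0 (by omega)) g)
        exact this hw
      have h := A.mem_centMod_of_mem_Qv hs Pp hcp hwW (by
        rw [hxp (k + 1) le_rfl]; exact hall g hg hw)
      rwa [hxp 0 (by omega), hep 0 (by omega)] at h
    have hT : A.Vv (P'.x 0) ≤ centMod (A.Gv (P.x 1)) Y := by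
      obtain ⟨f, hf, hfne⟩ := A.exists_edge hiu1
      obtain ⟨a, ⟨hGa, -, -, -⟩, ⟨hSa, -⟩, hxa, -⟩ := A.frame hiu1
      obtain ⟨c, -, ⟨hSc, -⟩, hxc, -⟩ := A.frame hf
      have hg : c * a⁻¹ ∈ A.Gv (P.x 1) := by
        rw [Gv, mem_cj]
        have := A.G.mul_mem hxc (A.G.inv_mem hxa)
        simpa [mul_assoc] using this
      have hn : A.Vv (P'.x 0) ≤ Subgroup.normalizer (Y : Set H) := fun v hv =>
        ((hVW 1 (one_mem _)) (by rwa [cj_one])).1
      refine le_centMod_symm hn ?_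
      rw [← A.gen_v hiu1 hf hfne]
      refine sup_le ?_ ?_
      · refine le_centMod_symm ((A.Se_le_Gv hiu1).trans hYn) ?_
        simpa [cj_one] using hVW 1 (one_mem _)
      · refine le_centMod_symm ((A.Se_le_Gv hf).trans hYn) fun v hv => ⟨hn hv, fun s hs' => ?_⟩
        have hs'' : (c * a⁻¹)⁻¹ * s * (c * a⁻¹) ∈ A.Se (P.e 1) := by
          rw [hSa, mem_cj]
          rw [hSc, mem_cj] at hs'
          simpa [mul_assoc] using hs'
        have h := (hVW _ (inv_mem hg) (conj_mem_cj hv)).2 _ hs''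
        have h2 := ((Subgroup.mem_normalizer_iff.1 (hYn hg)) _).1 h
        rw [conj_commutator] at h2
        simpa [mul_assoc] using h2
    intro v hv
    exact ⟨(hT hv).1, fun s hs' => (hT hv).2 s (A.Se_le_Gv (hx1 ▸ P'.inc₁ 1 (by omega)) hs')⟩
  let P'' : A.Path (k + 2) := (P.sub 1 (k + 1) (by omega)).cons (g * P'.x 0) (g * P'.e 0)
    (Inc.mul_left A (P'.inc₁ 0 (by omega)) g) (by simpa [Path.sub] using Inc.of_mem_Gv A hiu' hg)
  have hc'' : A.Crit P'' := by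
    intro h
    apply hgQ
    simp only [P'', Path.cons, Path.sub, show 1 + (k + 1) = k + 2 by omega] at h
    rwa [Vv, cj_mul] at h
  have e1 : A.R P = A.R P'' := by
    rw [← A.R_rev P, ← A.R_rev P'', A.R_eq hs P.rev (A.crit_rev hs P hc),
      A.R_eq hs P''.rev (A.crit_rev hs P'' hc'')]
    simp [Path.rev, P'', Path.cons, Path.sub, show 1 + (k + 1) = k + 2 by omega,
      show 1 + k = k + 1 by omega]
  have e2 : A.R P'' = cj g (A.R P') := by
    rw [A.R_eq hs P'' hc'', A.R_eq hs P' hc', cj_commutator]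
    simp [P'', Path.cons, Vv, Se, cj_mul]
  rw [e1, e2, A.cj_eq_of_le_Cv hg (hx1 ▸ A.R_le_C_one hs P' hc' hne)]

end Amb

end Cfsg.Agent.PushUp62
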