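import Cfsg.Agent.PushUp62.Extra
import Cfsg.Agent.LocalEven61.Qd
import Cfsg.Agent.Lib.LinearGroup.Generation
import Cfsg.Prelude.Def_TwoFusion

/-!
Splitting off the centre when `O_p` is abelian: the group is `Qd(q) × E`.
-/

set_option autoImplicit false
set_option linter.unusedSectionVars false
set_option linter.unusedVariables false
set_option linter.style.haveILetI false

namespace Cfsg.Agent.PushUp62

open scoped MatrixGroups commutatorElement
open Cfsg.Agent.LocalEven61 (qdAff qdAff_mul qd_ext qdLin qdTrans qdLin_qdAff qdTrans_qdAff qdAff_eta qdAff_zero_one)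

variable {G : Type*} [Group G] [Finite G] {p : ℕ} [Fact p.Prime] {F : Type} [Field F] [Fintype F]
  [CharP F p]

theorem commutator_SL2_eq_top (hp : 5 ≤ p) : ⁅(⊤ : Subgroup SL(2, F)), (⊤ : Subgroup SL(2, F))⁆ = ⊤ := by
  rw [← commutator_def]
  refine LinearGroup.commutator_SL_eq_top' fun _ => ⟨(2 : ℕ), ?_, ?_⟩
  · rw [ne_eq, CharP.cast_eq_zero_iff F p]
    exact fun h => absurd (Nat.le_of_dvd (by omega) h) (by omega)
  · intro h
    have h3 : ((3 : ℕ) : F) = 0 := by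
      push_cast at h ⊢
      linear_combination h
    rw [CharP.cast_eq_zero_iff F p] at h3
    exact absurd (Nat.le_of_dvd (by omega) h3) (by omega)

/-- A central `p`-element of the derived group is trivial when a Sylow `p`-subgroup is abelian. -/
theorem eq_one_of_mem_commutator {Γ : Type*} [Group Γ] [Finite Γ] (P : Sylow p Γ)
    (hP : ∀ a ∈ (P : Subgroup Γ), ∀ b ∈ (P : Subgroup Γ), a * b = b * a)
    {e : Γ} (hc : ∀ g, g * e = e * g) (hpe : ∃ k, e ^ p ^ k = 1)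
    (he : e ∈ ⁅(⊤ : Subgroup Γ), (⊤ : Subgroup Γ)⁆) : e = 1 := by
  letI : CommGroup ↥(P : Subgroup Γ) :=
    { (inferInstance : Group ↥(P : Subgroup Γ)) with
      mul_comm := fun a b => Subtype.ext (hP a a.2 b b.2) }
  haveI : (P : Subgroup Γ).FiniteIndex := inferInstance
  set τ := MonoidHom.transfer (MonoidHom.id ↥(P : Subgroup Γ))
  have hker : ⁅(⊤ : Subgroup Γ), ⊤⁆ ≤ τ.ker := Subgroup.commutator_le.2 fun a _ b _ => by
    rw [MonoidHom.mem_ker, map_commutatorElement, commutatorElement_eq_one_iff_mul_comm, mul_comm]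
  have h1 : τ e = 1 := hker he
  have key : ∀ (k : ℕ) (g₀ : Γ), g₀⁻¹ * e ^ k * g₀ ∈ (P : Subgroup Γ) → g₀⁻¹ * e ^ k * g₀ = e ^ k :=
    fun k g₀ _ => by
      rw [mul_assoc, ← ((show Commute g₀ e from hc g₀).pow_right k).eq, inv_mul_cancel_left]
  rw [MonoidHom.transfer_eq_pow _ e key] at h1
  have h2 : e ^ (P : Subgroup Γ).index = 1 := congrArg Subtype.val h1
  obtain ⟨k, hk⟩ := hpe
  have h3 := pow_gcd_eq_one.2 ⟨h2, hk⟩
  rw [((((Fact.out : p.Prime).coprime_iff_not_dvd.2 P.not_dvd_index).symm).pow_right k).gcd_eq_one,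
    pow_one] at h3
  exact h3

set_option maxHeartbeats 1000000 in
/-- The splitting. -/
theorem split_qd (hp : 5 ≤ p) (S : Sylow p G) (ρ : G →* SL(2, F)) (hρ : Function.Surjective ρ)
    {C V : Subgroup G} (D : NatFactor ρ V C) (hD : DistOne S ρ C V D)
    (hab : ∀ x ∈ Cfsg.pCore p G, ∀ y ∈ Cfsg.pCore p G, x * y = y * x)
    (hSS : ⁅(S : Subgroup G), (S : Subgroup G)⁆ ≤ ⁅(S : Subgroup G), V⁆) :
    ∃ G₀ E : Subgroup G, Cfsg.IsInternalDirectProduct G₀ E ⊤ ∧ Cfsg.IsElementaryAbelian p E ∧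
      Nonempty (↥G₀ ≃* ↥(Cfsg.qdOver F)) := by
  classical
  set Q := Cfsg.pCore p G with hQdef
  have hp2 : p ≠ 2 := by omega
  obtain ⟨r, hr⟩ := (Fact.out : p.Prime).odd_of_ne_two hp2
  have hQS : Q ≤ (S : Subgroup G) := Thompson.pCore_le_sylow S
  have hexpS := hD.exp hp2
  haveI hVn : V.Normal := D.normX
  have hSV : ⁅(S : Subgroup G), V⁆ ≤ V := Subgroup.commutator_le_right _ _
  have hQV : ∀ x ∈ Q, ∀ g : G, ⁅x, g⁆ ∈ V := fun x hx g => (hD.comm_le.trans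
    (sup_le (hSS.trans hSV) le_rfl)) (Subgroup.commutator_mem_commutator hx (Subgroup.mem_top g))
  have hkerQ : ∀ g, ρ g = 1 → g ∈ Q := fun g hg => by
    rw [hQdef, ← hD.ker]; exact hg
  have hQker : ∀ g ∈ Q, ρ g = 1 := fun g hg => by rw [← MonoidHom.mem_ker, hD.ker]; exact hg
  have hCcen : ∀ c ∈ C, ∀ g, g * c = c * g := fun c hc g =>
    (commutatorElement_eq_one_iff_mul_comm.1 (Subgroup.mem_bot.1
      (hD.cent ▸ Subgroup.commutator_mem_commutator hc (Subgroup.mem_top g)))).symm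
  have hCQ : C ≤ Q := D.le.trans hD.V_le
  set j := r + 1 with hj
  have hj2 : ∀ x ∈ Q, x ^ (2 * j) = x := fun x hx => by
    rw [show 2 * j = p + 1 by omega, pow_succ, hexpS x (hQS hx), one_mul]
  have hsq : ∀ x ∈ Q, x * x = 1 → x = 1 := fun x hx h => by
    rw [← hj2 x hx, pow_mul, sq, h, one_pow]
  -- the involution
  obtain ⟨h, hρh, hh⟩ : ∃ h, ρ h = -1 ∧ h * h = 1 := by
    obtain ⟨g₀, hg₀⟩ := hρ (-1)
    refine ⟨g₀ ^ p, ?_, ?_⟩
    · rw [map_pow, hg₀, Odd.neg_one_pow ⟨r, hr⟩]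
    · have hQ2 : g₀ ^ 2 ∈ Q := hkerQ _ (by rw [map_pow, hg₀, neg_one_sq])
      rw [← sq, ← pow_mul, mul_comm, pow_mul, hexpS _ (hQS hQ2)]
  have hinv : h⁻¹ = h := inv_eq_of_mul_eq_one_right hh
  have hhh : ∀ x : G, h * (h * x * h⁻¹) * h⁻¹ = x := fun x => by
    rw [hinv, show h * (h * x * h) * h = h * h * x * (h * h) by group, hh, one_mul, mul_one]
  have hcQ : ∀ {x}, x ∈ Q → ∀ g, g * x * g⁻¹ ∈ Q := fun hx g =>
    (inferInstance : Q.Normal).conj_mem _ hx g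
  have hconjQ : ∀ g : G, ∃ q ∈ Q, h * g * h⁻¹ = g * q := fun g => by
    refine ⟨g⁻¹ * (h * g * h⁻¹), hkerQ _ ?_, by group⟩
    rw [map_mul, map_mul, map_mul, map_inv, map_inv, hρh]
    apply Subtype.ext
    simp
  have hcrdh : ∀ x ∈ V, D.crd (h * x * h⁻¹) = - D.crd x := fun x hx => by
    rw [D.crd_conj h hx, hρh]; simp [Matrix.neg_mulVec]
  have htwo : ∀ v : Fin 2 → F, v = -v → v = 0 := fun v hv => funext fun i => by
    have h2 : ((2 : ℕ) : F) * v i = 0 := by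
      have := congrFun hv i
      rw [Pi.neg_apply] at this
      push_cast
      linear_combination this
    refine (mul_eq_zero.1 h2).resolve_left ?_
    rw [CharP.cast_eq_zero_iff F p]
    exact fun h => absurd (Nat.le_of_dvd (by omega) h) (by omega)
  -- the two eigenspaces
  let V₀ : Subgroup G :=
    { carrier := {x | x ∈ Q ∧ h * x * h⁻¹ = x⁻¹}
      one_mem' := ⟨Q.one_mem, by simp⟩
      mul_mem' := fun {x y} hx hy => ⟨Q.mul_mem hx.1 hy.1, by
        rw [show h * (x * y) * h⁻¹ = (h * x * h⁻¹) * (h * y * h⁻¹) by group, hx.2, hy.2, mul_inv_rev,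
          hab _ (Q.inv_mem hx.1) _ (Q.inv_mem hy.1)]⟩
      inv_mem' := fun {x} hx => ⟨Q.inv_mem hx.1, by
        rw [show h * x⁻¹ * h⁻¹ = (h * x * h⁻¹)⁻¹ by group, hx.2]⟩ }
  have hV₀ : ∀ {x}, x ∈ V₀ ↔ x ∈ Q ∧ h * x * h⁻¹ = x⁻¹ := Iff.rfl
  set E : Subgroup G := Q ⊓ Subgroup.centralizer {h} with hEdef
  have hE : ∀ {x}, x ∈ E ↔ x ∈ Q ∧ h * x * h⁻¹ = x := by
    intro x
    rw [hEdef, Subgroup.mem_inf, Subgroup.mem_centralizer_singleton_iff]
    refine and_congr_right fun _ => ⟨fun hx => ?_, fun hx => ?_⟩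
    · rw [← hx, mul_inv_cancel_right]
    · calc x * h = h * x * h⁻¹ * h := by rw [hx]
        _ = h * x := by group
  have hV₀V : V₀ ≤ V := fun x hx => by
    have h1 : x * x ∈ V := by
      have := hQV x hx.1 h
      rwa [commutatorElement_def, show x * h * x⁻¹ * h⁻¹ = x * (h * x⁻¹ * h⁻¹) by group,
        show h * x⁻¹ * h⁻¹ = (h * x * h⁻¹)⁻¹ by group, hx.2, inv_inv] at this
    rw [← hj2 x hx.1, pow_mul, sq]
    exact V.pow_mem h1 j
  have hVE : ∀ x, x ∈ V → h * x * h⁻¹ = x → x ∈ C := fun x hx hx' =>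
    (D.crd_eq_zero hx).1 (htwo _ (by conv_lhs => rw [← hx']; rw [hcrdh x hx]))
  have hint : ∀ x, x ∈ V₀ → h * x * h⁻¹ = x → x = 1 := fun x hx hx' =>
    hsq x hx.1 (by
      have := hx.2.symm.trans hx'
      calc x * x = x⁻¹ * x := by rw [this]
        _ = 1 := inv_mul_cancel x)
  have hCE : C ≤ E := fun c hc => hE.2 ⟨hCQ hc, by rw [hCcen c hc h, mul_inv_cancel_right]⟩
  have hdec : ∀ x ∈ Q, ∃ u ∈ V₀, ∃ w ∈ E, x = u * w := by
    intro x hx
    set k := h * x * h⁻¹ with hk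
    have hkQ : k ∈ Q := hcQ hx h
    have hkh : h * k * h⁻¹ = x := hhh x
    have hc : Commute x k := hab x hx k hkQ
    refine ⟨(x * k⁻¹) ^ j, hV₀.2 ⟨Q.pow_mem (Q.mul_mem hx (Q.inv_mem hkQ)) j, ?_⟩, (x * k) ^ j,
      hE.2 ⟨Q.pow_mem (Q.mul_mem hx hkQ) j, ?_⟩, ?_⟩
    · rw [← conj_pow, ← inv_pow, show h * (x * k⁻¹) * h⁻¹ = (h * x * h⁻¹) * (h * k * h⁻¹)⁻¹ by group,
        hkh, mul_inv_rev, inv_inv]
    · rw [← conj_pow, show h * (x * k) * h⁻¹ = (h * x * h⁻¹) * (h * k * h⁻¹) by group, hkh, hc.eq]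
    · have hcc : Commute (x * k⁻¹) (x * k) :=
        hab _ (Q.mul_mem hx (Q.inv_mem hkQ)) _ (Q.mul_mem hx hkQ)
      rw [← hcc.mul_pow, show x * k⁻¹ * (x * k) = x ^ 2 by
        rw [sq, mul_assoc, ← mul_assoc k⁻¹, ← hc.inv_right.eq, mul_assoc, inv_mul_cancel, mul_one],
        ← pow_mul, hj2 x hx]
  have hV₀n : V₀.Normal := ⟨fun x hx g => by
    obtain ⟨q, hq, hgq⟩ := hconjQ g
    refine hV₀.2 ⟨hcQ hx.1 g, ?_⟩
    rw [show h * (g * x * g⁻¹) * h⁻¹ = (h * g * h⁻¹) * (h * x * h⁻¹) * (h * g * h⁻¹)⁻¹ by group, hgq,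
      hx.2, show g * q * x⁻¹ * (g * q)⁻¹ = g * (q * x⁻¹ * q⁻¹) * g⁻¹ by group,
      hab q hq _ (Q.inv_mem hx.1)]
    group⟩
  -- `E` is central
  have hEc : ∀ e ∈ E, ∀ g, g * e = e * g := by
    intro e he
    obtain ⟨heQ, heh⟩ := hE.1 he
    have hC' : ∀ g, ⁅g, e⁆ ∈ C := fun g => by
      obtain ⟨q, hq, hgq⟩ := hconjQ g
      refine hVE _ (commutator_mem_symm (hQV e heQ g)) ?_
      rw [conj_commutator, heh, hgq, commutator_mul_left,
        commutatorElement_eq_one_iff_mul_comm.2 (hab q hq e heQ), mul_one, mul_inv_cancel, one_mul]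
    let χ : G →* G :=
      { toFun := fun g => ⁅g, e⁆
        map_one' := commutatorElement_one_left e
        map_mul' := fun g g' => by
          rw [commutator_mul_left, hCcen _ (hC' g') g, mul_inv_cancel_right,
            hCcen _ (hC' g') _] }
    have hker : ⁅(⊤ : Subgroup G), (⊤ : Subgroup G)⁆ ≤ χ.ker := Subgroup.commutator_le.2 fun a _ b _ => by
      rw [MonoidHom.mem_ker, map_commutatorElement, commutatorElement_eq_one_iff_mul_comm]
      exact (hCcen _ (hC' a) (⁅b, e⁆)).symm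
    intro g
    have hg : ρ g ∈ (⁅(⊤ : Subgroup G), (⊤ : Subgroup G)⁆ : Subgroup G).map ρ := by
      rw [Subgroup.map_commutator, Subgroup.map_top_of_surjective ρ hρ, commutator_SL2_eq_top hp]
      trivial
    obtain ⟨c, hc, hcg⟩ := hg
    have hq : c⁻¹ * g ∈ Q := hkerQ _ (by rw [map_mul, map_inv, hcg, inv_mul_cancel])
    have h1 : χ g = 1 := by
      rw [show g = c * (c⁻¹ * g) by group, map_mul, MonoidHom.mem_ker.1 (hker hc), one_mul]
      exact commutatorElement_eq_one_iff_mul_comm.2 (hab _ hq e heQ)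
    exact commutatorElement_eq_one_iff_mul_comm.1 h1
  -- the translation part
  have hxg : ∀ g, ⁅g, h⁆ ∈ V₀ := fun g => by
    refine hV₀.2 ⟨hkerQ _ ?_, ?_⟩
    · rw [map_commutatorElement, hρh, commutatorElement_eq_one_iff_mul_comm]
      apply Subtype.ext; simp
    · rw [commutatorElement_inv, commutatorElement_def, commutatorElement_def, hinv,
        show h * (g * h * g⁻¹ * h) * h = h * g * h * g⁻¹ * (h * h) by group, hh, mul_one]
  let τ : G → (Fin 2 → F) := fun g => D.crd (⁅g, h⁆ ^ j)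
  have hτ : ∀ g g', τ (g * g') = τ g + (ρ g).1.mulVec (τ g') := fun g g' => by
    have h1 := hV₀n.conj_mem _ (hxg g') g
    show D.crd (⁅g * g', h⁆ ^ j) = _
    rw [commutator_mul_left, (show Commute _ ⁅g, h⁆ from hab _ h1.1 _ (hxg g).1).mul_pow,
      conj_pow, D.crd_mul (hV₀V (hV₀n.conj_mem _ (V₀.pow_mem (hxg g') j) g))
        (hV₀V (V₀.pow_mem (hxg g) j)), D.crd_conj g (hV₀V (V₀.pow_mem (hxg g') j)), add_comm]
  let Φ : G →* ↥(Cfsg.qdOver F) := MonoidHom.mk' (fun g => qdAff (τ g) (ρ g)) fun g g' => by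
    rw [qdAff_mul, hτ, map_mul]
  have hΦV : ∀ v ∈ V₀, Φ v = qdAff (D.crd v) 1 := fun v hv => by
    show qdAff (D.crd (⁅v, h⁆ ^ j)) (ρ v) = _
    rw [commutatorElement_def, show v * h * v⁻¹ * h⁻¹ = v * (h * v * h⁻¹)⁻¹ by group, hv.2, inv_inv,
      ← sq, ← pow_mul, hj2 v hv.1, hQker v hv.1]
  have hΦC : ∀ g, h * g = g * h → Φ g = qdAff 0 (ρ g) := fun g hg => by
    show qdAff (D.crd (⁅g, h⁆ ^ j)) (ρ g) = _
    rw [commutatorElement_eq_one_iff_mul_comm.2 hg.symm, one_pow, D.crd_one]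
  -- the centralizer of `h` and its derived group
  set Ch := Subgroup.centralizer ({h} : Set G) with hChdef
  have hCh : ∀ {g}, g ∈ Ch ↔ g * h = h * g := Subgroup.mem_centralizer_singleton_iff
  have hfac : ∀ g, ∃ y ∈ V₀, ∃ g' ∈ Ch, g = y * g' := fun g => by
    set x := ⁅g, h⁆ with hx
    have hxV := hxg g
    set y := x ^ j
    have hyV : y ∈ V₀ := V₀.pow_mem hxV j
    refine ⟨y, hyV, y⁻¹ * g, hCh.2 ?_, (mul_inv_cancel_left y g).symm⟩
    have hgh : g * h = x * h * g := by rw [hx, commutatorElement_def]; group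
    have hyy : y * y = x := by rw [← sq, ← pow_mul, mul_comm, hj2 x hxV.1]
    have hyh : h * y⁻¹ = y * h := by
      have := hyV.2
      rw [← this, show h * (h * y * h⁻¹) = h * h * (y * h⁻¹) by group, hh, one_mul, hinv]
    calc y⁻¹ * g * h = y⁻¹ * (x * h * g) := by rw [mul_assoc, hgh]
      _ = y * h * g := by rw [← hyy]; group
      _ = h * (y⁻¹ * g) := by rw [← hyh, mul_assoc]
  set L := ⁅Ch, Ch⁆ with hLdef
  have hLCh : L ≤ Ch := Subgroup.commutator_le.2 fun a ha b hb =>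
    Ch.mul_mem (Ch.mul_mem (Ch.mul_mem ha hb) (Ch.inv_mem ha)) (Ch.inv_mem hb)
  have hLsurj : ∀ A, ∃ l ∈ L, ρ l = A := fun A => by
    have h1 : Ch.map ρ = ⊤ := eq_top_iff.2 fun A _ => by
      obtain ⟨g, rfl⟩ := hρ A
      obtain ⟨y, hy, g', hg', rfl⟩ := hfac g
      exact ⟨g', hg', by rw [map_mul, hQker y hy.1, one_mul]⟩
    have h2 : A ∈ L.map ρ := by
      rw [hLdef, Subgroup.map_commutator, h1, commutator_SL2_eq_top hp]; trivial
    obtain ⟨l, hl, hlA⟩ := h2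
    exact ⟨l, hl, hlA⟩
  have hLQ : ∀ l ∈ L, l ∈ Q → l = 1 := by
    intro l hl hlQ
    have hlE : l ∈ E := ⟨hlQ, hLCh hl⟩
    let P : Sylow p ↥Ch := Classical.arbitrary _
    have hPab : ∀ a ∈ (P : Subgroup ↥Ch), ∀ b ∈ (P : Subgroup ↥Ch), a * b = b * a := by
      intro a ha b hb
      obtain ⟨S', hS'⟩ := (P.2.map Ch.subtype).exists_le_sylow
      obtain ⟨g, hg⟩ := MulAction.exists_smul_eq G S S'
      have key : ⁅(a : G), (b : G)⁆ ∈ V₀ := by
        have hab' : ⁅(a : G), (b : G)⁆ ∈ ⁅(S' : Subgroup G), (S' : Subgroup G)⁆ :=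
          Subgroup.commutator_mem_commutator (hS' ⟨a, ha, rfl⟩) (hS' ⟨b, hb, rfl⟩)
        rw [← hg, LocalEven61.sylow_smul_coe, ← Subgroup.map_commutator] at hab'
        obtain ⟨y, hy, hyab⟩ := hab'
        rw [← hyab]
        refine hV₀n.conj_mem y ?_ g
        refine (hSS.trans (Subgroup.commutator_le.2 fun s hs v hv => ?_)) hy
        obtain ⟨q, hq, hsq'⟩ := hconjQ s
        have hw : ⁅s, v⁆ ∈ V := hSV (Subgroup.commutator_mem_commutator hs hv)
        have hvQ := hD.V_le hv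
        refine hV₀.2 ⟨hD.V_le hw, ?_⟩
        have hc0 : h * v * h⁻¹ * v ∈ C := by
          have h1 : h * v * h⁻¹ ∈ V := hVn.conj_mem v hv h
          refine (D.crd_eq_zero (V.mul_mem h1 hv)).1 ?_
          rw [D.crd_mul h1 hv, hcrdh v hv, neg_add_cancel]
        obtain ⟨c, hcC, hv'⟩ : ∃ c ∈ C, h * v * h⁻¹ = c * v⁻¹ :=
          ⟨h * v * h⁻¹ * v, hc0, (mul_inv_cancel_right _ _).symm⟩
        have hvQ' : v⁻¹ ∈ Q := Q.inv_mem hvQ
        rw [conj_commutator, hsq', hv', commutator_mul_right,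
          commutatorElement_eq_one_iff_mul_comm.2 (hCcen _ hcC _), one_mul,
          (hCcen _ hcC _).symm, mul_inv_cancel_right, commutator_mul_left,
          commutatorElement_eq_one_iff_mul_comm.2 (hab q hq _ hvQ'), mul_one, mul_inv_cancel, one_mul]
        have : ⁅s, v⁻¹⁆ = v⁻¹ * ⁅s, v⁆⁻¹ * v := by simp only [commutatorElement_def]; group
        rw [this, hab _ hvQ' _ (Q.inv_mem (hD.V_le hw)), inv_mul_cancel_right]
      have hfix : h * ⁅(a : G), (b : G)⁆ * h⁻¹ = ⁅(a : G), (b : G)⁆ := by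
        rw [conj_commutator, ← hCh.1 a.2, mul_inv_cancel_right, ← hCh.1 b.2, mul_inv_cancel_right]
      exact Subtype.ext (commutatorElement_eq_one_iff_mul_comm.1 (hint _ key hfix))
    have hmem : (⟨l, hLCh hl⟩ : ↥Ch) ∈ ⁅(⊤ : Subgroup ↥Ch), (⊤ : Subgroup ↥Ch)⁆ := by
      have : (⁅(⊤ : Subgroup ↥Ch), (⊤ : Subgroup ↥Ch)⁆ : Subgroup ↥Ch).map Ch.subtype = L := by
        rw [Subgroup.map_commutator, ← MonoidHom.range_eq_map, Subgroup.range_subtype]
      rw [← this] at hl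
      obtain ⟨x, hx, hxl⟩ := hl
      rwa [← show x = ⟨l, _⟩ from Subtype.ext hxl]
    have := eq_one_of_mem_commutator P hPab (e := ⟨l, hLCh hl⟩)
      (fun g => Subtype.ext (hEc l hlE g)) ⟨1, Subtype.ext (by simpa using hexpS l (hQS hlQ))⟩ hmem
    exact congrArg Subtype.val this
  haveI := hV₀n
  refine ⟨V₀ ⊔ L, E, ⟨le_top, le_top, fun a _ b hb => hEc b hb a, ?_, ?_⟩, ?_, ?_⟩
  · refine le_bot_iff.1 fun x hx => Subgroup.mem_bot.2 ?_
    obtain ⟨v, hv, l, hl, rfl⟩ := (Subgroup.mem_sup_of_normal_left (s := V₀) (t := L)).1 hx.1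
    obtain ⟨hxQ, hxh⟩ := hE.1 hx.2
    have hlQ : l ∈ Q := by
      have := Q.mul_mem (Q.inv_mem hv.1) hxQ
      rwa [inv_mul_cancel_left] at this
    rw [hLQ l hl hlQ, mul_one] at hxh ⊢
    exact hint v hv hxh
  · refine eq_top_iff.2 fun g _ => ?_
    obtain ⟨y, hy, g', hg', rfl⟩ := hfac g
    obtain ⟨l, hl, hlg⟩ := hLsurj (ρ g')
    have he : l⁻¹ * g' ∈ E :=
      ⟨hkerQ _ (by rw [map_mul, map_inv, hlg, inv_mul_cancel]), Ch.mul_mem (Ch.inv_mem (hLCh hl)) hg'⟩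
    rw [show y * g' = (y * l) * (l⁻¹ * g') by group]
    exact Subgroup.mul_mem_sup (Subgroup.mul_mem_sup hy hl) he
  · exact ⟨⟨⟨fun a b => Subtype.ext (hab _ a.2.1 _ b.2.1)⟩⟩, fun a ha => hexpS a (hQS ha.1)⟩
  · refine ⟨MulEquiv.ofBijective (Φ.comp (V₀ ⊔ L).subtype) ⟨?_, fun M => ?_⟩⟩
    · rw [← MonoidHom.ker_eq_bot_iff, eq_bot_iff]
      rintro ⟨x, hx⟩ hx1
      obtain ⟨v, hv, l, hl, rfl⟩ := (Subgroup.mem_sup_of_normal_left (s := V₀) (t := L)).1 hx
      have h1 : qdAff (D.crd v) 1 * qdAff 0 (ρ l) = 1 := by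
        rw [← hΦV v hv, ← hΦC l (hCh.1 (hLCh hl)).symm, ← map_mul]
        exact hx1
      rw [qdAff_mul, Matrix.mulVec_zero, add_zero, one_mul, ← qdAff_zero_one] at h1
      have hl1 : ρ l = 1 := by simpa [qdLin_qdAff] using congrArg qdLin h1
      have hv1 : D.crd v = 0 := by simpa [qdTrans_qdAff] using congrArg qdTrans h1
      have hv' : v = 1 := hint v hv (hE.1 (hCE ((D.crd_eq_zero (hV₀V hv)).1 hv1))).2
      exact Subgroup.mem_bot.2 (Subtype.ext (by simp [hv', hLQ l hl (hkerQ l hl1)]))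
    · obtain ⟨v₁, hv₁, hvu⟩ := D.crd_surj (qdTrans M)
      obtain ⟨u, hu, w, hw, e⟩ := hdec v₁ (hD.V_le hv₁)
      obtain ⟨l, hl, hlA⟩ := hLsurj (qdLin M)
      refine ⟨⟨u * l, Subgroup.mul_mem_sup hu hl⟩, ?_⟩
      show Φ (u * l) = M
      rw [map_mul, hΦV u hu, hΦC l (hCh.1 (hLCh hl)).symm, qdAff_mul, Matrix.mulVec_zero, add_zero,
        one_mul, hlA]
      have hwV : w ∈ V := by
        have := V.mul_mem (V.inv_mem (hV₀V hu)) hv₁
        rwa [e, inv_mul_cancel_left] at this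
      have : D.crd u = qdTrans M := by
        rw [← hvu, e, D.crd_mul (hV₀V hu) hwV, (D.crd_eq_zero hwV).2 (hVE w hwV (hE.1 hw).2), add_zero]
      rw [this, qdAff_eta]

end Cfsg.Agent.PushUp62
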